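import Cfsg.Agent.M12Type.GlueData8

/-!
Composing an embedding of the numbered centraliser with one of four automorphisms.
-/

set_option autoImplicit false
set_option maxRecDepth 100000

namespace CfsgLib.M12Type.Eight

open CfsgLib.CosetEnum (allBelow)

/-- the four automorphisms -/
def auts8 : List ℕ := [kindAut, acAut, toC, toA]

/-- bounded, injective, multiplicative and fixing the centre -/
noncomputable def aut8OK (M : ℕ) : Bool :=
  Nat.beq (look8 M uI8) uI8 && Nat.beq (look8 M 0) 0 &&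
    allBelow (fun i => Nat.blt (look8 M i) 192 && (Nat.beq i 0 || !(Nat.beq (look8 M i) 0)) &&
      Nat.beq (look8 M (mul8 i 1)) (mul8 (look8 M i) (look8 M 1)) &&
      Nat.beq (look8 M (mul8 i 2)) (mul8 (look8 M i) (look8 M 2))) 192

theorem auts8_check : auts8.all aut8OK = true := by decide +kernel

theorem mul8_assoc {i j k : ℕ} (hi : i < 192) (hj : j < 192) (hk : k < 192) :
    mul8 (mul8 i j) k = mul8 i (mul8 j k) :=
  el8_inj (mul8_lt (mul8_lt hi hj) hk) (mul8_lt hi (mul8_lt hj hk)) (by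
    rw [el8_mul k hk _ (mul8_lt hi hj), el8_mul j hj i hi, el8_mul _ (mul8_lt hj hk) i hi,
      el8_mul k hk j hj, mul_assoc])

theorem aut8_spec {M : ℕ} (hM : M ∈ auts8) : look8 M uI8 = uI8 ∧
    (∀ i < 192, look8 M i < 192 ∧ (i ≠ 0 → look8 M i ≠ 0)) ∧
    ∀ i < 192, ∀ j < 192, look8 M (mul8 i j) = mul8 (look8 M i) (look8 M j) := by
  have h := List.all_eq_true.1 auts8_check M hM
  simp only [aut8OK, Bool.and_eq_true, beq_spec] at h
  obtain ⟨⟨hu, h0⟩, hall⟩ := h
  have hrow : ∀ i < 192, look8 M i < 192 ∧ (i ≠ 0 → look8 M i ≠ 0) ∧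
      look8 M (mul8 i 1) = mul8 (look8 M i) (look8 M 1) ∧
      look8 M (mul8 i 2) = mul8 (look8 M i) (look8 M 2) := by
    intro i hi
    have := allBelow_spec hall i hi
    simp only [Bool.and_eq_true, Bool.or_eq_true, Bool.not_eq_true', beq_spec, beq_false_spec,
      blt_spec] at this
    obtain ⟨⟨⟨a, b⟩, c⟩, d⟩ := this
    exact ⟨a, fun hne => b.resolve_left hne, c, d⟩
  refine ⟨hu, fun i hi => ⟨(hrow i hi).1, (hrow i hi).2.1⟩, fun i hi j => ?_⟩
  induction j using Nat.strong_induction_on with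
  | _ j ih =>
    intro hj
    rcases eq_or_ne j 0 with rfl | hne
    · rw [(row8 hi).1, h0, (row8 (hrow i hi).1).1]
    · obtain ⟨hp, hl, hm⟩ := tree8 hj hne
      have hp' : par8 j < 192 := hp.trans hj
      have hj' := hm 0 (by norm_num)
      rw [(row8 hj).2.1, (row8 hp').2.1] at hj'
      rw [hm i hi]
      conv_rhs => rw [hj']
      rcases hl with e | e <;> rw [e]
      · rw [(hrow _ (mul8_lt hi hp')).2.2.1, (hrow _ hp').2.2.1, ih _ hp hp',
          mul8_assoc (hrow i hi).1 (hrow _ hp').1 (hrow 1 (by norm_num)).1]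
      · rw [(hrow _ (mul8_lt hi hp')).2.2.2, (hrow _ hp').2.2.2, ih _ hp hp',
          mul8_assoc (hrow i hi).1 (hrow _ hp').1 (hrow 2 (by norm_num)).1]

variable {G : Type*} [Group G] {f : ℕ → G} {s : G}

theorem Emb8.comp_aut (h : Emb8 f s) {M : ℕ} (hM : M ∈ auts8) :
    Emb8 (fun i => f (look8 M i)) s := by
  obtain ⟨hu, hlt, hmul⟩ := aut8_spec hM
  have hinj : ∀ i < 192, ∀ j < 192, look8 M i = look8 M j → i = j := by
    intro i hi j hj e
    by_contra hne
    have hk : mul8 i (inv8 j) ≠ 0 := fun e0 => hne <| h.inj i hi j hj <| by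
      have := congrArg f e0
      rwa [h.mul i hi _ (inv8_lt hj), h.map_inv hj, h.map_zero, mul_inv_eq_one] at this
    apply (hlt _ (mul8_lt hi (inv8_lt hj))).2 hk
    rw [hmul i hi _ (inv8_lt hj), e, ← hmul j hj _ (inv8_lt hj), (inv8_facts hj).2.1]
    have := List.all_eq_true.1 auts8_check M hM
    simp only [aut8OK, Bool.and_eq_true, beq_spec] at this
    exact this.1.2
  refine ⟨fun i hi j hj => ?_, fun i hi j hj e => hinj i hi j hj
    (h.inj _ (hlt i hi).1 _ (hlt j hj).1 e), fun y hy => ?_, by rw [hu, h.map_u]⟩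
  · show f (look8 M (mul8 i j)) = _
    rw [hmul i hi j hj, h.mul _ (hlt i hi).1 _ (hlt j hj).1]
  · obtain ⟨k, hk, rfl⟩ := h.surj y hy
    have hbij : Function.Bijective (fun i : Fin 192 => (⟨look8 M i, (hlt i i.2).1⟩ : Fin 192)) :=
      Finite.injective_iff_bijective.1 fun a b e =>
        Fin.ext (hinj a a.2 b b.2 (congrArg Fin.val e))
    obtain ⟨i, hi⟩ := hbij.2 ⟨k, hk⟩
    exact ⟨i, i.2, congrArg f (congrArg Fin.val hi)⟩

/-- the effect of the automorphisms on the classes -/
theorem aut8_classes : look8 toC bI8 = cI8 ∧ look8 toA bI8 = aI8 ∧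
    look8 kindAut bI8 = bI8 ∧ look8 acAut bI8 = bI8 ∧
    cls8 (look8 kindAut aI8) = 8 ∧ cls8 (look8 kindAut cI8) = 7 ∧
    cls8 (look8 acAut aI8) = 7 ∧ cls8 (look8 acAut cI8) = 8 ∧
    cls8 (look8 toC aI8) = 8 ∧ cls8 (look8 toA cI8) = 7 := by
  decide +kernel

/-- the automorphism `acAut` permutes the gluing maps, `kindAut` carries one kind to the other -/
noncomputable def permOK (M : ℕ) (L L' : List ℕ) : Bool :=
  L.all fun F => L'.any fun F' => allBelow (fun k => inPb8 (look8 M (pel8 k)) &&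
    Nat.beq (look8 F (look8 M (pel8 k))) (look8 M (look8 F' (pel8 k)))) 32

theorem perm_checks : permOK kindAut maps2 maps1 = true ∧ permOK acAut maps1 maps1 = true := by
  decide +kernel

end CfsgLib.M12Type.Eight
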