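import Cfsg.Agent.M12Type.InA8
import Cfsg.Agent.ZStar.Theorem
import Cfsg.Agent.CentralizerD8.HalfFused

/-!
The centraliser of the second class of involutions, when the numbered centraliser lies in a
subgroup isomorphic to the alternating group of degree 8 and the two classes are not fused: it has
order 96 or 480, and in the first case the group is the alternating group.
-/

set_option autoImplicit false
set_option maxRecDepth 100000

namespace CfsgLib.M12Type.Eight

open CfsgLib.CosetEnum (allBelow)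
open CfsgLib.StronglyEmbedded (orderOf_two_iff orderOf_conj)

/-! ### General lemmas -/

section General

variable {G : Type*} [Group G] [Finite G]

/-- A 2-subgroup containing its normaliser in `H` is a Sylow 2-subgroup of `H`. -/
theorem exists_sylow_of_self {H D : Subgroup G} (hD : IsPGroup 2 D) (hDH : D ≤ H)
    (hself : ∀ n ∈ H, (∀ x ∈ D, n * x * n⁻¹ ∈ D) → n ∈ D) :
    ∃ T : Sylow 2 H, (T : Subgroup H) = D.subgroupOf H := by
  haveI : Fact (Nat.Prime 2) := ⟨Nat.prime_two⟩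
  have hp : IsPGroup 2 (D.subgroupOf H) := hD.of_equiv (Subgroup.subgroupOfEquivOfLe hDH).symm
  obtain ⟨T, hT⟩ := hp.exists_le_sylow
  refine ⟨T, (hT.antisymm ?_).symm⟩
  by_contra hn
  have hlt : (D.subgroupOf H).subgroupOf (T : Subgroup H) < ⊤ :=
    lt_top_iff_ne_top.2 fun e => hn (Subgroup.subgroupOf_eq_top.1 e)
  haveI : Group.IsNilpotent (T : Subgroup H) := T.2.isNilpotent
  obtain ⟨n, hn1, hn2⟩ := SetLike.exists_of_lt
    (Group.normalizerCondition_of_isNilpotent (G := (T : Subgroup H)) _ hlt)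
  refine hn2 ?_
  rw [Subgroup.mem_subgroupOf, Subgroup.mem_subgroupOf]
  refine hself _ (n : H).2 fun x hx => ?_
  have := (Subgroup.mem_normalizer_iff.1 hn1
    ⟨⟨x, hDH hx⟩, hT (by rw [Subgroup.mem_subgroupOf]; exact hx)⟩).1 (by
      rw [Subgroup.mem_subgroupOf, Subgroup.mem_subgroupOf]; exact hx)
  rw [Subgroup.mem_subgroupOf, Subgroup.mem_subgroupOf] at this
  exact this

/-- Every 2-subgroup of `H` is conjugate into such a subgroup. -/
theorem exists_conj_le_of_self {H D Q : Subgroup G} (hD : IsPGroup 2 D) (hDH : D ≤ H)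
    (hself : ∀ n ∈ H, (∀ x ∈ D, n * x * n⁻¹ ∈ D) → n ∈ D) (hQ : IsPGroup 2 Q) (hQH : Q ≤ H) :
    ∃ k ∈ H, ∀ x ∈ Q, k * x * k⁻¹ ∈ D := by
  haveI : Fact (Nat.Prime 2) := ⟨Nat.prime_two⟩
  obtain ⟨T, hT⟩ := exists_sylow_of_self hD hDH hself
  obtain ⟨U, hU⟩ := (hQ.of_equiv (Subgroup.subgroupOfEquivOfLe hQH).symm).exists_le_sylow
  obtain ⟨k, hk⟩ := MulAction.exists_smul_eq H U T
  refine ⟨k, k.2, fun x hx => ?_⟩
  have hm : k * ⟨x, hQH hx⟩ * k⁻¹ ∈ (T : Subgroup H) := by
    rw [← hk]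
    exact Subgroup.mem_map.mpr ⟨⟨x, hQH hx⟩, hU (by rw [Subgroup.mem_subgroupOf]; exact hx), rfl⟩
  rw [hT, Subgroup.mem_subgroupOf] at hm
  exact hm

/-- A fixed-point-free involution inverts. -/
theorem inverts_of_fpf {M : Subgroup G} [M.Normal] {x : G} (hx : x * x = 1)
    (hfix : ∀ m ∈ M, x * m = m * x → m = 1) {m : G} (hm : m ∈ M) : x * m * x = m⁻¹ := by
  have hxi : x⁻¹ = x := inv_eq_of_mul_eq_one_right hx
  have hc : ∀ n ∈ M, x * n * x ∈ M := fun n hn => by
    have := (inferInstance : M.Normal).conj_mem n hn x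
    rwa [hxi] at this
  have hinj : Function.Injective fun n : M => (⟨(n : G)⁻¹ * (x * n * x),
      mul_mem (inv_mem n.2) (hc n n.2)⟩ : M) := by
    intro a b e
    have e' := congrArg Subtype.val e
    simp only at e'
    have h1 : x * ((a : G) * (b : G)⁻¹) * x = (a : G) * (b : G)⁻¹ := by
      calc x * ((a : G) * (b : G)⁻¹) * x = x * a * x * (x⁻¹ * x⁻¹) * (x⁻¹ * b * x⁻¹)⁻¹ := by group
        _ = a * ((a : G)⁻¹ * (x * a * x)) * (x * b * x)⁻¹ := by
          rw [hxi, hx]; group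
        _ = _ := by rw [e']; group
    have h2 := hfix _ (mul_mem a.2 (inv_mem b.2)) (by
      conv_rhs => rw [← h1]
      rw [mul_assoc (x * _) x x, hx, mul_one])
    exact Subtype.ext (mul_inv_eq_one.1 h2)
  obtain ⟨n, hn⟩ := (Finite.injective_iff_surjective.1 hinj) ⟨m, hm⟩
  have e := congrArg Subtype.val hn
  simp only at e
  rw [← e]
  calc x * ((n : G)⁻¹ * (x * n * x)) * x = x * (n : G)⁻¹ * x * n * (x * x) := by group
    _ = x⁻¹ * (n : G)⁻¹ * x⁻¹ * n := by rw [hx, mul_one, hxi]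
    _ = _ := by group

/-- No nontrivial normal subgroup is inverted by two involutions and their product. -/
theorem eq_one_of_three {M : Subgroup G} [M.Normal] {x y : G} (hx : x * x = 1) (hy : y * y = 1)
    (fx : ∀ m ∈ M, x * m = m * x → m = 1)
    (fy : ∀ m ∈ M, y * m = m * y → m = 1) (fxy : ∀ m ∈ M, x * y * m = m * (x * y) → m = 1)
    {m : G} (hm : m ∈ M) : m = 1 := by
  refine fxy m hm ?_
  have h1 := inverts_of_fpf hx fx (inv_mem hm)
  have h2 := inverts_of_fpf hy fy hm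
  rw [inv_inv] at h1
  calc x * y * m = x * (y * m * y) * (x * x) * (y⁻¹) := by rw [hx]; group
    _ = x * m⁻¹ * x * (x * y⁻¹) := by rw [h2]; group
    _ = m * (x * y) := by rw [h1, inv_eq_of_mul_eq_one_right hy]

end General

/-! ### Checked facts -/

/-- the four-group containing `aI8` -/
noncomputable def inV8 (i : ℕ) : Bool :=
  Nat.beq i 0 || Nat.beq i aI8 || Nat.beq i vI8 || Nat.beq i vzI8

theorem cent8_pow : allBelow (fun i => impB (com8 i aI8 || com8 i vI8)
    (Nat.beq (mul8 (mul8 i i) (mul8 i i)) 0)) 192 = true := by decide +kernel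

theorem cent8_center : allBelow (fun i => impB (com8 i aI8 && isInv8 i && sTy8 i &&
    allBelow (fun j => impB (com8 j aI8) (com8 i j)) 192) (Nat.beq i uI8)) 192 = true := by
  decide +kernel

theorem cent8_cand : allBelow (fun i => impB (com8 i aI8 && isInv8 i && zTy8 i &&
    zTy8 (mul8 i aI8) && !(Nat.beq i vI8) && !(Nat.beq i vzI8))
    (allBelow (fun j => impB (com8 j aI8 && com8 j i && isInv8 j && sTy8 j) (Nat.beq j uI8)) 192))
    192 = true := by decide +kernel

theorem cent8_four : allBelow (fun i => impB (inV8 i) (com8 i aI8 && inV8 (inv8 i) &&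
      allBelow (fun j => impB (inV8 j) (inV8 (mul8 i j))) 192)) 192 = true ∧
    ((List.range 192).filter inV8).length = 4 ∧
    ((List.range 192).filter (fun i => com8 i aI8)).length = 32 := by decide +kernel

theorem cent8_consts :
    mul8 vI8 aI8 = vzI8 ∧ mul8 uI8 bI8 = sbI8 ∧ mul8 bI8 uI8 = sbI8 ∧
    com8 uI8 aI8 = true ∧ com8 bI8 aI8 = true ∧ com8 sbI8 aI8 = true ∧ com8 vI8 aI8 = true ∧
    com8 bI8 vI8 = true ∧ com8 uI8 vI8 = true ∧ com8 aI8 aI8 = true ∧
    isInv8 vI8 = true ∧ isInv8 vzI8 = true ∧ isInv8 sbI8 = true ∧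
    sTy8 bI8 = true ∧ sTy8 uI8 = true ∧ zTy8 vI8 = true ∧ zTy8 vzI8 = true ∧ bI8 ≠ uI8 := by
  decide +kernel

theorem cent8_data :
    com8 oddI8 aI8 = true ∧ com8 fourI8 aI8 = true ∧ inV8 uI8 = false ∧
    inV8 (mul8 (inv8 (mul8 fourI8 fourI8)) uI8) = true ∧
    inV8 (mul8 oddI8 oddI8) = true ∧
    inV8 (mul8 (inv8 (mul8 (mul8 oddI8 fourI8) (inv8 oddI8))) (inv8 fourI8)) = true ∧
    inV8 (mul8 (inv8 (mul8 oddI8 uI8)) (mul8 uI8 oddI8)) = true ∧
    inV8 oddI8 = false ∧ inV8 (mul8 (inv8 fourI8) oddI8) = false ∧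
    inV8 (mul8 (inv8 uI8) oddI8) = false ∧ inV8 (mul8 (inv8 (inv8 fourI8)) oddI8) = false ∧
    inV8 (mul8 (inv8 o3I8) (mul8 oddI8 fourI8)) = true ∧
    com8 o3I8 aI8 = true ∧
    allBelow (fun i => impB (inV8 i && isInv8 (mul8 oddI8 i)) (zTy8 (mul8 oddI8 i))) 192 = true ∧
    allBelow (fun i => impB (inV8 i) (Nat.beq (mul8 uI8 i) uI8 || (zTy8 (mul8 uI8 i)) ||
      sTy8 (mul8 (mul8 uI8 i) aI8))) 192 = true ∧
    zTy8 (mul8 uI8 aI8) = true := by
  decide +kernel

/-! ### The centraliser -/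

variable {G : Type*} [Group G] {f : ℕ → G} {s : G} {L : Subgroup G}

/-- the centraliser of the second representative -/
abbrev cz8 (f : ℕ → G) : Subgroup G := Subgroup.centralizer ({f aI8} : Set G)

theorem Emb8.mem_cz8 (h : Emb8 f s) {i : ℕ} (hi : i < 192) (hc : com8 i aI8 = true) :
    f i ∈ cz8 f :=
  Subgroup.mem_centralizer_singleton_iff.mpr ((h.com_iff hi const8_lt.2.1).1 hc)

theorem mem_cz8_iff {y : G} : y ∈ cz8 f ↔ y * f aI8 = f aI8 * y :=
  Subgroup.mem_centralizer_singleton_iff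

theorem Emb8.a_sq (h : Emb8 f s) : f aI8 * f aI8 = 1 :=
  (orderOf_two_iff.1 (h.orderOf_invol const8_lt.2.1 const8_inv.2.1)).1

/-- the centraliser of `s` in it -/
theorem Emb8.of_inf (h : Emb8 f s) {y : G}
    (hy : y ∈ cz8 f ⊓ Subgroup.centralizer ({s} : Set G)) :
    ∃ i < 192, com8 i aI8 = true ∧ f i = y := by
  obtain ⟨i, hi, e⟩ := h.surj y (Subgroup.mem_centralizer_singleton_iff.mp hy.2)
  exact ⟨i, hi, (h.com_iff hi const8_lt.2.1).2 (e ▸ mem_cz8_iff.1 hy.1), e⟩

theorem Emb8.mem_inf (h : Emb8 f s) {i : ℕ} (hi : i < 192) (hc : com8 i aI8 = true) :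
    f i ∈ cz8 f ⊓ Subgroup.centralizer ({s} : Set G) :=
  ⟨h.mem_cz8 hi hc, Subgroup.mem_centralizer_singleton_iff.mpr (h.comm_s hi)⟩

theorem Emb8.pow_four_com (h : Emb8 f s) {i : ℕ} (hi : i < 192)
    (hc : com8 i aI8 = true ∨ com8 i vI8 = true) : f i ^ 4 = 1 := by
  have := beq_spec.1 (impB_spec (allBelow_spec cent8_pow i hi) (Bool.or_eq_true _ _ ▸ hc))
  rw [show (4 : ℕ) = 2 + 2 from rfl, pow_add, pow_two, ← h.mul i hi i hi,
    ← h.mul _ (mul8_lt hi hi) _ (mul8_lt hi hi), this, h.map_zero]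

theorem Emb8.isPGroup_inf (h : Emb8 f s) :
    IsPGroup 2 ↥(cz8 f ⊓ Subgroup.centralizer ({s} : Set G)) := by
  intro y
  obtain ⟨i, hi, hc, e⟩ := h.of_inf y.2
  exact ⟨2, Subtype.ext (by rw [SubmonoidClass.coe_pow, ← e, show 2 ^ 2 = 4 from rfl,
    h.pow_four_com hi (.inl hc)]; rfl)⟩

theorem Emb8.card_inf (h : Emb8 f s) :
    Nat.card ↥(cz8 f ⊓ Subgroup.centralizer ({s} : Set G)) = 32 := by
  classical
  have hs : ((List.range 192).filter (fun i => com8 i aI8)).toFinset.card = 32 := by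
    rw [List.toFinset_card_of_nodup (List.nodup_range.filter _)]
    exact cent8_four.2.2
  refine (Nat.card_eq_of_bijective (fun i : ((List.range 192).filter
    (fun i => com8 i aI8)).toFinset => (⟨f i.1, by
      have := i.2
      rw [List.mem_toFinset, List.mem_filter, List.mem_range] at this
      exact h.mem_inf this.1 this.2⟩ : ↥(cz8 f ⊓ Subgroup.centralizer ({s} : Set G))))
    ⟨fun i j e => ?_, fun y => ?_⟩).symm.trans (by rw [Nat.card_eq_finsetCard, hs])
  · have hi := i.2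
    have hj := j.2
    rw [List.mem_toFinset, List.mem_filter, List.mem_range] at hi hj
    exact Subtype.ext (h.inj _ hi.1 _ hj.1 (congrArg Subtype.val e))
  · obtain ⟨i, hi, hc, e⟩ := h.of_inf y.2
    exact ⟨⟨i, by rw [List.mem_toFinset, List.mem_filter, List.mem_range]; exact ⟨hi, hc⟩⟩,
      Subtype.ext e⟩

/-- The four-group through `aI8` and `vI8`. -/
def Emb8.four (h : Emb8 f s) : Subgroup (cz8 f) where
  carrier := {c | ∃ i < 192, inV8 i = true ∧ f i = c}
  one_mem' := ⟨0, by norm_num, by decide +kernel, h.map_zero⟩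
  mul_mem' := fun {a b} ⟨i, hi, h1, e1⟩ ⟨j, hj, h2, e2⟩ => by
    have := impB_spec (allBelow_spec cent8_four.1 i hi) h1
    simp only [Bool.and_eq_true] at this
    exact ⟨mul8 i j, mul8_lt hi hj, impB_spec (allBelow_spec this.2 j hj) h2,
      by rw [h.mul i hi j hj, e1, e2]; rfl⟩
  inv_mem' := fun {a} ⟨i, hi, h1, e1⟩ => by
    have := impB_spec (allBelow_spec cent8_four.1 i hi) h1
    simp only [Bool.and_eq_true] at this
    exact ⟨inv8 i, inv8_lt hi, this.1.2, by rw [h.map_inv hi, e1]; rfl⟩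

theorem Emb8.card_four (h : Emb8 f s) : Nat.card h.four = 4 := by
  classical
  have hs : ((List.range 192).filter inV8).toFinset.card = 4 := by
    rw [List.toFinset_card_of_nodup (List.nodup_range.filter _)]
    exact cent8_four.2.1
  have hmem : ∀ {i}, i < 192 → inV8 i = true → f i ∈ cz8 f := fun hi hv => by
    have := impB_spec (allBelow_spec cent8_four.1 _ hi) hv
    simp only [Bool.and_eq_true] at this
    exact h.mem_cz8 hi this.1.1
  refine (Nat.card_eq_of_bijective (fun i : ((List.range 192).filter inV8).toFinset =>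
    (⟨⟨f i.1, by
      have := i.2
      rw [List.mem_toFinset, List.mem_filter, List.mem_range] at this
      exact hmem this.1 this.2⟩, by
      have := i.2
      rw [List.mem_toFinset, List.mem_filter, List.mem_range] at this
      exact ⟨i.1, this.1, this.2, rfl⟩⟩ : h.four)) ⟨fun i j e => ?_, fun y => ?_⟩).symm.trans
    (by rw [Nat.card_eq_finsetCard, hs])
  · have hi := i.2
    have hj := j.2
    rw [List.mem_toFinset, List.mem_filter, List.mem_range] at hi hj
    exact Subtype.ext (h.inj _ hi.1 _ hj.1 (congrArg (fun w : h.four => ((w : cz8 f) : G)) e))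
  · obtain ⟨i, hi, hv, e⟩ := y.2
    exact ⟨⟨i, by rw [List.mem_toFinset, List.mem_filter, List.mem_range]; exact ⟨hi, hv⟩⟩,
      Subtype.ext (Subtype.ext e)⟩

theorem Emb8.mem_four_iff (h : Emb8 f s) {c : cz8 f} :
    c ∈ h.four ↔ (c : G) ∈ ({1, f aI8, f vI8, f vzI8} : Set G) := by
  constructor
  · rintro ⟨i, -, hv, e⟩
    simp only [inV8, Bool.or_eq_true, beq_spec] at hv
    rcases hv with ((rfl | rfl) | rfl) | rfl
    · simp [← e, h.map_zero]
    all_goals simp [← e]
  · rintro (e | e | e | e)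
    · exact ⟨0, by norm_num, by decide +kernel, h.map_zero.trans e.symm⟩
    · exact ⟨aI8, by decide, by decide +kernel, e.symm⟩
    · exact ⟨vI8, by decide, by decide +kernel, e.symm⟩
    · exact ⟨vzI8, by decide, by decide +kernel, e.symm⟩

variable [Finite G] (h : Emb8 f s) (hL : InA8 f L) (hna : ¬ IsConj s (f aI8))
include h hL

omit [Finite G] in
/-- An element centralising `aI8` and one of `s`, `b`, `sb` has order dividing four. -/
theorem pow_four_fix {x n : G} (hx : x = s ∨ x = f bI8 ∨ x = f sbI8) (hnz : n ∈ cz8 f)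
    (hnx : n * x = x * n) : n ^ 4 = 1 := by
  rcases hx with rfl | hx
  · obtain ⟨i, hi, hc, e⟩ := h.of_inf ⟨hnz, Subgroup.mem_centralizer_singleton_iff.mpr hnx⟩
    exact e ▸ h.pow_four_com hi (.inl hc)
  obtain ⟨hu, ha, hb, -⟩ := const8_lt
  have main : ∀ (p : Equiv.Perm (Fin 8)) (k : ℕ), k < 192 → x = f k → Equiv.Perm.sign p = 1 →
      movB (imgs p) uI8 k = true → movB (imgs p) vI8 aI8 = true → n ^ 4 = 1 := by
    intro p k hk hxk hp hm1 hm2
    obtain ⟨l, -, -, -, hl⟩ := hL.conj p hp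
    have e1 : l * s * l⁻¹ = x := by rw [hxk, ← hl _ hu _ hk hm1, h.map_u]
    have e2 : l * f vI8 * l⁻¹ = f aI8 := hl _ const8_lt'.1 _ ha hm2
    have hs' : l⁻¹ * n * l * s = s * (l⁻¹ * n * l) := by
      rw [← e1] at hnx
      calc l⁻¹ * n * l * s = l⁻¹ * (n * (l * s * l⁻¹)) * l := by group
        _ = l⁻¹ * (l * s * l⁻¹ * n) * l := by rw [hnx]
        _ = _ := by group
    have hv' : l⁻¹ * n * l * f vI8 = f vI8 * (l⁻¹ * n * l) := by
      have hnz' := mem_cz8_iff.1 hnz
      rw [← e2] at hnz'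
      calc l⁻¹ * n * l * f vI8 = l⁻¹ * (n * (l * f vI8 * l⁻¹)) * l := by group
        _ = l⁻¹ * (l * f vI8 * l⁻¹ * n) * l := by rw [hnz']
        _ = _ := by group
    obtain ⟨i, hi, e⟩ := h.surj _ hs'
    have h4 := h.pow_four_com hi (.inr ((h.com_iff hi const8_lt'.1).2 (by rw [e]; exact hv')))
    rw [e, show l⁻¹ * n * l = l⁻¹ * n * l⁻¹⁻¹ by rw [inv_inv], conj_pow] at h4
    exact conj_eq_one_iff.1 h4
  rcases hx with hx | hx
  · exact main (Equiv.swap 1 2 * Equiv.swap 5 6) _ hb hx (by decide) (by decide +kernel)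
      (by decide +kernel)
  · exact main (Equiv.swap 1 3 * Equiv.swap 3 2 * (Equiv.swap 5 7 * Equiv.swap 7 6)) _
      const8_lt'.2.2.2.2 hx (by decide) (by decide +kernel) (by decide +kernel)

include hna

theorem self_inf {n : G} (hn : n ∈ cz8 f)
    (hnorm : ∀ x ∈ cz8 f ⊓ Subgroup.centralizer ({s} : Set G),
      n * x * n⁻¹ ∈ cz8 f ⊓ Subgroup.centralizer ({s} : Set G)) :
    n ∈ cz8 f ⊓ Subgroup.centralizer ({s} : Set G) := by
  set D := cz8 f ⊓ Subgroup.centralizer ({s} : Set G) with hD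
  obtain ⟨hu, ha, -⟩ := const8_lt
  obtain ⟨i, hi, hia, hie⟩ := h.of_inf (hnorm s (h.map_u ▸ h.mem_inf hu cent8_consts.2.2.2.1))
  obtain ⟨i', hi', hiv, hie'⟩ := h.exists_invol (y := n * s * n⁻¹)
    (by rw [orderOf_conj, h.orderOf_s]) (hie ▸ h.comm_s hi)
  obtain rfl : i' = i := h.inj _ hi' _ hi (hie'.trans hie.symm)
  have hs : sTy8 i' = true := (type_cases hi hiv).resolve_right fun hz =>
    hL.not_conj_s h hna hi hz (isConj_iff.mpr ⟨n, hie.symm⟩)
  have hcen : allBelow (fun j => impB (com8 j aI8) (com8 i' j)) 192 = true := by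
    suffices ∀ m ≤ 192, allBelow (fun j => impB (com8 j aI8) (com8 i' j)) m = true from
      this 192 le_rfl
    intro m hm
    induction m with
    | zero => rfl
    | succ m ih =>
      rw [allBelow, Bool.and_eq_true]
      refine ⟨?_, ih (by omega)⟩
      rcases hb : com8 m aI8 with _ | _
      · rfl
      show com8 i' m = true
      rw [h.com_iff hi (by omega), hie]
      -- conjugation is onto
      have hinj : Function.Injective (fun e : D => (⟨n * e * n⁻¹, hnorm e e.2⟩ : D)) :=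
        fun a b e => Subtype.ext (by simpa using congrArg Subtype.val e)
      obtain ⟨e, he⟩ := (Finite.injective_iff_surjective.1 hinj) ⟨f m, h.mem_inf (by omega) hb⟩
      have he' : n * (e : G) * n⁻¹ = f m := congrArg Subtype.val he
      have hes : (e : G) * s = s * (e : G) := Subgroup.mem_centralizer_singleton_iff.mp e.2.2
      rw [← he']
      calc n * s * n⁻¹ * (n * (e : G) * n⁻¹) = n * (s * (e : G)) * n⁻¹ := by group
        _ = n * ((e : G) * s) * n⁻¹ := by rw [hes]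
        _ = _ := by group
  have := beq_spec.1 (impB_spec (allBelow_spec cent8_center i' hi)
    (by simp [hia, hiv, hs, hcen]))
  rw [this, h.map_u] at hie
  exact ⟨hn, Subgroup.mem_centralizer_singleton_iff.mpr (mul_inv_eq_iff_eq_mul.1 hie.symm)⟩

/-- A conjugate of `vI8` in the Sylow subgroup is `vI8` or its product with `aI8`. -/
theorem fuse_v {c : G} (hc : c ∈ cz8 f)
    (hm : c * f vI8 * c⁻¹ ∈ cz8 f ⊓ Subgroup.centralizer ({s} : Set G)) :
    c * f vI8 * c⁻¹ = f vI8 ∨ c * f vI8 * c⁻¹ = f vzI8 := by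
  obtain ⟨hu, ha, hb, -⟩ := const8_lt
  obtain ⟨hvz, -, -, cua, cba, -, cva, cbv, cuv, -, iv, ivz, -, tb, tu, tv, tvz, hbu⟩ :=
    cent8_consts
  obtain ⟨i, hi, hia, hie⟩ := h.of_inf hm
  obtain ⟨i', hi', hiv, hie'⟩ := h.exists_invol (y := c * f vI8 * c⁻¹)
    (by rw [orderOf_conj, h.orderOf_invol const8_lt'.1 iv]) (hie ▸ h.comm_s hi)
  obtain rfl : i' = i := h.inj _ hi' _ hi (hie'.trans hie.symm)
  by_contra hne
  rw [not_or] at hne
  have hcz := mem_cz8_iff.1 hc
  have e2 : c * f vzI8 * c⁻¹ = f (mul8 i' aI8) := by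
    rw [h.mul _ hi _ ha, hie, ← hvz, h.mul _ const8_lt'.1 _ ha]
    calc c * (f vI8 * f aI8) * c⁻¹ = c * f vI8 * c⁻¹ * (c * f aI8 * c⁻¹) := by group
      _ = _ := by rw [mul_inv_eq_iff_eq_mul.2 hcz]
  have hz1 : zTy8 i' = true := (type_cases hi hiv).resolve_left fun hs =>
    hL.not_conj_s h hna const8_lt'.1 tv
      ((hL.isConj_s h hi hs).trans (isConj_iff.mpr ⟨c, hie.symm⟩).symm)
  have hv2 : isInv8 (mul8 i' aI8) = true := by
    obtain ⟨j, hj, hjv, hje⟩ := h.exists_invol (y := f (mul8 i' aI8))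
      (by rw [← e2, orderOf_conj, h.orderOf_invol const8_lt'.2.1 ivz]) (h.comm_s (mul8_lt hi ha))
    rwa [h.inj _ hj _ (mul8_lt hi ha) hje] at hjv
  have hz2 : zTy8 (mul8 i' aI8) = true := (type_cases (mul8_lt hi ha) hv2).resolve_left fun hs =>
    hL.not_conj_s h hna const8_lt'.2.1 tvz
      ((hL.isConj_s h (mul8_lt hi ha) hs).trans (isConj_iff.mpr ⟨c, e2⟩).symm)
  have hcand := impB_spec (allBelow_spec cent8_cand i' hi) (by
    simp only [Bool.and_eq_true, Bool.not_eq_true', beq_false_spec]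
    exact ⟨⟨⟨⟨⟨hia, hiv⟩, hz1⟩, hz2⟩, fun e => hne.1 (by rw [← hie, e])⟩,
      fun e => hne.2 (by rw [← hie, e])⟩)
  set H := cz8 f ⊓ Subgroup.centralizer ({f i'} : Set G) with hH
  set D := H ⊓ Subgroup.centralizer ({s} : Set G) with hD
  set F := (cz8 f ⊓ Subgroup.centralizer ({s} : Set G)) ⊓ Subgroup.centralizer ({f vI8} : Set G)
    with hF
  have hDD : D ≤ cz8 f ⊓ Subgroup.centralizer ({s} : Set G) := fun x hx => ⟨hx.1.1, hx.2⟩
  -- `s` is the only involution of `D` fused to `s`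
  have honly : ∀ x ∈ D, IsConj s x → x = s := by
    intro x hx hsx
    obtain ⟨j, hj, hja, hje⟩ := h.of_inf (hDD hx)
    have hx2 : orderOf x = 2 := by
      obtain ⟨k, hk⟩ := isConj_iff.mp hsx
      rw [← hk, orderOf_conj, h.orderOf_s]
    obtain ⟨j', hj', hjv, hje'⟩ := h.exists_invol hx2 (hje ▸ h.comm_s hj)
    obtain rfl : j' = j := h.inj _ hj' _ hj (hje'.trans hje.symm)
    have hji : com8 j' i' = true := (h.com_iff hj hi).2 (by
      rw [hje]; exact Subgroup.mem_centralizer_singleton_iff.mp hx.1.2)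
    have hjs : sTy8 j' = true := (type_cases hj hjv).resolve_right fun hz =>
      hL.not_conj_s h hna hj hz (hje ▸ hsx)
    rw [← hje, beq_spec.1 (impB_spec (allBelow_spec hcand j' hj) (by simp [hja, hji, hjv, hjs])),
      h.map_u]
  have hsD : s ∈ D := ⟨⟨h.map_u ▸ h.mem_cz8 hu cua, Subgroup.mem_centralizer_singleton_iff.mpr
    (h.comm_s hi).symm⟩, Subgroup.mem_centralizer_singleton_iff.mpr rfl⟩
  have hself : ∀ n ∈ H, (∀ x ∈ D, n * x * n⁻¹ ∈ D) → n ∈ D := fun n hn hnorm =>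
    ⟨hn, Subgroup.mem_centralizer_singleton_iff.mpr (mul_inv_eq_iff_eq_mul.1
      (honly _ (hnorm s hsD) (isConj_iff.mpr ⟨n, rfl⟩)))⟩
  have hFp : IsPGroup 2 (F.map (MulAut.conj c).toMonoidHom) :=
    (h.isPGroup_inf.to_le inf_le_left).map _
  have hFH : F.map (MulAut.conj c).toMonoidHom ≤ H := by
    rintro _ ⟨x, hx, rfl⟩
    refine ⟨(cz8 f).mul_mem ((cz8 f).mul_mem hc hx.1.1) ((cz8 f).inv_mem hc),
      Subgroup.mem_centralizer_singleton_iff.mpr ?_⟩
    have hxv := Subgroup.mem_centralizer_singleton_iff.mp hx.2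
    rw [hie]
    show c * x * c⁻¹ * (c * f vI8 * c⁻¹) = c * f vI8 * c⁻¹ * (c * x * c⁻¹)
    calc c * x * c⁻¹ * (c * f vI8 * c⁻¹) = c * (x * f vI8) * c⁻¹ := by group
      _ = c * (f vI8 * x) * c⁻¹ := by rw [hxv]
      _ = _ := by group
  obtain ⟨k, -, hk⟩ := exists_conj_le_of_self (h.isPGroup_inf.to_le hDD) inf_le_left hself hFp hFH
  have hFmem : ∀ {j}, j < 192 → com8 j aI8 = true → com8 j vI8 = true → f j ∈ F := fun hj h1 h2 =>
    ⟨h.mem_inf hj h1, Subgroup.mem_centralizer_singleton_iff.mpr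
      ((h.com_iff hj const8_lt'.1).1 h2)⟩
  have key : ∀ {j}, j < 192 → com8 j aI8 = true → com8 j vI8 = true → sTy8 j = true →
      k * (c * f j * c⁻¹) * k⁻¹ = s := fun {j} hj h1 h2 h3 =>
    honly _ (hk _ (Subgroup.mem_map.mpr ⟨f j, hFmem hj h1 h2, rfl⟩))
      ((hL.isConj_s h hj h3).trans (isConj_iff.mpr ⟨k * c, by group⟩))
  have e := (key hb cba cbv tb).trans (key hu cua cuv tu).symm
  exact hbu (h.inj _ hb _ hu (mul_left_cancel (mul_right_cancel
    (mul_left_cancel (mul_right_cancel e)))))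

/-- Conjugation in the centraliser of `aI8` preserves the pair `vI8`, `vzI8`. -/
theorem conj_v {c : G} (hc : c ∈ cz8 f) :
    c * f vI8 * c⁻¹ = f vI8 ∨ c * f vI8 * c⁻¹ = f vzI8 := by
  classical
  haveI : Fact (Nat.Prime 2) := ⟨Nat.prime_two⟩
  obtain ⟨hu, ha, hb, -⟩ := const8_lt
  obtain ⟨hvz, hub, -, cua, cba, csb, cva, -, -, caa, iv, -, isb, -⟩ := cent8_consts
  set C := cz8 f
  let zc : C := ⟨f aI8, h.mem_cz8 ha caa⟩
  have hzc : ∀ x : C, x * zc = zc * x := fun x => Subtype.ext (mem_cz8_iff.1 x.2)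
  haveI hN : (Subgroup.zpowers zc).Normal := by
    refine ⟨fun n hn x => ?_⟩
    obtain ⟨k, rfl⟩ := Subgroup.mem_zpowers_iff.1 hn
    rw [((show Commute x zc from hzc x).zpow_right k).eq, mul_inv_cancel_right]
    exact Subgroup.zpow_mem_zpowers zc k
  set N := Subgroup.zpowers zc with hNdef
  have hz2 : zc * zc = 1 := Subtype.ext h.a_sq
  have hNlist : ∀ n ∈ N, n = 1 ∨ n = zc := by
    intro n hn
    obtain ⟨k, rfl⟩ := Subgroup.mem_zpowers_iff.1 hn
    have h2 : zc ^ (2 : ℤ) = 1 := by rw [zpow_two, hz2]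
    rcases Int.even_or_odd k with ⟨j, hj⟩ | ⟨j, hj⟩
    · left
      rw [hj, ← two_mul, zpow_mul, h2, one_zpow]
    · right
      rw [hj, zpow_add, zpow_mul, h2, one_zpow, one_mul, zpow_one]
  set π := QuotientGroup.mk' N with hπ
  have hker : ∀ a b : C, π a = π b → b = a ∨ b = a * zc := by
    intro a b e
    rw [hπ, QuotientGroup.mk'_apply, QuotientGroup.mk'_apply, QuotientGroup.eq] at e
    rcases hNlist _ e with e' | e'
    · exact .inl (inv_mul_eq_one.1 e').symm
    · exact .inr (by rw [← e', mul_inv_cancel_left])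
  -- the odd core of the quotient is trivial
  let sc : C := ⟨s, h.map_u ▸ h.mem_cz8 hu cua⟩
  let bc : C := ⟨f bI8, h.mem_cz8 hb cba⟩
  let sbc : C := ⟨f sbI8, h.mem_cz8 const8_lt'.2.2.2.2 csb⟩
  have hodd : ¬ 2 ∣ Nat.card (Cfsg.pPrimeCore 2 (C ⧸ N)) := Constrained.pPrimeCore_not_dvd
  have hfix : ∀ x : C, ((x : G) = s ∨ (x : G) = f bI8 ∨ (x : G) = f sbI8) →
      ∀ m ∈ Cfsg.pPrimeCore 2 (C ⧸ N), π x * m = m * π x → m = 1 := by
    intro x hx m hm hxm
    obtain ⟨n, rfl⟩ := QuotientGroup.mk'_surjective N m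
    rw [← map_mul, ← map_mul] at hxm
    have h2 : (n * n) * x = x * (n * n) := by
      rcases hker _ _ hxm with e | e
      · rw [mul_assoc, e, ← mul_assoc, e, mul_assoc]
      · calc n * n * x = n * (x * n * zc) := by rw [mul_assoc, e]
          _ = n * x * (n * zc) := by group
          _ = x * n * zc * (n * zc) := by rw [e]
          _ = x * (n * (zc * n) * zc) := by group
          _ = x * (n * (n * zc) * zc) := by rw [← hzc n]
          _ = x * (n * n) * (zc * zc) := by group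
          _ = x * (n * n) := by rw [hz2, mul_one]
    have h4 : ((n * n : C) : G) ^ 4 = 1 :=
      pow_four_fix h hL hx (n * n).2 (congrArg Subtype.val h2)
    have h8 : (π n) ^ 8 = 1 := by
      rw [show (8 : ℕ) = 2 * 4 from rfl, pow_mul, ← map_pow, ← map_pow, pow_two,
        show (n * n) ^ 4 = 1 from Subtype.ext (by simpa using h4), map_one]
    have hd : orderOf (π n) ∣ Nat.card (Cfsg.pPrimeCore 2 (C ⧸ N)) :=
      Subgroup.orderOf_dvd_natCard _ hm
    obtain ⟨j, -, hj⟩ := (Nat.dvd_prime_pow Nat.prime_two).1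
      (show orderOf (π n) ∣ 2 ^ 3 from orderOf_dvd_of_pow_eq_one h8)
    rcases Nat.eq_zero_or_pos j with rfl | hj0
    · exact orderOf_eq_one_iff.1 (hj.trans (pow_zero 2))
    · exact absurd ((dvd_pow_self 2 hj0.ne').trans (hj ▸ hd)) hodd
  have hss : sc * sc = 1 := Subtype.ext (orderOf_two_iff.1 h.orderOf_s).1
  have hbb : bc * bc = 1 := Subtype.ext
    (orderOf_two_iff.1 (h.orderOf_invol hb const8_inv.2.2.1)).1
  have hsb : sc * bc = sbc := Subtype.ext (by
    show s * f bI8 = f sbI8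
    rw [← h.map_u, ← h.mul _ hu _ hb, hub])
  have hO : ∀ m ∈ Cfsg.pPrimeCore 2 (C ⧸ N), m = 1 := fun m hm =>
    eq_one_of_three (x := π sc) (y := π bc) (by rw [← map_mul, hss, map_one])
      (by rw [← map_mul, hbb, map_one])
      (hfix sc (.inl rfl)) (hfix bc (.inr (.inl rfl)))
      (by rw [← map_mul, hsb]; exact hfix sbc (.inr (.inr rfl))) hm
  -- the image of `vI8` is isolated
  set D := C ⊓ Subgroup.centralizer ({s} : Set G)
  obtain ⟨T, hT⟩ := exists_sylow_of_self (H := C) h.isPGroup_inf inf_le_left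
    fun n hn hnorm => self_inf h hL hna hn hnorm
  let T' := T.mapSurjective (f := π) (QuotientGroup.mk'_surjective N)
  let vc : C := ⟨f vI8, h.mem_cz8 const8_lt'.1 cva⟩
  have hvv : vc * vc = 1 := Subtype.ext
    (orderOf_two_iff.1 (h.orderOf_invol const8_lt'.1 iv)).1
  have ht : orderOf (π vc) = 2 := by
    refine orderOf_two_iff.2 ⟨by rw [← map_mul, hvv, map_one], fun e => ?_⟩
    rcases hker 1 vc (by rw [e, map_one]) with e' | e'
    · exact (orderOf_two_iff.1 (h.orderOf_invol const8_lt'.1 iv)).2 (congrArg Subtype.val e')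
    · have := congrArg Subtype.val e'
      rw [one_mul] at this
      exact absurd (h.inj _ const8_lt'.1 _ ha this) (by decide)
  have hiso : ∀ g : C ⧸ N, g * π vc * g⁻¹ ∈ (T' : Subgroup (C ⧸ N)) → g * π vc * g⁻¹ = π vc := by
    intro g hg
    obtain ⟨d, rfl⟩ := QuotientGroup.mk'_surjective N g
    rw [Sylow.coe_mapSurjective, ← map_inv, ← map_mul, ← map_mul] at hg
    obtain ⟨t, ht', hte⟩ := Subgroup.mem_map.1 hg
    rw [hT, Subgroup.mem_subgroupOf] at ht'
    have hzD : (zc : G) ∈ D := h.mem_inf ha caa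
    have hmem : ((d * vc * d⁻¹ : C) : G) ∈ D := by
      rcases hker _ _ hte with e | e
      · rw [e]; exact ht'
      · rw [e, Subgroup.coe_mul]; exact mul_mem ht' hzD
    rw [← map_inv, ← map_mul, ← map_mul]
    rcases fuse_v h hL hna d.2 (show (d : G) * f vI8 * (d : G)⁻¹ ∈ D from hmem) with e | e
    · exact congrArg π (Subtype.ext (by simpa [vc] using e))
    · rw [show d * vc * d⁻¹ = vc * zc from Subtype.ext (by
        simp only [Subgroup.coe_mul, Subgroup.coe_inv, vc, zc]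
        rw [e, ← hvz, h.mul _ const8_lt'.1 _ ha]), map_mul]
      nth_rewrite 2 [← mul_one (π vc)]
      congr 1
      exact (QuotientGroup.eq_one_iff zc).2 (Subgroup.mem_zpowers zc)
  have hZ := ZStar.inZStar_of_no_fusion ht T' hiso
  have h1 := hO _ (hZ (π ⟨c, hc⟩))
  rw [mul_inv_eq_one, ← map_inv, ← map_mul, ← map_mul] at h1
  rcases hker _ _ h1.symm with e | e
  · exact .inl (congrArg Subtype.val e)
  · refine .inr ((congrArg Subtype.val e).trans ?_)
    show f vI8 * f aI8 = f vzI8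
    rw [← h.mul _ const8_lt'.1 _ ha, hvz]

theorem four_normal : (h.four).Normal := by
  refine ⟨fun x hx d => ?_⟩
  obtain ⟨hvz, -, -, -, -, -, -, -⟩ := cent8_consts
  have hz : (d : G) * f aI8 * (d : G)⁻¹ = f aI8 := mul_inv_eq_iff_eq_mul.2 (mem_cz8_iff.1 d.2)
  have hvzv : f vzI8 = f vI8 * f aI8 := by
    rw [← h.mul _ const8_lt'.1 _ const8_lt.2.1, hvz]
  rw [h.mem_four_iff] at hx ⊢
  simp only [Subgroup.coe_mul, Subgroup.coe_inv]
  rcases hx with e | e | e | e
  · left; rw [e]; group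
  · right; left; rw [e, hz]
  · rw [e]
    rcases conj_v h hL hna d.2 with e' | e' <;> rw [e'] <;> simp
  · have key : (d : G) * (f vI8 * f aI8) * (d : G)⁻¹ =
        (d : G) * f vI8 * (d : G)⁻¹ * ((d : G) * f aI8 * (d : G)⁻¹) := by group
    rw [Set.mem_singleton_iff.1 e, hvzv, key, hz]
    rcases conj_v h hL hna d.2 with e' | e' <;> rw [e']
    · simp
    · rw [hvzv, mul_assoc, h.a_sq, mul_one]
      simp

/-- The quotient by the four-group is a symmetric group of degree four or five. -/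
theorem quot_cases :
    ∃ (_ : h.four.Normal), Nonempty ((cz8 f ⧸ h.four) ≃* Equiv.Perm (Fin 4)) ∨
      Nonempty ((cz8 f ⧸ h.four) ≃* Equiv.Perm (Fin 5)) := by
  classical
  haveI hVn := four_normal h hL hna
  refine ⟨hVn, ?_⟩
  obtain ⟨hu, ha, hb, -, -, ho3, -⟩ := const8_lt
  obtain ⟨-, -, hO, hF, -⟩ := const8_lt'
  obtain ⟨codd, cfour, hunV, haa, hbb, hinv, hcom, hb0, hb1, hb2, hb3, hba, co3, hzo, hsV, hsa⟩ :=
    cent8_data
  set C := cz8 f
  set V := h.four
  set π := QuotientGroup.mk' V with hπ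
  let q : ∀ i, i < 192 → com8 i aI8 = true → C ⧸ V := fun i hi hc => π ⟨f i, h.mem_cz8 hi hc⟩
  have cua := cent8_consts.2.2.2.1
  have hq : ∀ {i} (hi : i < 192) (hc : com8 i aI8 = true) {j} (hj : j < 192)
      (hd : com8 j aI8 = true), q i hi hc = q j hj hd ↔ inV8 (mul8 (inv8 i) j) = true := by
    intro i hi hc j hj hd
    show π _ = π _ ↔ _
    rw [hπ, QuotientGroup.mk'_apply, QuotientGroup.mk'_apply, QuotientGroup.eq]
    have e : f (mul8 (inv8 i) j) = ((⟨f i, h.mem_cz8 hi hc⟩ : C)⁻¹ * ⟨f j, h.mem_cz8 hj hd⟩ : C) := by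
      rw [h.mul _ (inv8_lt hi) _ hj, h.map_inv hi]; rfl
    constructor
    · rintro ⟨k, hk, hkv, hke⟩
      rwa [h.inj _ hk _ (mul8_lt (inv8_lt hi) hj) (hke.trans e.symm)] at hkv
    · exact fun hv => ⟨_, mul8_lt (inv8_lt hi) hj, hv, e⟩
  have hqmul : ∀ {i} (hi : i < 192) (hc : com8 i aI8 = true) {j} (hj : j < 192)
      (hd : com8 j aI8 = true) (hij : com8 (mul8 i j) aI8 = true),
      q i hi hc * q j hj hd = q (mul8 i j) (mul8_lt hi hj) hij := by
    intro i hi hc j hj hd hij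
    exact (map_mul π _ _).symm.trans (congrArg π (Subtype.ext (h.mul i hi j hj).symm))
  set α := q uI8 hu cua with hα
  have hone : ∀ {i} (hi : i < 192) (hc : com8 i aI8 = true), q i hi hc = 1 ↔ inV8 i = true := by
    intro i hi hc
    show π _ = 1 ↔ _
    rw [hπ, QuotientGroup.mk'_apply, QuotientGroup.eq_one_iff]
    exact ⟨fun ⟨k, hk, hkv, hke⟩ => h.inj _ hk _ hi hke ▸ hkv, fun hv => ⟨i, hi, hv, rfl⟩⟩
  have hone' : ∀ {i} (hi : i < 192) (hc : com8 i aI8 = true), q i hi hc ≠ 1 ↔ inV8 i = false :=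
    fun hi hc => by rw [ne_eq, hone hi hc, Bool.not_eq_true]
  -- the centraliser of the image of `s` is the image of the Sylow subgroup
  have hcent : ∀ y : C, π y * α = α * π y →
      (y : G) ∈ C ⊓ Subgroup.centralizer ({s} : Set G) := by
    intro y hy
    refine ⟨y.2, Subgroup.mem_centralizer_singleton_iff.mpr ?_⟩
    set sc : C := ⟨f uI8, h.mem_cz8 hu cua⟩
    have e : sc⁻¹ * (y * sc * y⁻¹) ∈ V := by
      rw [← QuotientGroup.eq, ← QuotientGroup.mk'_apply, ← QuotientGroup.mk'_apply,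
        map_mul, map_mul, map_inv, ← hπ]
      show α = π y * α * (π y)⁻¹
      rw [hy, mul_inv_cancel_right]
    obtain ⟨k, hk, hkv, hke⟩ := e
    have e1 : (y : G) * s * (y : G)⁻¹ = f (mul8 uI8 k) := by
      rw [h.mul _ hu _ hk, hke]
      simp only [Subgroup.coe_mul, Subgroup.coe_inv, sc]
      rw [mul_inv_cancel_left, h.map_u]
    have hk' := impB_spec (allBelow_spec hsV k hk) hkv
    simp only [Bool.or_eq_true, beq_spec] at hk'
    rcases hk' with (hk' | hk') | hk'
    · rw [hk', h.map_u] at e1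
      exact mul_inv_eq_iff_eq_mul.1 e1
    · exact absurd (isConj_iff.mpr ⟨(y : G), e1⟩)
        (hL.not_conj_s h hna (mul8_lt hu hk) hk')
    · exfalso
      refine hL.not_conj_s h hna (mul8_lt hu ha) hsa
        ((hL.isConj_s h (mul8_lt (mul8_lt hu hk) ha) hk').trans (isConj_iff.mpr ⟨(y : G)⁻¹, ?_⟩))
      rw [h.mul _ (mul8_lt hu hk) _ ha, ← e1, h.mul _ hu _ ha, h.map_u]
      have hyz := mem_cz8_iff.1 y.2
      calc (y : G)⁻¹ * ((y : G) * s * (y : G)⁻¹ * f aI8) * (y : G)⁻¹⁻¹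
          = s * ((y : G)⁻¹ * (f aI8 * (y : G))) := by group
        _ = _ := by rw [← hyz]; group
  set D := C ⊓ Subgroup.centralizer ({s} : Set G) with hDdef
  have hcard : Nat.card (Subgroup.centralizer ({α} : Set (C ⧸ V))) = 8 := by
    set P := D.subgroupOf C
    have hCP : Subgroup.centralizer ({α} : Set (C ⧸ V)) = P.map π := by
      ext y
      obtain ⟨y, rfl⟩ := QuotientGroup.mk'_surjective V y
      constructor
      · intro hy
        exact Subgroup.mem_map.mpr ⟨y,
          hcent y (Subgroup.mem_centralizer_singleton_iff.mp hy), rfl⟩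
      · intro hy
        obtain ⟨x, hx, hxe⟩ := Subgroup.mem_map.1 hy
        rw [← hxe]
        refine Subgroup.mem_centralizer_singleton_iff.mpr ?_
        show π x * π _ = π _ * π x
        rw [← map_mul, ← map_mul]
        refine congrArg π (Subtype.ext ?_)
        show (x : G) * f uI8 = f uI8 * (x : G)
        rw [h.map_u]
        exact Subgroup.mem_centralizer_singleton_iff.mp (Subgroup.mem_subgroupOf.1 hx).2
    have hVP : V ≤ P := by
      rintro x ⟨k, hk, -, hke⟩
      rw [Subgroup.mem_subgroupOf]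
      exact ⟨x.2, Subgroup.mem_centralizer_singleton_iff.mpr (hke ▸ h.comm_s hk)⟩
    have h32 : Nat.card P = 32 := by
      rw [Nat.card_congr (Subgroup.subgroupOfEquivOfLe inf_le_left).toEquiv]
      exact h.card_inf
    have h1 := Subgroup.card_eq_card_quotient_mul_card_subgroup (π.comp P.subtype).ker
    rw [Nat.card_congr (QuotientGroup.quotientKerEquivRange (π.comp P.subtype)).toEquiv,
      MonoidHom.range_comp, Subgroup.range_subtype, ← hCP, h32] at h1
    have h2 : Nat.card (π.comp P.subtype).ker = 4 := by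
      rw [← MonoidHom.comap_ker, QuotientGroup.ker_mk', ← h.card_four]
      exact Nat.card_congr (Subgroup.subgroupOfEquivOfLe hVP).toEquiv
    rw [h2] at h1
    exact Nat.eq_of_mul_eq_mul_right (by norm_num : 0 < 4) (h1.symm.trans (by norm_num))
  have hco : com8 (mul8 oddI8 fourI8) aI8 = true := by decide +kernel
  have hD' : CentralizerD8.Data α (q fourI8 hF cfour) (q oddI8 hO codd) := by
    have cff : com8 (mul8 fourI8 fourI8) aI8 = true := by decide +kernel
    have coo : com8 (mul8 oddI8 oddI8) aI8 = true := by decide +kernel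
    have hinv' : (q oddI8 hO codd)⁻¹ = q (inv8 oddI8) (inv8_lt hO) (by decide +kernel) :=
      (map_inv π _).symm.trans (congrArg π (Subtype.ext (h.map_inv hO).symm))
    have hfour' : (q fourI8 hF cfour)⁻¹ = q (inv8 fourI8) (inv8_lt hF) (by decide +kernel) :=
      (map_inv π _).symm.trans (congrArg π (Subtype.ext (h.map_inv hF).symm))
    have haa' : q fourI8 hF cfour * q fourI8 hF cfour = α := by
      rw [hqmul hF cfour hF cfour cff]
      exact (hq (mul8_lt hF hF) cff hu cua).2 haa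
    refine ⟨(hone' hu cua).2 hunV, ?_, haa', ?_, ?_, ?_, ?_, hcard⟩
    · rw [hα, hqmul hu cua hu cua (by decide +kernel)]
      exact (hone (mul8_lt hu hu) (by decide +kernel)).2 (by decide +kernel)
    · rw [hqmul hO codd hO codd coo]
      exact (hone (mul8_lt hO hO) coo).2 hbb
    · rw [hinv', hfour', hqmul hO codd hF cfour hco,
        hqmul (mul8_lt hO hF) hco (inv8_lt hO) (by decide +kernel) (by decide +kernel)]
      exact (hq (mul8_lt (mul8_lt hO hF) (inv8_lt hO)) (by decide +kernel) (inv8_lt hF)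
        (by decide +kernel)).2 hinv
    · intro hm
      obtain ⟨k, hk⟩ := Subgroup.mem_zpowers_iff.1 hm
      have h4 : q fourI8 hF cfour ^ (4 : ℤ) = 1 := by
        rw [show (4 : ℤ) = 2 + 2 by norm_num, zpow_add, zpow_two, haa', hα,
          hqmul hu cua hu cua (by decide +kernel)]
        exact (hone (mul8_lt hu hu) (by decide +kernel)).2 (by decide +kernel)
      rw [← Int.emod_add_mul_ediv k 4, zpow_add, zpow_mul, h4, one_zpow, mul_one] at hk
      rcases (show k % 4 = 0 ∨ k % 4 = 1 ∨ k % 4 = 2 ∨ k % 4 = 3 by omega) with e | e | e | e <;>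
        rw [e] at hk
      · rw [zpow_zero] at hk
        exact (hone' hO codd).2 hb0 hk.symm
      · rw [zpow_one] at hk
        rw [(hq hF cfour hO codd).1 hk] at hb1
        exact Bool.noConfusion hb1
      · rw [zpow_two, haa'] at hk
        rw [(hq hu cua hO codd).1 hk] at hb2
        exact Bool.noConfusion hb2
      · have e' : q fourI8 hF cfour ^ (3 : ℤ) = (q fourI8 hF cfour)⁻¹ := by
          rw [eq_inv_iff_mul_eq_one, ← zpow_add_one, show (3 : ℤ) + 1 = 4 by norm_num, h4]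
        rw [e', hfour'] at hk
        rw [(hq (inv8_lt hF) (by decide +kernel) hO codd).1 hk] at hb3
        exact Bool.noConfusion hb3
    · rw [Subgroup.mem_centralizer_singleton_iff, hα,
        hqmul hO codd hu cua (by decide +kernel), hqmul hu cua hO codd (by decide +kernel)]
      exact (hq (mul8_lt hO hu) (by decide +kernel) (mul8_lt hu hO) (by decide +kernel)).2 hcom
  refine hD'.half_fused (fun hc => ?_) ?_
  · obtain ⟨d, hd⟩ := isConj_iff.mp hc
    obtain ⟨d, rfl⟩ := QuotientGroup.mk'_surjective V d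
    set sc : C := ⟨f uI8, h.mem_cz8 hu cua⟩
    set oc : C := ⟨f oddI8, h.mem_cz8 hO codd⟩
    have hd' : π (d * sc * d⁻¹) = π oc := by rw [map_mul, map_mul, map_inv]; exact hd
    rw [hπ, QuotientGroup.mk'_apply, QuotientGroup.mk'_apply, eq_comm, QuotientGroup.eq] at hd'
    obtain ⟨k, hk, hkv, hke⟩ := hd'
    have e1 : f (mul8 oddI8 k) = (d : G) * s * (d : G)⁻¹ := by
      rw [h.mul _ hO _ hk, hke]
      simp only [Subgroup.coe_mul, Subgroup.coe_inv, oc, sc]
      rw [mul_inv_cancel_left, h.map_u]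
    obtain ⟨j, hj, hjv, hje⟩ := h.exists_invol (y := f (mul8 oddI8 k))
      (by rw [e1, orderOf_conj, h.orderOf_s]) (h.comm_s (mul8_lt hO hk))
    rw [h.inj _ hj _ (mul8_lt hO hk) hje] at hjv
    exact hL.not_conj_s h hna (mul8_lt hO hk)
      (impB_spec (allBelow_spec hzo k hk) (by rw [hkv, hjv]; rfl))
      (isConj_iff.mpr ⟨(d : G), e1.symm⟩)
  · obtain ⟨l, -, -, -, hl⟩ := hL.conj (Equiv.swap 5 6 * Equiv.swap 6 7) (by decide)
    have hlz : l * f aI8 * l⁻¹ = f aI8 := hl _ ha _ ha (by decide +kernel)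
    have hls : l * f uI8 * l⁻¹ = f o3I8 := hl _ hu _ ho3 (by decide +kernel)
    refine isConj_iff.mpr ⟨π ⟨l, mem_cz8_iff.2 (mul_inv_eq_iff_eq_mul.1 hlz)⟩, ?_⟩
    rw [hqmul hO codd hF cfour hco, ← (hq ho3 co3 (mul8_lt hO hF) hco).2 hba]
    show π _ * π _ * (π _)⁻¹ = π _
    rw [← map_inv, ← map_mul, ← map_mul]
    exact congrArg π (Subtype.ext hls)

/-- The centraliser of `aI8` has order 96 or 480. -/
theorem card_cent : Nat.card (cz8 f) = 96 ∨ Nat.card (cz8 f) = 480 := by
  obtain ⟨hV, hq⟩ := quot_cases h hL hna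
  rw [Subgroup.card_eq_card_quotient_mul_card_subgroup h.four, h.card_four]
  rcases hq with ⟨⟨e⟩⟩ | ⟨⟨e⟩⟩ <;> rw [Nat.card_congr e.toEquiv, Nat.card_perm, Nat.card_fin]
  · exact .inl rfl
  · exact .inr rfl

/-- In the large case the quotient by the four-group is the symmetric group of degree five. -/
theorem exists_quot (h480 : Nat.card (cz8 f) = 480) :
    ∃ φ : cz8 f →* Equiv.Perm (Fin 5), Function.Surjective φ ∧
      ∀ c : cz8 f, φ c = 1 ↔ (c : G) ∈ ({1, f aI8, f vI8, f vzI8} : Set G) := by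
  obtain ⟨hV, hq⟩ := quot_cases h hL hna
  rcases hq with ⟨⟨e⟩⟩ | ⟨⟨e⟩⟩
  · rw [Subgroup.card_eq_card_quotient_mul_card_subgroup h.four, h.card_four,
      Nat.card_congr e.toEquiv, Nat.card_perm, Nat.card_fin] at h480
    exact absurd h480 (by decide)
  · refine ⟨e.toMonoidHom.comp (QuotientGroup.mk' h.four),
      e.surjective.comp (QuotientGroup.mk'_surjective _), fun c => ?_⟩
    rw [← h.mem_four_iff, MonoidHom.comp_apply, MulEquiv.coe_toMonoidHom,
      EmbeddingLike.map_eq_one_iff, QuotientGroup.mk'_apply, QuotientGroup.eq_one_iff]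

/-- The small case is the alternating group of degree 8. -/
theorem iso_eight (h96 : Nat.card (cz8 f) = 96) : Nonempty (G ≃* alternatingGroup (Fin 8)) := by
  classical
  haveI : Fact (Nat.Prime 2) := ⟨Nat.prime_two⟩
  obtain ⟨hu, ha, -⟩ := const8_lt
  set C := cz8 f with hCdef
  set D := C ⊓ Subgroup.centralizer ({s} : Set G) with hDdef
  have hsL : Subgroup.centralizer ({s} : Set G) ≤ L := fun y hy => by
    obtain ⟨i, hi, rfl⟩ := h.surj y (Subgroup.mem_centralizer_singleton_iff.mp hy)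
    exact hL.mem i hi
  -- the centraliser of `aI8` lies in `L`
  have hCL : C ≤ L := by
    obtain ⟨l, hlL, h3, hl1, hl⟩ := hL.conj (Equiv.swap 5 6 * Equiv.swap 6 7) (by decide)
    have hlC : l ∈ C := mem_cz8_iff.2
      (mul_inv_eq_iff_eq_mul.1 (hl _ ha _ ha (by decide +kernel)))
    have hlm : l ∈ C ⊓ L := ⟨hlC, hlL⟩
    have d32 : 32 ∣ Nat.card ↥(C ⊓ L) :=
      h.card_inf ▸ Subgroup.card_dvd_of_le (le_inf inf_le_left (inf_le_right.trans hsL))
    have d3 : 3 ∣ Nat.card ↥(C ⊓ L) := by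
      haveI : Fact (Nat.Prime 3) := ⟨Nat.prime_three⟩
      have ho : orderOf l = 3 := orderOf_eq_prime (h3 (by decide)) (hl1 (by decide))
      exact ho ▸ Subgroup.orderOf_dvd_natCard _ hlm
    have hd : 96 ∣ Nat.card ↥(C ⊓ L) :=
      (show Nat.Coprime 32 3 by norm_num).mul_dvd_of_dvd_of_dvd d32 d3
    have hle := Nat.le_of_dvd Nat.card_pos hd
    exact (Subgroup.eq_of_le_of_card_ge (inf_le_left : C ⊓ L ≤ C) (h96 ▸ hle)) ▸ inf_le_right
  suffices hLtop : L = ⊤ by
    obtain ⟨e, -⟩ := hL.iso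
    exact ⟨(Subgroup.topEquiv.symm.trans (MulEquiv.subgroupCongr hLtop.symm)).trans e⟩
  by_contra hne
  obtain ⟨T, hT⟩ := h.exists_sylow_eq
  have hTL : (T : Subgroup G) ≤ L := by
    rw [hT]
    rintro y ⟨i, hi, -, rfl⟩
    exact hL.mem i hi
  have hsmem : s ∈ L := hsL (Subgroup.mem_centralizer_singleton_iff.mpr rfl)
  have hrep : ∀ y ∈ L, orderOf y = 2 → ∃ n ∈ L, n * s * n⁻¹ = y ∨ n * f aI8 * n⁻¹ = y := by
    intro y hy hy2
    have hp : IsPGroup 2 (Subgroup.zpowers (⟨y, hy⟩ : L)) :=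
      IsPGroup.of_card (n := 1) (by rw [Nat.card_zpowers, ← Subgroup.orderOf_coe, hy2, pow_one])
    obtain ⟨U, hU⟩ := hp.exists_le_sylow
    obtain ⟨c, hc⟩ := MulAction.exists_smul_eq L U (T.subtype hTL)
    have hm : c * ⟨y, hy⟩ * c⁻¹ ∈ ((T.subtype hTL : Sylow 2 L) : Subgroup L) := by
      rw [← hc]
      exact Subgroup.mem_map.mpr ⟨⟨y, hy⟩, hU (Subgroup.mem_zpowers _), rfl⟩
    rw [Sylow.coe_subtype, Subgroup.mem_subgroupOf, hT] at hm
    obtain ⟨i, hi, -, hie⟩ := hm
    have hi2 : orderOf (f i) = 2 := by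
      rw [hie]; simpa using (orderOf_conj (c : G) y).trans hy2
    obtain ⟨j, hj, hjv, hje⟩ := h.exists_invol hi2 (h.comm_s hi)
    rw [h.inj j hj i hi hje] at hjv
    have key : ∀ a n : G, n * a * n⁻¹ = f i → (c : G)⁻¹ * n * a * ((c : G)⁻¹ * n)⁻¹ = y := by
      intro a n ha'
      calc (c : G)⁻¹ * n * a * ((c : G)⁻¹ * n)⁻¹ = (c : G)⁻¹ * (n * a * n⁻¹) * (c : G) := by group
        _ = y := by
          rw [ha', hie]
          simp only [Subgroup.coe_mul, Subgroup.coe_inv]
          group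
    rcases type_cases hi hjv with ht | ht
    · obtain ⟨n, hn, hn'⟩ := hL.exists_s h hi ht
      exact ⟨(c : G)⁻¹ * n, mul_mem (inv_mem c.2) hn, .inl (key _ _ hn')⟩
    · obtain ⟨n, hn, hn'⟩ := hL.exists_a h hi ht
      exact ⟨(c : G)⁻¹ * n, mul_mem (inv_mem c.2) hn, .inr (key _ _ hn')⟩
  have heven : Even (Nat.card L) := even_iff_two_dvd.mpr (by
    have := orderOf_dvd_natCard (⟨s, hsmem⟩ : L)
    rwa [← Subgroup.orderOf_coe, h.orderOf_s] at this)
  have hse : Cfsg.IsStronglyEmbedded L := by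
    refine CfsgLib.StronglyEmbedded.intro_of_centralizer_le hne heven (fun t ht ht2 => ?_)
      fun t ht t' ht' ht2 ht2' hcj => ?_
    · obtain ⟨n, hn, e⟩ := hrep t ht ht2
      have key : ∀ a : G, Subgroup.centralizer ({a} : Set G) ≤ L → n * a * n⁻¹ = t →
          Subgroup.centralizer ({t} : Set G) ≤ L := by
        intro a ha' e y hy
        have hy' := Subgroup.mem_centralizer_singleton_iff.mp hy
        have hm : n⁻¹ * y * n ∈ L := ha' (Subgroup.mem_centralizer_singleton_iff.mpr (by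
          rw [← e] at hy'
          calc n⁻¹ * y * n * a = n⁻¹ * (y * (n * a * n⁻¹)) * n := by group
            _ = n⁻¹ * (n * a * n⁻¹ * y) * n := by rw [hy']
            _ = _ := by group))
        have := mul_mem (mul_mem hn hm) (inv_mem hn)
        rwa [show n * (n⁻¹ * y * n) * n⁻¹ = y by group] at this
      exact e.elim (key s hsL) (key (f aI8) hCL)
    · obtain ⟨n, hn, e⟩ := hrep t ht ht2
      obtain ⟨n', hn', e'⟩ := hrep t' ht' ht2'
      have key : ∀ a : G, n * a * n⁻¹ = t → n' * a * n'⁻¹ = t' → ∃ k ∈ L, k * t * k⁻¹ = t' :=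
        fun a e e' => ⟨n' * n⁻¹, mul_mem hn' (inv_mem hn), by rw [← e, ← e']; group⟩
      rcases e with e | e <;> rcases e' with e' | e'
      · exact key _ e e'
      · exact absurd ((isConj_iff.mpr ⟨n, e⟩).trans (hcj.trans (isConj_iff.mpr ⟨n', e'⟩).symm))
          hna
      · exact absurd ((isConj_iff.mpr ⟨n', e'⟩).trans (hcj.symm.trans (isConj_iff.mpr ⟨n, e⟩).symm))
          hna
      · exact key _ e e'
  exact hna (CfsgLib.StronglyEmbedded.isConj_involutions hse h.orderOf_s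
    (h.orderOf_invol ha const8_inv.2.1))

end CfsgLib.M12Type.Eight
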