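import Cfsg.Agent.M12Type.Data
import Cfsg.Agent.CosetEnum.Sound
import Mathlib

/-!
Checked facts about the numbered group of order 192.
-/

set_option autoImplicit false
set_option maxRecDepth 100000

namespace CfsgLib.M12Type

open CfsgLib.CosetEnum (allBelow)

/-- the conjugate of `b` by `a` -/
noncomputable def cjI (a b : ℕ) : ℕ := mulI (mulI a b) (invI a)

/-- commuting indices -/
noncomputable def commI (a b : ℕ) : Bool := Nat.beq (mulI a b) (mulI b a)

/-- indices of involutions -/
noncomputable def isInv (i : ℕ) : Bool := Nat.beq (mulI i i) 0 && !(Nat.beq i 0)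

/-- implication -/
def impB (a b : Bool) : Bool := bif a then b else true

/-- existence below a bound -/
def anyBelow (f : ℕ → Bool) : ℕ → Bool
  | 0 => false
  | n + 1 => f n || anyBelow f n

theorem allBelow_spec {f : ℕ → Bool} {n : ℕ} (h : allBelow f n = true) : ∀ i < n, f i = true :=
  (CfsgLib.CosetEnum.Model.allBelow_iff f n).1 h

theorem anyBelow_spec {f : ℕ → Bool} : ∀ {n : ℕ}, anyBelow f n = true → ∃ i < n, f i = true
  | 0, h => absurd h (by simp [anyBelow])
  | n + 1, h => by
    rw [anyBelow, Bool.or_eq_true] at h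
    rcases h with h | h
    · exact ⟨n, n.lt_succ_self, h⟩
    · obtain ⟨i, hi, hf⟩ := anyBelow_spec h
      exact ⟨i, by omega, hf⟩

theorem impB_spec {a b : Bool} (h : impB a b = true) (ha : a = true) : b = true := by
  rw [ha] at h; exact h

theorem beq_spec {a b : ℕ} : Nat.beq a b = true ↔ a = b := ⟨Nat.eq_of_beq_eq_true, fun h => by subst h; exact Nat.beq_refl a⟩

theorem beq_false_spec {a b : ℕ} : Nat.beq a b = false ↔ a ≠ b := by
  rw [← Bool.not_eq_true, ne_eq, beq_spec]

theorem blt_spec {a b : ℕ} : Nat.blt a b = true ↔ a < b := by rw [Nat.blt_eq]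

theorem commI_spec {a b : ℕ} : commI a b = true ↔ mulI a b = mulI b a := beq_spec

theorem isInv_spec {i : ℕ} : isInv i = true ↔ mulI i i = 0 ∧ i ≠ 0 := by
  simp [isInv, beq_spec, beq_false_spec]

theorem mul_lt {i j : ℕ} (hi : i < 192) (hj : j < 192) : mulI i j < 192 := by
  have h : allBelow (fun i => allBelow (fun j => Nat.blt (mulI i j) 192) 192) 192 = true := by
    decide +kernel
  exact blt_spec.1 (allBelow_spec (allBelow_spec h i hi) j hj)

theorem inv_facts {i : ℕ} (hi : i < 192) :
    invI i < 192 ∧ mulI i (invI i) = 0 ∧ mulI 0 i = i ∧ mulI i 0 = i ∧ commI i uI = true := by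
  have h : allBelow (fun i => Nat.blt (invI i) 192 && Nat.beq (mulI i (invI i)) 0 &&
      Nat.beq (mulI 0 i) i && Nat.beq (mulI i 0) i && commI i uI) 192 = true := by decide +kernel
  have := allBelow_spec h i hi
  simpa [Bool.and_eq_true, beq_spec, blt_spec, and_assoc] using this

theorem inv_lt {i : ℕ} (hi : i < 192) : invI i < 192 := (inv_facts hi).1

theorem cj_lt {a b : ℕ} (ha : a < 192) (hb : b < 192) : cjI a b < 192 :=
  mul_lt (mul_lt ha hb) (inv_lt ha)

/-- The setwise stabiliser of `{xI, xuI}`, a Sylow 2-subgroup. -/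
noncomputable def inS (i : ℕ) : Bool :=
  Nat.beq (cjI i xI) xI || Nat.beq (cjI i xI) xuI

theorem inS_facts : (∀ i < 192, ∀ j < 192, inS i = true → inS j = true → inS (mulI i j) = true) ∧
    ((List.range 192).filter inS).length = 64 := by
  have h : allBelow (fun i => impB (inS i) (allBelow (fun j => impB (inS j) (inS (mulI i j))) 192)) 192
      = true := by decide +kernel
  refine ⟨fun i hi j hj h1 h2 => ?_, by decide +kernel⟩
  exact impB_spec (allBelow_spec (impB_spec (allBelow_spec h i hi) h1) j hj) h2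

theorem center_inS {i : ℕ} (hi : i < 192)
    (h : ∀ j < 192, inS j = true → mulI i j = mulI j i) : i = 0 ∨ i = uI := by
  have hd : allBelow (fun i => Nat.beq i 0 || Nat.beq i uI ||
      anyBelow (fun j => inS j && !(commI i j)) 192) 192 = true := by decide +kernel
  have := allBelow_spec hd i hi
  simp only [Bool.or_eq_true, beq_spec] at this
  rcases this with (h0 | h0) | h0
  · exact .inl h0
  · exact .inr h0
  · obtain ⟨j, hj, hjj⟩ := anyBelow_spec h0
    rw [Bool.and_eq_true, Bool.not_eq_true'] at hjj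
    rw [commI, beq_false_spec] at hjj
    exact absurd (h j hj hjj.1) hjj.2

/-- Involutions other than the centre lie in three classes. -/
theorem inv_classes {i : ℕ} (hi : i < 192) (h : isInv i = true) :
    i = uI ∨ clsI i = 10 ∨ clsI i = 11 ∨ clsI i = 12 := by
  have hd : allBelow (fun i => impB (isInv i) (Nat.beq i uI || Nat.beq (clsI i) 10 ||
      Nat.beq (clsI i) 11 || Nat.beq (clsI i) 12)) 192 = true := by decide +kernel
  have := impB_spec (allBelow_spec hd i hi) h
  simpa [Bool.or_eq_true, beq_spec, or_assoc] using this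

/-- An element of class 11. -/
def oI : ℕ := 59

/-- Members of one class are conjugate. -/
theorem cls_conj {i : ℕ} (hi : i < 192) {c r : ℕ} (hc : clsI i = c)
    (hr : (c, r) = (10, zI) ∨ (c, r) = (11, oI) ∨ (c, r) = (12, xI)) :
    ∃ l < 192, cjI l r = i := by
  have hd : allBelow (fun i =>
      impB (Nat.beq (clsI i) 10) (anyBelow (fun l => Nat.beq (cjI l zI) i) 192) &&
      impB (Nat.beq (clsI i) 11) (anyBelow (fun l => Nat.beq (cjI l oI) i) 192) &&
      impB (Nat.beq (clsI i) 12) (anyBelow (fun l => Nat.beq (cjI l xI) i) 192)) 192 = true := by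
    decide +kernel
  have h := allBelow_spec hd i hi
  simp only [Bool.and_eq_true] at h
  obtain ⟨⟨h10, h11⟩, h12⟩ := h
  rcases hr with hr | hr | hr <;> obtain ⟨rfl, rfl⟩ := Prod.mk.injEq .. ▸ hr
  · obtain ⟨l, hl, h⟩ := anyBelow_spec (impB_spec h10 (beq_spec.2 hc))
    exact ⟨l, hl, beq_spec.1 h⟩
  · obtain ⟨l, hl, h⟩ := anyBelow_spec (impB_spec h11 (beq_spec.2 hc))
    exact ⟨l, hl, beq_spec.1 h⟩
  · obtain ⟨l, hl, h⟩ := anyBelow_spec (impB_spec h12 (beq_spec.2 hc))
    exact ⟨l, hl, beq_spec.1 h⟩

theorem const_facts : uI < 192 ∧ xI < 192 ∧ xuI < 192 ∧ zI < 192 ∧ aI < 192 ∧ oI < 192 ∧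
    qI < 192 ∧ tauI < 192 ∧
    isInv uI = true ∧ clsI xI = 12 ∧ clsI xuI = 12 ∧ clsI zI = 10 ∧ clsI oI = 11 ∧
    isInv xI = true ∧ isInv zI = true ∧ isInv oI = true ∧ isInv xuI = true ∧
    mulI xI uI = xuI ∧ commI xI zI = true ∧ mulI uI xI = xuI := by
  decide +kernel

/-- In the class 10 centralisers all commutators are trivial or central, and not all are trivial. -/
theorem comm_ten {i : ℕ} (hi : i < 192) (hc : clsI i = 10) :
    (∀ a < 192, ∀ b < 192, commI a i = true → commI b i = true →
        mulI a b = mulI b a ∨ mulI a b = mulI (mulI b a) uI) ∧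
      ∃ a < 192, ∃ b < 192, commI a i = true ∧ commI b i = true ∧ mulI a b ≠ mulI b a := by
  have hd : allBelow (fun i => impB (Nat.beq (clsI i) 10)
      (allBelow (fun a => impB (commI a i) (allBelow (fun b => impB (commI b i)
          (commI a b || Nat.beq (mulI a b) (mulI (mulI b a) uI))) 192)) 192 &&
        anyBelow (fun a => commI a i && anyBelow (fun b => commI b i && !(commI a b)) 192) 192)) 192
      = true := by decide +kernel
  have h := impB_spec (allBelow_spec hd i hi) (beq_spec.2 hc)
  rw [Bool.and_eq_true] at h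
  refine ⟨fun a ha b hb h1 h2 => ?_, ?_⟩
  · have := impB_spec (allBelow_spec (impB_spec (allBelow_spec h.1 a ha) h1) b hb) h2
    simpa [Bool.or_eq_true, commI, beq_spec] using this
  · obtain ⟨a, ha, h'⟩ := anyBelow_spec h.2
    rw [Bool.and_eq_true] at h'
    obtain ⟨b, hb, h''⟩ := anyBelow_spec h'.2
    rw [Bool.and_eq_true, Bool.not_eq_true'] at h''
    exact ⟨a, ha, b, hb, h'.1, h''.1, fun e => by
      rw [commI_spec.2 e] at h''; exact absurd h''.2 (by simp)⟩

/-- A non-abelian centraliser of an involution has the central one as a commutator, and is not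
in class 11. -/
theorem comm_nonabelian {i a b : ℕ} (hi : i < 192) (h : isInv i = true) (hne : i ≠ uI)
    (ha : a < 192) (hb : b < 192) (hai : commI a i = true) (hbi : commI b i = true)
    (hab : mulI a b ≠ mulI b a) :
    clsI i ≠ 11 ∧ ∃ c < 192, ∃ d < 192, commI c i = true ∧ commI d i = true ∧
      mulI c d = mulI (mulI d c) uI := by
  have hd : allBelow (fun i => impB (isInv i && !(Nat.beq i uI))
      (bif Nat.beq (clsI i) 11 then
        allBelow (fun a => impB (commI a i) (allBelow (fun b => impB (commI b i) (commI a b)) 192)) 192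
      else anyBelow (fun c => commI c i && anyBelow (fun d => commI d i &&
        Nat.beq (mulI c d) (mulI (mulI d c) uI)) 192) 192)) 192 = true := by decide +kernel
  have h' := impB_spec (allBelow_spec hd i hi) (by
    rw [Bool.and_eq_true, Bool.not_eq_true', beq_false_spec]; exact ⟨h, hne⟩)
  by_cases h11 : clsI i = 11
  · rw [beq_spec.2 h11, cond_true] at h'
    exact absurd (commI_spec.1 (impB_spec (allBelow_spec (impB_spec (allBelow_spec h' a ha) hai) b hb)
      hbi)) hab
  · rw [beq_false_spec.2 h11, cond_false] at h'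
    obtain ⟨c, hc, h1⟩ := anyBelow_spec h'
    rw [Bool.and_eq_true] at h1
    obtain ⟨d, hd', h2⟩ := anyBelow_spec h1.2
    rw [Bool.and_eq_true, beq_spec] at h2
    exact ⟨h11, c, hc, d, hd', h1.1, h2.1, h2.2⟩

/-- Class 11: two distinct class 12 involutions of the centraliser multiply to the centre, they
exist, and class 10 does not occur. -/
theorem cls_eleven {i : ℕ} (hi : i < 192) (hc : clsI i = 11) :
    (∀ a < 192, commI a i = true → isInv a = true → clsI a ≠ 10) ∧
    (∀ a < 192, ∀ b < 192, commI a i = true → commI b i = true → clsI a = 12 → clsI b = 12 →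
        a = b ∨ mulI a b = uI) ∧
      ∃ a < 192, ∃ b < 192, commI a i = true ∧ commI b i = true ∧ clsI a = 12 ∧ clsI b = 12 ∧
        a ≠ b := by
  have hd : allBelow (fun i => impB (Nat.beq (clsI i) 11)
      (allBelow (fun a => impB (commI a i && isInv a) (!(Nat.beq (clsI a) 10))) 192 &&
      allBelow (fun a => impB (commI a i && Nat.beq (clsI a) 12) (allBelow (fun b =>
        impB (commI b i && Nat.beq (clsI b) 12) (Nat.beq a b || Nat.beq (mulI a b) uI)) 192)) 192 &&
      anyBelow (fun a => commI a i && Nat.beq (clsI a) 12 && anyBelow (fun b => commI b i &&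
        Nat.beq (clsI b) 12 && !(Nat.beq a b)) 192) 192)) 192 = true := by decide +kernel
  have h := impB_spec (allBelow_spec hd i hi) (beq_spec.2 hc)
  simp only [Bool.and_eq_true] at h
  refine ⟨fun a ha h1 h2 => ?_, fun a ha b hb h1 h2 h3 h4 => ?_, ?_⟩
  · have := impB_spec (allBelow_spec h.1.1 a ha) (by simp [h1, h2])
    simpa [beq_false_spec] using this
  · have := impB_spec (allBelow_spec (impB_spec (allBelow_spec h.1.2 a ha)
      (by simp [h1, beq_spec, h3])) b hb) (by simp [h2, beq_spec, h4])
    simpa [Bool.or_eq_true, beq_spec] using this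
  · obtain ⟨a, ha, h'⟩ := anyBelow_spec h.2
    simp only [Bool.and_eq_true] at h'
    obtain ⟨b, hb, h''⟩ := anyBelow_spec h'.2
    simp only [Bool.and_eq_true, Bool.not_eq_true', beq_false_spec] at h''
    exact ⟨a, ha, b, hb, h'.1.1, h''.1.1, beq_spec.1 h'.1.2, beq_spec.1 h''.1.2, h''.2⟩

/-- The centralisers of the noncentral involutions are 2-groups. -/
theorem cent_two_group {i a : ℕ} (hi : i < 192) (h : isInv i = true) (hne : i ≠ uI) (ha : a < 192)
    (hai : commI a i = true) :
    mulI (mulI (mulI a a) (mulI a a)) (mulI (mulI a a) (mulI a a)) = 0 := by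
  have hd : allBelow (fun i => impB (isInv i && !(Nat.beq i uI)) (allBelow (fun a =>
      impB (commI a i) (Nat.beq (mulI (mulI (mulI a a) (mulI a a)) (mulI (mulI a a) (mulI a a))) 0))
        192)) 192 = true := by decide +kernel
  exact beq_spec.1 (impB_spec (allBelow_spec (impB_spec (allBelow_spec hd i hi) (by
    rw [Bool.and_eq_true, Bool.not_eq_true', beq_false_spec]; exact ⟨h, hne⟩)) a ha) hai)

/-- Class 10 times the centre is class 10. -/
theorem ten_mul_u {i : ℕ} (hi : i < 192) (hc : clsI i = 10) :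
    clsI (mulI uI i) = 10 ∧ clsI (mulI i uI) = 10 := by
  have hd : allBelow (fun i => impB (Nat.beq (clsI i) 10)
      (Nat.beq (clsI (mulI uI i)) 10 && Nat.beq (clsI (mulI i uI)) 10)) 192 = true := by
    decide +kernel
  simpa [beq_spec] using impB_spec (allBelow_spec hd i hi) (beq_spec.2 hc)

end CfsgLib.M12Type
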