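import Cfsg.Agent.M12Type.Basic
import Cfsg.Agent.M12Type.ModelData
import Cfsg.Agent.M12Type.EnumGood.Upper
import Cfsg.Agent.M12Type.EnumBad.Upper
import Cfsg.Agent.Mathieu.FusionTests
import Cfsg.Agent.Mathieu.Simple
import Cfsg.Prelude.Def_SporadicB

/-!
The numbered group of order 192 as the centraliser of a central involution inside the Mathieu
group of degree 12, and recognition of that group from the glueing relations.
-/

set_option autoImplicit false
set_option maxRecDepth 100000

namespace CfsgLib.M12Type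

open Cfsg CfsgLib.Mathieu CfsgLib.Mathieu.Code
open CfsgLib.CosetEnum (CertData FactsChecked checkRow gword gword_cons gword_map gword_inverse)

namespace Model

attribute [local irreducible] enc cmpC idC

/-- the code of the element `i` -/
def cdI (i : ℕ) : ℕ := codes.getD i 0

/-- laws of the table -/
noncomputable def tableOK : Bool :=
  (List.range 192).all fun i => (mulI i 0 == i) && (mulI i (invI i) == 0) && decide (invI i < 192) &&
    (mulI i uI == mulI uI i) && (List.range 192).all fun j => decide (mulI i j < 192) &&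
      ((j == 0) || (mulI i j == mulI (mulI i (parI j)) (lastI j)))

/-- laws of the spanning tree -/
def treeOK : Bool :=
  (List.range 192).all fun j =>
    (j == 0) || (decide (parI j < j) && ((lastI j == 1) || (lastI j == 2)))

/-- the codes follow the table -/
noncomputable def codeOK : Bool :=
  (cdI 0 == idC) && ((genPairs.map Prod.fst).take 2 == [cdI 1, cdI 2]) &&
    (List.range 192).all fun i => [1, 2].all fun k => cmpC (cdI i) (cdI k) == cdI (mulI i k)

theorem table_check : tableOK = true := by decide +kernel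

theorem tree_check : treeOK = true := by decide +kernel

theorem code_check : codeOK = true := by decide +kernel

theorem codes_length : codes.length = 192 := by decide +kernel

theorem codes_nodup : codes.Nodup := by decide +kernel

theorem genPairs_length : genPairs.length = 4 := rfl

theorem mulI_lt {i j : ℕ} (hi : i < 192) (hj : j < 192) : mulI i j < 192 := by
  have h := table_check
  simp only [tableOK, List.all_eq_true, List.mem_range, Bool.and_eq_true, decide_eq_true_eq] at h
  exact ((h i hi).2 j hj).1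

theorem mulI_tree {i j : ℕ} (hi : i < 192) (hj : j < 192) (h0 : j ≠ 0) :
    mulI i j = mulI (mulI i (parI j)) (lastI j) := by
  have h := table_check
  simp only [tableOK, List.all_eq_true, List.mem_range, Bool.and_eq_true, Bool.or_eq_true,
    beq_iff_eq, decide_eq_true_eq] at h
  exact (((h i hi).2 j hj).2).resolve_left h0

theorem table_row {i : ℕ} (hi : i < 192) :
    mulI i 0 = i ∧ mulI i (invI i) = 0 ∧ invI i < 192 ∧ mulI i uI = mulI uI i := by
  have h := table_check
  simp only [tableOK, List.all_eq_true, List.mem_range, Bool.and_eq_true,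
    beq_iff_eq, decide_eq_true_eq] at h
  obtain ⟨⟨⟨⟨h1, h2⟩, h3⟩, h4⟩, -⟩ := h i hi
  exact ⟨h1, h2, h3, h4⟩

theorem tree_row {j : ℕ} (hj : j < 192) (h0 : j ≠ 0) :
    parI j < j ∧ (lastI j = 1 ∨ lastI j = 2) := by
  have h := tree_check
  simp only [treeOK, List.all_eq_true, List.mem_range, Bool.and_eq_true, Bool.or_eq_true,
    beq_iff_eq, decide_eq_true_eq] at h
  exact (h j hj).resolve_left h0

theorem code_step {i k : ℕ} (hi : i < 192) (hk : k = 1 ∨ k = 2) :
    cmpC (cdI i) (cdI k) = cdI (mulI i k) := by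
  have h := code_check
  simp only [codeOK, List.all_eq_true, List.mem_range, Bool.and_eq_true, beq_iff_eq] at h
  exact h.2 i hi k (by rcases hk with rfl | rfl <;> simp)

theorem cdI_zero : cdI 0 = idC := by
  have h := code_check
  simp only [codeOK, Bool.and_eq_true, beq_iff_eq] at h
  exact h.1.1

theorem cdI_inj {i j : ℕ} (hi : i < 192) (hj : j < 192) (e : cdI i = cdI j) : i = j := by
  rw [cdI, cdI, List.getD_eq_getElem _ _ (by rwa [codes_length]),
    List.getD_eq_getElem _ _ (by rwa [codes_length])] at e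
  exact codes_nodup.getElem_inj_iff.1 e

theorem rep_gens : ∀ p ∈ genPairs, ∃ g ∈ Cfsg.Spor.M12, code g = p.1 ∧ code g⁻¹ = p.2 :=
  rep_of_check inM12 (fun _ h => inM12_mem h) _ (by decide +kernel)

theorem rep_gen (k : Fin 4) : ∃ g : ↥Cfsg.Spor.M12,
    code g.1 = (genPairs.getD k.1 (0, 0)).1 ∧
      code (g⁻¹).1 = (genPairs.getD k.1 (0, 0)).2 := by
  have hk : k.1 < genPairs.length := lt_of_lt_of_eq k.2 genPairs_length.symm
  rw [List.getD_eq_getElem _ _ hk]
  obtain ⟨g, hg, h⟩ := rep_gens _ (List.getElem_mem hk)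
  exact ⟨⟨g, hg⟩, h⟩

/-- the four generators of the Mathieu group -/
noncomputable def gen (k : Fin 4) : ↥Cfsg.Spor.M12 := (rep_gen k).choose

theorem code_gen (k : Fin 4) : code (gen k).1 = (genPairs.getD k.1 (0, 0)).1 :=
  (rep_gen k).choose_spec.1

theorem code_gen_inv (k : Fin 4) :
    code ((gen k)⁻¹).1 = (genPairs.getD k.1 (0, 0)).2 :=
  (rep_gen k).choose_spec.2

theorem m12_ext {a b : ↥Cfsg.Spor.M12} (h : code a.1 = code b.1) : a = b :=
  Subtype.ext (code_injective h)

theorem rep_el : ∀ i, i < 192 → ∃ g : ↥Cfsg.Spor.M12, code g.1 = cdI i := by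
  intro i
  induction i using Nat.strong_induction_on with
  | _ j ih =>
    intro hj
    rcases eq_or_ne j 0 with rfl | h0
    · exact ⟨1, by rw [cdI_zero]; exact code_one⟩
    · obtain ⟨hp, hl⟩ := tree_row hj h0
      have hp' : parI j < 192 := hp.trans hj
      obtain ⟨a, ha⟩ := ih _ hp hp'
      have hgen : ∃ b : ↥Cfsg.Spor.M12, code b.1 = cdI (lastI j) := by
        have h := code_check
        simp only [codeOK, Bool.and_eq_true, beq_iff_eq] at h
        have h2 := h.1.2
        rcases hl with e | e <;> rw [e]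
        · exact ⟨gen 0, by rw [code_gen]; exact List.cons.inj h2 |>.1⟩
        · exact ⟨gen 1, by rw [code_gen]; exact (List.cons.inj (List.cons.inj h2).2).1⟩
      obtain ⟨b, hb⟩ := hgen
      refine ⟨a * b, ?_⟩
      rw [Subgroup.coe_mul, code_mul, ha, hb, code_step hp' hl]
      have h0j := mulI_tree (i := 0) (by norm_num) hj h0
      have hz : ∀ m, m < 192 → mulI 0 m = m := by decide +kernel
      rw [hz j hj, hz _ hp'] at h0j
      rw [← h0j]

end Model

open Model

/-- the numbered elements inside the Mathieu group -/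
noncomputable def el (i : ℕ) : ↥Cfsg.Spor.M12 :=
  if h : i < 192 then (rep_el i h).choose else 1

/-- the central involution of the model -/
noncomputable def u0 : ↥Cfsg.Spor.M12 := el uI

namespace Model

attribute [local irreducible] enc cmpC idC

theorem code_el {i : ℕ} (h : i < 192) : code (el i).1 = cdI i := by
  rw [el, dif_pos h]
  exact (rep_el i h).choose_spec

theorem uI_lt : uI < 192 := by decide

theorem el_zero : el 0 = 1 :=
  m12_ext (by rw [code_el (by norm_num), cdI_zero]; exact code_one.symm)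

theorem el_gen {i k : ℕ} (hi : i < 192) (hk : k = 1 ∨ k = 2) : el (mulI i k) = el i * el k := by
  have hk' : k < 192 := by omega
  refine m12_ext ?_
  rw [code_el (mulI_lt hi hk'), Subgroup.coe_mul, code_mul, code_el hi, code_el hk',
    code_step hi hk]

theorem el_mul : ∀ j, j < 192 → ∀ i, i < 192 → el (mulI i j) = el i * el j := by
  intro j
  induction j using Nat.strong_induction_on with
  | _ j ih =>
    intro hj i hi
    rcases eq_or_ne j 0 with rfl | h0
    · rw [(table_row hi).1, el_zero, mul_one]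
    · obtain ⟨hp, hl⟩ := tree_row hj h0
      have hp' : parI j < 192 := hp.trans hj
      have hz : ∀ m, m < 192 → mulI 0 m = m := by decide +kernel
      have hj' : el j = el (parI j) * el (lastI j) := by
        have h0j := mulI_tree (i := 0) (by norm_num) hj h0
        rw [hz j hj, hz _ hp'] at h0j
        rw [← el_gen hp' hl, ← h0j]
      rw [mulI_tree hi hj h0, el_gen (mulI_lt hi hp') hl, ih _ hp hp' i hi, hj', mul_assoc]

theorem el_inj {i j : ℕ} (hi : i < 192) (hj : j < 192) (e : el i = el j) : i = j :=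
  cdI_inj hi hj (by rw [← code_el hi, ← code_el hj, e])

theorem el_comm_u0 {i : ℕ} (hi : i < 192) : el i * u0 = u0 * el i := by
  rw [u0, ← el_mul _ uI_lt _ hi, ← el_mul _ hi _ uI_lt, (table_row hi).2.2.2]

theorem gen_zero : gen 0 = el 1 :=
  m12_ext (by
    rw [code_gen, code_el (by norm_num)]
    have h := code_check
    simp only [codeOK, Bool.and_eq_true, beq_iff_eq] at h
    exact (List.cons.inj h.1.2).1)

theorem gen_one : gen 1 = el 2 :=
  m12_ext (by
    rw [code_gen, code_el (by norm_num)]
    have h := code_check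
    simp only [codeOK, Bool.and_eq_true, beq_iff_eq] at h
    exact (List.cons.inj (List.cons.inj h.1.2).2).1)

/-- the list of conjugates of the central involution is coherent -/
def orbitOK : Bool :=
  (orbit.length == 495) && ((orbit.map fun e => e.1).Nodup : Bool) &&
    (List.range 495).all fun i =>
      let e := orbit.getD i (0, 0, 0)
      bif i == 0 then e.1 == cdI uI
      else decide (e.2.1 < i) && decide (e.2.2 < 4) &&
        (cmpC (cmpC (genPairs.getD e.2.2 (0, 0)).1 (orbit.getD e.2.1 (0, 0, 0)).1)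
          (genPairs.getD e.2.2 (0, 0)).2 == e.1)

theorem orbit_check : orbitOK = true := by decide +kernel

theorem orbit_rep (H : Subgroup ↥Cfsg.Spor.M12) (hH : ∀ k, gen k ∈ H) :
    ∀ i < 495, ∃ a ∈ H, code (a * u0 * a⁻¹).1 = (orbit.getD i (0, 0, 0)).1 := by
  have h := orbit_check
  simp only [orbitOK, Bool.and_eq_true, List.all_eq_true, List.mem_range, beq_iff_eq] at h
  intro i
  induction i using Nat.strong_induction_on with
  | _ i ih =>
    intro hi
    have hc := h.2 i hi
    rcases eq_or_ne i 0 with rfl | h0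
    · simp only [beq_self_eq_true, cond_true, beq_iff_eq] at hc
      exact ⟨1, one_mem _, by rw [one_mul, inv_one, mul_one, u0, code_el uI_lt, hc]⟩
    · rw [beq_false_of_ne h0, cond_false] at hc
      simp only [Bool.and_eq_true, decide_eq_true_eq, beq_iff_eq] at hc
      obtain ⟨⟨hp, hk⟩, he⟩ := hc
      obtain ⟨a, ha, hca⟩ := ih _ hp (hp.trans hi)
      refine ⟨gen ⟨_, hk⟩ * a, mul_mem (hH _) ha, ?_⟩
      rw [show gen ⟨_, hk⟩ * a * u0 * (gen ⟨_, hk⟩ * a)⁻¹ =
        gen ⟨_, hk⟩ * (a * u0 * a⁻¹) * (gen ⟨_, hk⟩)⁻¹ by group, Subgroup.coe_mul,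
        Subgroup.coe_mul, code_mul, code_mul, code_gen, code_gen_inv, hca, ← he]

theorem orbit_mul_le {α : Type*} (φ : α → ↥Cfsg.Spor.M12) (hinj : Function.Injective φ)
    (hc : ∀ x, φ x * u0 = u0 * φ x) (H : Subgroup ↥Cfsg.Spor.M12) (hH : ∀ k, gen k ∈ H)
    (hφ : ∀ x, φ x ∈ H) : 495 * Nat.card α ≤ Nat.card H := by
  classical
  choose a ha hca using orbit_rep H hH
  have hnd : ((orbit.map fun e => e.1).Nodup) ∧ orbit.length = 495 := by
    have h := orbit_check
    simp only [orbitOK, Bool.and_eq_true, beq_iff_eq, decide_eq_true_eq] at h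
    exact ⟨h.1.2, h.1.1⟩
  let F : Fin 495 × α → H := fun p => ⟨a p.1 p.1.2 * φ p.2, mul_mem (ha _ _) (hφ _)⟩
  have hF : Function.Injective F := by
    rintro ⟨i, x⟩ ⟨j, y⟩ e
    have e' : a i i.2 * φ x = a j j.2 * φ y := congrArg Subtype.val e
    have hu : ∀ (z : α) (b : ↥Cfsg.Spor.M12), (b * φ z) * u0 * (b * φ z)⁻¹ = b * u0 * b⁻¹ := by
      intro z b
      rw [show (b * φ z) * u0 * (b * φ z)⁻¹ = b * (φ z * u0) * (φ z)⁻¹ * b⁻¹ by group, hc]
      group
    have hij : i = j := by
      have := congrArg (fun b => code (b * u0 * b⁻¹).1) e'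
      simp only [hu, hca] at this
      rw [List.getD_eq_getElem _ _ (hnd.2.symm ▸ i.2), List.getD_eq_getElem _ _ (hnd.2.symm ▸ j.2)]
        at this
      refine Fin.ext ((hnd.1.getElem_inj_iff (hi := by rw [List.length_map, hnd.2]; exact i.2)
        (hj := by rw [List.length_map, hnd.2]; exact j.2)).1 ?_)
      rw [List.getElem_map, List.getElem_map, this]
    subst hij
    exact Prod.ext rfl (hinj (mul_left_cancel e'))
  calc 495 * Nat.card α = Nat.card (Fin 495 × α) := by rw [Nat.card_prod, Nat.card_fin]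
    _ ≤ _ := Nat.card_le_card_of_injective F hF

theorem card_centralizer_u0_le :
    Nat.card (Subgroup.centralizer ({u0} : Set ↥Cfsg.Spor.M12)) ≤ 192 := by
  have h := orbit_mul_le (fun x : Subgroup.centralizer ({u0} : Set ↥Cfsg.Spor.M12) => x.1)
    Subtype.val_injective (fun x => Subgroup.mem_centralizer_singleton_iff.1 x.2) ⊤
    (fun _ => trivial) fun _ => trivial
  rw [Subgroup.card_top, card_M12] at h
  omega

theorem closure_gens :
    Subgroup.closure ({el 1, el 2, gen 2, gen 3} : Set ↥Cfsg.Spor.M12) = ⊤ := by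
  set H := Subgroup.closure ({el 1, el 2, gen 2, gen 3} : Set ↥Cfsg.Spor.M12) with hH
  have hgen : ∀ k, gen k ∈ H := by
    intro k
    refine Subgroup.subset_closure ?_
    fin_cases k
    · exact Or.inl gen_zero
    · exact Or.inr (Or.inl gen_one)
    · exact Or.inr (Or.inr (Or.inl rfl))
    · exact Or.inr (Or.inr (Or.inr rfl))
  have hel : ∀ i, i < 192 → el i ∈ H := by
    intro i
    induction i using Nat.strong_induction_on with
    | _ j ih =>
      intro hj
      rcases eq_or_ne j 0 with rfl | h0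
      · rw [el_zero]; exact one_mem _
      · obtain ⟨hp, hl⟩ := tree_row hj h0
        have hz : ∀ m, m < 192 → mulI 0 m = m := by decide +kernel
        have h0j := mulI_tree (i := 0) (by norm_num) hj h0
        rw [hz j hj, hz _ (hp.trans hj)] at h0j
        rw [h0j, el_gen (hp.trans hj) hl]
        refine mul_mem (ih _ hp (hp.trans hj)) ?_
        rcases hl with e | e <;> rw [e]
        · exact gen_zero ▸ hgen 0
        · exact gen_one ▸ hgen 1
  have h := orbit_mul_le (fun i : Fin 192 => el i) (fun i j e => Fin.ext (el_inj i.2 j.2 e))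
    (fun i => el_comm_u0 i.2) H hgen fun i => hel i i.2
  rw [Nat.card_fin] at h
  refine Subgroup.eq_top_of_card_eq H (le_antisymm (Subgroup.card_le_card_group H) ?_)
  rw [card_M12]
  exact h

end Model

/-- The numbered group is the centraliser of `u0`. -/
theorem el_emb : Emb el u0 := by
  refine ⟨fun i hi j hj => el_mul j hj i hi, fun i hi j hj => el_inj hi hj, fun h hh => ?_, rfl⟩
  let φ : Fin 192 → Subgroup.centralizer ({u0} : Set ↥Cfsg.Spor.M12) := fun i =>
    ⟨el i, Subgroup.mem_centralizer_singleton_iff.2 (el_comm_u0 i.2)⟩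
  have hφ : Function.Injective φ := fun i j e =>
    Fin.ext (el_inj i.2 j.2 (congrArg Subtype.val e))
  have hle := Nat.card_le_card_of_injective φ hφ
  rw [Nat.card_fin] at hle
  have hb : Function.Bijective φ :=
    (Nat.bijective_iff_injective_and_card φ).2
      ⟨hφ, by rw [Nat.card_fin]; exact le_antisymm hle card_centralizer_u0_le⟩
  obtain ⟨i, hi⟩ := hb.2 ⟨h, Subgroup.mem_centralizer_singleton_iff.2 hh⟩
  exact ⟨i, i.2, congrArg Subtype.val hi⟩

namespace Model

attribute [local irreducible] enc cmpC idC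

/-- laws of the Sylow subgroup of the numbered group -/
noncomputable def sylOK : Bool :=
  (sylList.length == 64) && (sylList.Nodup : Bool) && sylList.contains 0 &&
    (sylList.all fun i => decide (i < 192) && sylList.contains (invI i) &&
      sylList.all fun j => sylList.contains (mulI i j)) &&
    (List.range 192).all fun i =>
      !(sylList.all fun j => mulI i j == mulI j i) || (i == 0) || (i == uI)

theorem syl_check : sylOK = true := by decide +kernel

theorem center_check : ((List.range 192).all fun i =>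
    !((mulI i 1 == mulI 1 i) && (mulI i 2 == mulI 2 i)) || (i == 0) || (i == uI)) = true := by
  decide +kernel

theorem el_inv {i : ℕ} (hi : i < 192) : el (invI i) = (el i)⁻¹ :=
  eq_inv_of_mul_eq_one_right
    (by rw [← el_mul _ (table_row hi).2.2.1 _ hi, (table_row hi).2.1, el_zero])

theorem u0_sq : u0 * u0 = 1 := by
  rw [u0, ← el_mul _ uI_lt _ uI_lt, show mulI uI uI = 0 by decide +kernel, el_zero]

theorem u0_ne : u0 ≠ 1 := fun e => by
  have := el_inj uI_lt (by norm_num : 0 < 192) (e.trans el_zero.symm)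
  exact absurd this (by decide)

theorem orderOf_u0 : orderOf u0 = 2 :=
  orderOf_eq_prime (by rw [pow_two, u0_sq]) u0_ne

theorem eq_u0_of_central {z : ↥Cfsg.Spor.M12} (hz : z * u0 = u0 * z) (h1 : z * el 1 = el 1 * z)
    (h2 : z * el 2 = el 2 * z) (hne : z ≠ 1) : z = u0 := by
  obtain ⟨i, hi, rfl⟩ := el_emb.surj z hz
  rw [← el_mul _ (by norm_num) _ hi, ← el_mul _ hi _ (by norm_num)] at h1 h2
  have e1 := el_inj (mulI_lt hi (by norm_num)) (mulI_lt (by norm_num) hi) h1
  have e2 := el_inj (mulI_lt hi (by norm_num)) (mulI_lt (by norm_num) hi) h2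
  have h := List.all_eq_true.1 center_check i (List.mem_range.2 hi)
  simp only [e1, e2, beq_self_eq_true, Bool.and_self, Bool.not_true, Bool.false_or,
    Bool.or_eq_true, beq_iff_eq] at h
  rcases h with rfl | rfl
  · exact absurd el_zero hne
  · rfl

/-- the Sylow subgroup of the numbered group, inside the Mathieu group -/
noncomputable def sylSub : Subgroup ↥Cfsg.Spor.M12 where
  carrier := {g | ∃ i ∈ sylList, el i = g}
  one_mem' := ⟨0, List.contains_iff_mem.1 (by decide +kernel), el_zero⟩
  mul_mem' := by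
    rintro _ _ ⟨i, hi, rfl⟩ ⟨j, hj, rfl⟩
    have h := syl_check
    simp only [sylOK, Bool.and_eq_true, List.all_eq_true, decide_eq_true_eq] at h
    exact ⟨_, List.contains_iff_mem.1 ((h.1.2 i hi).2 j hj),
      el_mul _ (h.1.2 j hj).1.1 _ (h.1.2 i hi).1.1⟩
  inv_mem' := by
    rintro _ ⟨i, hi, rfl⟩
    have h := syl_check
    simp only [sylOK, Bool.and_eq_true, List.all_eq_true, decide_eq_true_eq] at h
    exact ⟨_, List.contains_iff_mem.1 (h.1.2 i hi).1.2, el_inv (h.1.2 i hi).1.1⟩

theorem card_sylSub : Nat.card sylSub = 64 := by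
  classical
  have h := syl_check
  simp only [sylOK, Bool.and_eq_true, List.all_eq_true, decide_eq_true_eq, beq_iff_eq] at h
  let φ : {i // i ∈ sylList.toFinset} → sylSub := fun i =>
    ⟨el i, i, List.mem_toFinset.1 i.2, rfl⟩
  have hφ : Function.Bijective φ := by
    constructor
    · intro i j e
      exact Subtype.ext (el_inj (h.1.2 _ (List.mem_toFinset.1 i.2)).1.1
        (h.1.2 _ (List.mem_toFinset.1 j.2)).1.1 (congrArg Subtype.val e))
    · rintro ⟨_, i, hi, rfl⟩
      exact ⟨⟨i, List.mem_toFinset.2 hi⟩, rfl⟩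
  rw [← Nat.card_eq_of_bijective φ hφ, Nat.card_eq_fintype_card, Fintype.card_coe,
    List.card_toFinset, List.Nodup.dedup h.1.1.1.2, h.1.1.1.1]

end Model

/-- A central involution of the Mathieu group is conjugate to `u0`. -/
theorem isConj_u0 (u : ↥Cfsg.Spor.M12) (hu : Cfsg.IsTwoCentralInvolution u) : IsConj u0 u := by
  classical
  haveI : Fact (Nat.Prime 2) := ⟨Nat.prime_two⟩
  obtain ⟨hord, P, huP, hPc⟩ := hu
  obtain ⟨P0, hP0⟩ := IsPGroup.exists_le_sylow
    (IsPGroup.of_card (p := 2) (n := 6) (card_sylSub.trans (by norm_num)))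
  have hcard : Nat.card (P0 : Subgroup ↥Cfsg.Spor.M12) = 64 := by
    rw [Sylow.card_eq_multiplicity, card_M12]
    have : (95040 : ℕ).factorization 2 = 6 := by
      rw [show (95040 : ℕ) = 2 ^ 6 * 1485 by norm_num, Nat.factorization_mul (by norm_num) (by norm_num),
        Finsupp.add_apply, Nat.Prime.factorization_pow Nat.prime_two, Finsupp.single_eq_same,
        Nat.factorization_eq_zero_of_not_dvd (by norm_num : ¬ 2 ∣ 1485)]
    rw [this]
    norm_num
  have heq : sylSub = (P0 : Subgroup ↥Cfsg.Spor.M12) :=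
    Subgroup.eq_of_le_of_card_ge hP0 (by rw [hcard, card_sylSub])
  obtain ⟨a, ha⟩ := MulAction.exists_smul_eq ↥Cfsg.Spor.M12 P P0
  have hu' : a * u * a⁻¹ ∈ sylSub := by
    rw [heq, ← ha]
    exact ⟨u, huP, rfl⟩
  have hcomm : ∀ k ∈ sylSub, a * u * a⁻¹ * k = k * (a * u * a⁻¹) := by
    intro k hk
    rw [heq, ← ha] at hk
    obtain ⟨x, hx, rfl⟩ := hk
    show a * u * a⁻¹ * (a * x * a⁻¹) = a * x * a⁻¹ * (a * u * a⁻¹)
    calc a * u * a⁻¹ * (a * x * a⁻¹) = a * (u * x) * a⁻¹ := by group
      _ = a * (x * u) * a⁻¹ := by rw [hPc x hx]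
      _ = _ := by group
  obtain ⟨i, hi, hie⟩ := hu'
  have h := syl_check
  simp only [sylOK, Bool.and_eq_true, List.all_eq_true, decide_eq_true_eq] at h
  have hi' : i < 192 := (h.1.2 i hi).1.1
  have hz := h.2 i (List.mem_range.2 hi')
  have hall : (sylList.all fun j => mulI i j == mulI j i) = true := by
    refine List.all_eq_true.2 fun j hj => beq_iff_eq.2 ?_
    have hj' : j < 192 := (h.1.2 j hj).1.1
    refine el_inj (mulI_lt hi' hj') (mulI_lt hj' hi') ?_
    rw [el_mul _ hj' _ hi', el_mul _ hi' _ hj', hie]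
    exact hcomm _ ⟨j, hj, rfl⟩
  rw [hall] at hz
  simp only [Bool.not_true, Bool.false_or, Bool.or_eq_true, beq_iff_eq] at hz
  rcases hz with rfl | rfl
  · rw [el_zero] at hie
    have : u = 1 := by
      calc u = a⁻¹ * (a * u * a⁻¹) * a := by group
        _ = 1 := by rw [← hie]; group
    rw [this, orderOf_one] at hord
    norm_num at hord
  · exact (isConj_iff.2 ⟨a, hie.symm⟩).symm

/-- An involution with centraliser isomorphic to that of a central involution of the Mathieu
group has an embedding of the numbered group. -/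
theorem exists_emb {G : Type*} [Group G] (t : G) (ht : orderOf t = 2) (u : ↥Cfsg.Spor.M12)
    (hu : Cfsg.IsTwoCentralInvolution u)
    (e : ↥(Subgroup.centralizer ({t} : Set G)) ≃*
      ↥(Subgroup.centralizer ({u} : Set ↥Cfsg.Spor.M12))) :
    ∃ f : ℕ → G, Emb f t := by
  obtain ⟨c, hc⟩ := isConj_iff.1 (isConj_u0 u hu)
  have hback : ∀ x, x * u = u * x ↔ c⁻¹ * x * c * u0 = u0 * (c⁻¹ * x * c) := by
    intro x
    subst hc
    constructor
    · intro h
      calc c⁻¹ * x * c * u0 = c⁻¹ * (x * (c * u0 * c⁻¹)) * c := by group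
        _ = c⁻¹ * (c * u0 * c⁻¹ * x) * c := by rw [h]
        _ = _ := by group
    · intro h
      calc x * (c * u0 * c⁻¹) = c * (c⁻¹ * x * c * u0) * c⁻¹ := by group
        _ = c * (u0 * (c⁻¹ * x * c)) * c⁻¹ := by rw [h]
        _ = _ := by group
  have hmem : ∀ i < 192, c * el i * c⁻¹ ∈ Subgroup.centralizer ({u} : Set ↥Cfsg.Spor.M12) := by
    intro i hi
    rw [Subgroup.mem_centralizer_singleton_iff, hback,
      show c⁻¹ * (c * el i * c⁻¹) * c = el i by group]
    exact el_comm_u0 hi
  let f : ℕ → G := fun i => if h : i < 192 then ((e.symm ⟨_, hmem i h⟩ : _) : G) else 1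
  have hf : ∀ i (h : i < 192), f i = ((e.symm ⟨_, hmem i h⟩ : _) : G) := fun i h => dif_pos h
  have ht1 : (⟨t, Subgroup.mem_centralizer_singleton_iff.2 rfl⟩ :
      Subgroup.centralizer ({t} : Set G)) ≠ 1 := by
    intro h
    rw [show t = 1 from congrArg Subtype.val h, orderOf_one] at ht
    norm_num at ht
  set tt : Subgroup.centralizer ({t} : Set G) := ⟨t, Subgroup.mem_centralizer_singleton_iff.2 rfl⟩
    with htt
  have het : ∀ y, e tt * y = y * e tt := by
    intro y
    obtain ⟨x, rfl⟩ := e.surjective y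
    rw [← map_mul, ← map_mul]
    congr 1
    exact Subtype.ext (Subgroup.mem_centralizer_singleton_iff.1 x.2).symm
  have hz : c⁻¹ * (e tt).1 * c = u0 := by
    have h1 := fun i hi => congrArg Subtype.val (het ⟨_, hmem i hi⟩)
    simp only [Subgroup.coe_mul] at h1
    have h' : ∀ i < 192, c⁻¹ * (e tt).1 * c * el i = el i * (c⁻¹ * (e tt).1 * c) := fun i hi => by
      calc c⁻¹ * (e tt).1 * c * el i = c⁻¹ * ((e tt).1 * (c * el i * c⁻¹)) * c := by group
        _ = c⁻¹ * ((c * el i * c⁻¹) * (e tt).1) * c := by rw [h1 i hi]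
        _ = _ := by group
    refine eq_u0_of_central (h' uI uI_lt) (h' 1 (by norm_num)) (h' 2 (by norm_num)) ?_
    intro h
    refine ht1 (e.injective (Subtype.ext ?_))
    rw [map_one, OneMemClass.coe_one]
    calc (e tt).1 = c * (c⁻¹ * (e tt).1 * c) * c⁻¹ := by group
      _ = 1 := by rw [h]; group
  refine ⟨f, ⟨fun i hi j hj => ?_, fun i hi j hj h => ?_, fun h hh => ?_, ?_⟩⟩
  · rw [hf i hi, hf j hj, hf _ (mulI_lt hi hj), ← Subgroup.coe_mul, ← map_mul]
    refine congrArg (fun z => ((e.symm z : _) : G)) (Subtype.ext ?_)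
    show c * el (mulI i j) * c⁻¹ = c * el i * c⁻¹ * (c * el j * c⁻¹)
    rw [el_mul j hj i hi]
    group
  · rw [hf i hi, hf j hj] at h
    have h' : c * el i * c⁻¹ = c * el j * c⁻¹ :=
      congrArg Subtype.val (e.symm.injective (Subtype.ext h))
    exact el_inj hi hj (mul_left_cancel (mul_right_cancel h'))
  · set x := e ⟨h, Subgroup.mem_centralizer_singleton_iff.2 hh⟩ with hx
    obtain ⟨i, hi, hie⟩ := el_emb.surj (c⁻¹ * x.1 * c)
      ((hback x.1).1 (Subgroup.mem_centralizer_singleton_iff.1 x.2))
    refine ⟨i, hi, ?_⟩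
    rw [hf i hi]
    have : (⟨_, hmem i hi⟩ : Subgroup.centralizer ({u} : Set ↥Cfsg.Spor.M12)) = x :=
      Subtype.ext (show c * el i * c⁻¹ = x.1 by rw [hie]; group)
    rw [this, hx, MulEquiv.symm_apply_apply]
  · rw [hf _ uI_lt]
    have : (⟨_, hmem uI uI_lt⟩ : Subgroup.centralizer ({u} : Set ↥Cfsg.Spor.M12)) = e tt :=
      Subtype.ext (by
        show c * u0 * c⁻¹ = _
        rw [← hz]; group)
    rw [this, MulEquiv.symm_apply_apply]

namespace Model

attribute [local irreducible] enc cmpC idC

/-- codes of the eight letters -/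
def letCodes : List ℕ := genPairs.flatMap fun p => [p.1, p.2]

/-- the code of a word in the letters -/
def wordCode : List ℕ → ℕ
  | [] => idC
  | x :: w => cmpC (letCodes.getD x idC) (wordCode w)

theorem code_lets (k : ℕ) : code (lets el (gen 2) (gen 3) k).1 = letCodes.getD k idC := by
  match k with
  | 0 => rw [show lets el (gen 2) (gen 3) 0 = el 1 from rfl, ← gen_zero, code_gen]; rfl
  | 1 => rw [show lets el (gen 2) (gen 3) 1 = (el 1)⁻¹ from rfl, ← gen_zero, code_gen_inv]; rfl
  | 2 => rw [show lets el (gen 2) (gen 3) 2 = el 2 from rfl, ← gen_one, code_gen]; rfl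
  | 3 => rw [show lets el (gen 2) (gen 3) 3 = (el 2)⁻¹ from rfl, ← gen_one, code_gen_inv]; rfl
  | 4 => rw [show lets el (gen 2) (gen 3) 4 = gen 2 from rfl, code_gen]; rfl
  | 5 => rw [show lets el (gen 2) (gen 3) 5 = (gen 2)⁻¹ from rfl, code_gen_inv]; rfl
  | 6 => rw [show lets el (gen 2) (gen 3) 6 = gen 3 from rfl, code_gen]; rfl
  | 7 => rw [show lets el (gen 2) (gen 3) 7 = (gen 3)⁻¹ from rfl, code_gen_inv]; rfl
  | n + 8 =>
    rw [show lets el (gen 2) (gen 3) (n + 8) = 1 from rfl, OneMemClass.coe_one, code_one,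
      List.getD_eq_default _ _ (le_trans (le_of_eq (by rfl)) (Nat.le_add_left 8 n))]

theorem code_gword : ∀ w, code (gword (lets el (gen 2) (gen 3)) w).1 = wordCode w
  | [] => code_one
  | x :: w => by rw [gword_cons, Subgroup.coe_mul, code_mul, code_lets, code_gword w, wordCode]

theorem rels_check : ((goodRel :: baseRels).all fun w => wordCode w == idC) = true := by
  decide +kernel

theorem lets_inv {G : Type*} [Group G] (f : ℕ → G) (g t : G) (x : ℕ) :
    lets f g t (x ^^^ 1) = (lets f g t x)⁻¹ := by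
  match x with
  | 0 => rfl
  | 1 => exact (inv_inv _).symm
  | 2 => rfl
  | 3 => exact (inv_inv _).symm
  | 4 => rfl
  | 5 => exact (inv_inv _).symm
  | 6 => rfl
  | 7 => exact (inv_inv _).symm
  | n + 8 =>
    have h : ((n + 8) ^^^ 1) / 2 = (n + 8) / 2 := by
      rw [← Nat.shiftRight_one, Nat.shiftRight_xor_distrib, Nat.shiftRight_one, Nat.shiftRight_one]
      simp
    have h8 : 8 ≤ (n + 8) ^^^ 1 := by omega
    obtain ⟨m, hm⟩ := Nat.exists_eq_add_of_le' h8
    rw [hm]
    exact inv_one.symm

theorem lets_map {G K : Type*} [Group G] [Group K] (φ : G →* K) (f : ℕ → G) (g t : G) (x : ℕ) :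
    φ (lets f g t x) = lets (fun i => φ (f i)) (φ g) (φ t) x := by
  match x with
  | 0 => rfl
  | 1 => exact map_inv φ _
  | 2 => rfl
  | 3 => exact map_inv φ _
  | 4 => rfl
  | 5 => exact map_inv φ _
  | 6 => rfl
  | 7 => exact map_inv φ _
  | n + 8 => exact map_one φ

theorem closure_lets {G : Type*} [Group G] (f : ℕ → G) (g t : G) :
    Subgroup.closure {a | ∃ x < 8, lets f g t x = a} = Subgroup.closure {f 1, f 2, g, t} := by
  refine le_antisymm ((Subgroup.closure_le _).2 ?_) (Subgroup.closure_mono ?_)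
  · rintro _ ⟨x, hx, rfl⟩
    have h : ∀ y, y ∈ ({f 1, f 2, g, t} : Set G) → y ∈ Subgroup.closure {f 1, f 2, g, t} :=
      fun y hy => Subgroup.subset_closure hy
    interval_cases x
    · exact h _ (Or.inl rfl)
    · exact inv_mem (h _ (Or.inl rfl))
    · exact h _ (Or.inr (Or.inl rfl))
    · exact inv_mem (h _ (Or.inr (Or.inl rfl)))
    · exact h _ (Or.inr (Or.inr (Or.inl rfl)))
    · exact inv_mem (h _ (Or.inr (Or.inr (Or.inl rfl))))
    · exact h _ (Or.inr (Or.inr (Or.inr rfl)))
    · exact inv_mem (h _ (Or.inr (Or.inr (Or.inr rfl))))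
  · rintro y (rfl | rfl | rfl | rfl)
    · exact ⟨0, by norm_num, rfl⟩
    · exact ⟨2, by norm_num, rfl⟩
    · exact ⟨4, by norm_num, rfl⟩
    · exact ⟨6, by norm_num, rfl⟩

/-- the image of a numbering, as a subgroup -/
noncomputable def imgSub {G : Type*} [Group G] (v : ℕ → G)
    (hv : ∀ i < 192, ∀ j < 192, v (mulI i j) = v i * v j) : Subgroup G where
  carrier := {a | ∃ i < 192, v i = a}
  one_mem' := ⟨0, by norm_num, mul_eq_left.1
    ((hv 0 (by norm_num) 0 (by norm_num)).symm.trans (by rw [(table_row (by norm_num)).1]))⟩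
  mul_mem' := by
    rintro _ _ ⟨i, hi, rfl⟩ ⟨j, hj, rfl⟩
    exact ⟨_, mulI_lt hi hj, hv i hi j hj⟩
  inv_mem' := by
    rintro _ ⟨i, hi, rfl⟩
    refine ⟨_, (table_row hi).2.2.1, eq_inv_of_mul_eq_one_right ?_⟩
    rw [← hv i hi _ (table_row hi).2.2.1, (table_row hi).2.1]
    exact mul_eq_left.1
      ((hv 0 (by norm_num) 0 (by norm_num)).symm.trans (by rw [(table_row (by norm_num)).1]))

/-- the words of a certificate are the relators, their inverses and the first two generators -/
def wordsOK (words : List (List ℕ)) (r : List ℕ) : Bool :=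
  (words.take 30).all (fun w => (r :: baseRels).contains w ||
      ((r :: baseRels).map fun v => v.reverse.map fun x => x ^^^ 1).contains w) &&
    (words.drop 30).all fun w => [[0], [2]].contains w

theorem wordsGood : wordsOK EnumGood.cert.words goodRel = true := by decide +kernel

theorem wordsBad : wordsOK EnumBad.cert.words badRel = true := by decide +kernel

theorem enum_bound {G : Type*} [Group G] {C : CertData} {N : ℕ}
    (hN : FactsChecked C.ep C.iv C.words C.nr N) (hn : 0 < C.n) (h0 : C.node 0 = 0)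
    (hrow : ∀ i < C.n, checkRow C.ep C.iv N C.L C.node C.T C.tf C.n i = true)
    (hiv : C.iv = fun x => x ^^^ 1) (hnr : C.nr = 30) (hL : C.L = 8) {r : List ℕ}
    (hw : wordsOK C.words r = true) (v : ℕ → G)
    (hv : ∀ i < 192, ∀ j < 192, v (mulI i j) = v i * v j) (g t : G) (hs : Sat v g t r) :
    (imgSub v hv).relIndex (Subgroup.closure {v 1, v 2, g, t}) ≤ C.n ∧
      (imgSub v hv).relIndex (Subgroup.closure {v 1, v 2, g, t}) ≠ 0 := by
  have hg : ∀ x, lets v g t (C.iv x) = (lets v g t x)⁻¹ := fun x => by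
    rw [hiv]; exact lets_inv v g t x
  simp only [wordsOK, Bool.and_eq_true, List.all_eq_true, Bool.or_eq_true,
    List.contains_iff_mem] at hw
  have hrel : ∀ (k : ℕ) (w : List ℕ), C.words[k]? = some w → k < C.nr →
      gword (lets v g t) w = 1 := by
    intro k w hk hlt
    have hm : w ∈ C.words.take 30 :=
      List.mem_of_getElem? (i := k) (by rw [List.getElem?_take, if_pos (hnr ▸ hlt), hk])
    rcases hw.1 w hm with h | h
    · exact hs w h
    · obtain ⟨u, hu, rfl⟩ := List.mem_map.1 h
      rw [gword_inverse (lets v g t) (fun x => x ^^^ 1) (fun x => lets_inv v g t x), hs u hu,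
        inv_one]
  have hsub : ∀ (k : ℕ) (w : List ℕ), C.words[k]? = some w →
      gword (lets v g t) w ∈ imgSub v hv := by
    intro k w hk
    by_cases hlt : k < C.nr
    · rw [hrel k w hk hlt]; exact one_mem _
    · have hm : w ∈ C.words.drop 30 :=
        List.mem_of_getElem? (i := k - 30)
          (by rw [List.getElem?_drop, show 30 + (k - 30) = k by omega, hk])
      have h := hw.2 w hm
      simp only [List.mem_cons, List.not_mem_nil, or_false] at h
      rcases h with rfl | rfl
      · exact ⟨1, by norm_num, by simp [gword, lets]⟩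
      · exact ⟨2, by norm_num, by simp [gword, lets]⟩
  have h := CfsgLib.CosetEnum.relIndex_le hN hn h0 hrow (imgSub v hv) (lets v g t) hg hrel hsub
  rwa [hL, closure_lets] at h

end Model

/-- The Mathieu group satisfies the true glueing relations. -/
theorem exists_sat : ∃ g0 t0 : ↥Cfsg.Spor.M12, Sat el g0 t0 goodRel ∧
    Subgroup.closure ({el 1, el 2, g0, t0} : Set ↥Cfsg.Spor.M12) = ⊤ := by
  refine ⟨gen 2, gen 3, fun w hw => m12_ext ?_, closure_gens⟩
  rw [code_gword, beq_iff_eq.1 (List.all_eq_true.1 rels_check w hw)]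
  exact code_one.symm

/-- A simple group generated by elements with the true relations is the Mathieu group. -/
theorem isoM12_of_sat {G : Type*} [Group G] [Nontrivial G] {f : ℕ → G} {s g t : G}
    (h : Emb f s) (hr : Sat f g t goodRel)
    (htop : Subgroup.closure ({f 1, f 2, g, t} : Set G) = ⊤) : Cfsg.Spor.IsoM12 G := by
  classical
  obtain ⟨g0, t0, hr0, htop0⟩ := exists_sat
  let v : ℕ → G × ↥Cfsg.Spor.M12 := fun i => (f i, el i)
  have hv : ∀ i < 192, ∀ j < 192, v (mulI i j) = v i * v j := fun i hi j hj =>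
    Prod.ext (h.mul i hi j hj) (el_emb.mul i hi j hj)
  have hs : Sat v (g, g0) (t, t0) goodRel := by
    intro w hw
    refine Prod.ext ?_ ?_
    · show MonoidHom.fst G ↥Cfsg.Spor.M12 (gword (lets v (g, g0) (t, t0)) w) = 1
      rw [gword_map, show (fun x => MonoidHom.fst G ↥Cfsg.Spor.M12 (lets v (g, g0) (t, t0) x)) =
        lets f g t from funext fun x => lets_map _ v _ _ x]
      exact hr w hw
    · show MonoidHom.snd G ↥Cfsg.Spor.M12 (gword (lets v (g, g0) (t, t0)) w) = 1
      rw [gword_map, show (fun x => MonoidHom.snd G ↥Cfsg.Spor.M12 (lets v (g, g0) (t, t0) x)) =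
        lets el g0 t0 from funext fun x => lets_map _ v _ _ x]
      exact hr0 w hw
  have hb := enum_bound EnumGood.facts EnumGood.n_pos EnumGood.node_zero EnumGood.rows rfl rfl rfl
    wordsGood v hv (g, g0) (t, t0) hs
  set H := Subgroup.closure ({v 1, v 2, (g, g0), (t, t0)} : Set (G × ↥Cfsg.Spor.M12)) with hH
  set D := imgSub v hv with hD
  let ψ : Fin 192 → D := fun i => ⟨v i, i, i.2, rfl⟩
  have hψ : Function.Surjective ψ := by
    rintro ⟨_, i, hi, rfl⟩
    exact ⟨⟨i, hi⟩, rfl⟩
  haveI : Finite D := Finite.of_surjective ψ hψ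
  haveI : Finite (D ⊓ H : Subgroup _) :=
    Finite.of_injective _ (Subgroup.inclusion_injective inf_le_left)
  have hDH : Nat.card (D ⊓ H : Subgroup _) ≤ 192 :=
    (Nat.card_le_card_of_injective _ (Subgroup.inclusion_injective inf_le_left)).trans
      ((Nat.card_le_card_of_surjective ψ hψ).trans (by rw [Nat.card_fin]))
  have hmul := Subgroup.relIndex_mul_relIndex ⊥ (D ⊓ H) H bot_le inf_le_right
  rw [Subgroup.relIndex_bot_left, Subgroup.relIndex_bot_left, Subgroup.inf_relIndex_right] at hmul
  have hle : Nat.card H ≤ 95040 := by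
    rw [← hmul]
    exact (Nat.mul_le_mul hDH hb.1).trans (le_of_eq rfl)
  haveI : Finite H := Nat.finite_of_card_ne_zero
    (by rw [← hmul]; exact Nat.mul_ne_zero Nat.card_pos.ne' hb.2)

  let π2 := (MonoidHom.snd G ↥Cfsg.Spor.M12).comp H.subtype
  let π1 := (MonoidHom.fst G ↥Cfsg.Spor.M12).comp H.subtype
  have h2 : Function.Surjective π2 := by
    rw [← MonoidHom.range_eq_top, MonoidHom.range_comp, Subgroup.range_subtype,
      hH, MonoidHom.map_closure, Set.image_insert_eq, Set.image_insert_eq, Set.image_insert_eq,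
      Set.image_singleton]
    exact htop0
  have h1 : Function.Surjective π1 := by
    rw [← MonoidHom.range_eq_top, MonoidHom.range_comp, Subgroup.range_subtype,
      hH, MonoidHom.map_closure, Set.image_insert_eq, Set.image_insert_eq, Set.image_insert_eq,
      Set.image_singleton]
    exact htop
  have hb2 : Function.Bijective π2 := (Nat.bijective_iff_surjective_and_card π2).2
    ⟨h2, le_antisymm (by rw [card_M12]; exact hle) (Nat.card_le_card_of_surjective _ h2)⟩
  haveI : IsSimpleGroup Cfsg.Spor.M12 := isSimpleGroup_M12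
  haveI : IsSimpleGroup H := (MulEquiv.ofBijective π2 hb2).isSimpleGroup
  have hinj : Function.Injective π1 := by
    rw [← MonoidHom.ker_eq_bot_iff]
    refine (IsSimpleGroup.eq_bot_or_eq_top_of_normal π1.ker inferInstance).resolve_right ?_
    intro htopk
    obtain ⟨a, ha⟩ := exists_ne (1 : G)
    obtain ⟨x, hx⟩ := h1 a
    refine ha (hx.symm.trans ?_)
    exact MonoidHom.mem_ker.1 (by rw [htopk]; trivial)
  exact ⟨(MulEquiv.ofBijective π1 ⟨hinj, h1⟩).symm.trans (MulEquiv.ofBijective π2 hb2)⟩

/-- The collapsing relations force the glueing element into the centraliser. -/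
theorem comm_of_badRel {G : Type*} [Group G] {f : ℕ → G} {s g t : G} (h : Emb f s)
    (hr : Sat f g t badRel) : g * s = s * g := by
  have hb := (enum_bound EnumBad.facts EnumBad.n_pos EnumBad.node_zero EnumBad.rows rfl rfl rfl
    wordsBad f h.mul g t hr)
  have h1 : (imgSub f h.mul).relIndex (Subgroup.closure {f 1, f 2, g, t}) = 1 := by
    have : EnumBad.cert.n = 1 := rfl
    omega
  obtain ⟨i, hi, hie⟩ := (Subgroup.relIndex_eq_one.1 h1)
    (Subgroup.subset_closure (Or.inr (Or.inr (Or.inl rfl))))
  rw [← hie, ← h.map_u, ← h.mul _ hi _ uI_lt, ← h.mul _ uI_lt _ hi, (table_row hi).2.2.2]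

end CfsgLib.M12Type
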