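import Cfsg.Agent.M12Type.Data8
import Mathlib.GroupTheory.SpecificGroups.Alternating
import Mathlib.Tactic

/-!
The numbered centraliser of order 192 inside the alternating group of degree 8, as permutations.
-/

set_option autoImplicit false
set_option maxRecDepth 100000

namespace CfsgLib.M12Type.Eight

/-- The images of the eight points. -/
def imgs (g : Equiv.Perm (Fin 8)) : List ℕ := (List.finRange 8).map fun i => (g i : ℕ)

/-- Composition of lists of images. -/
def comp8 (a b : List ℕ) : List ℕ := b.map fun x => a.getD x 0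

theorem imgs_getD (g : Equiv.Perm (Fin 8)) (i : Fin 8) : (imgs g).getD (i : ℕ) 0 = (g i : ℕ) := by
  rw [List.getD_eq_getElem _ _ (by simp [imgs])]
  simp [imgs]

theorem imgs_mul (g h : Equiv.Perm (Fin 8)) : imgs (g * h) = comp8 (imgs g) (imgs h) := by
  show (List.finRange 8).map _ = ((List.finRange 8).map fun i => (h i : ℕ)).map _
  rw [List.map_map]
  refine List.map_congr_left fun i _ => ?_
  show (g (h i) : ℕ) = (imgs g).getD (h i : ℕ) 0
  rw [imgs_getD]

theorem imgs_injective : Function.Injective imgs := fun g h e => Equiv.ext fun i =>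
  Fin.ext (by rw [← imgs_getD, ← imgs_getD, e])

/-- The images in the element numbered `i`. -/
def cd8 (i : ℕ) : List ℕ :=
  (List.range 8).map fun k => codes8.getD i 0 / 8 ^ k % 8

/-- The two generators. -/
def gA : Equiv.Perm (Fin 8) where
  toFun := ![7, 6, 2, 3, 0, 1, 5, 4]
  invFun := ![4, 5, 2, 3, 7, 6, 1, 0]
  left_inv := by decide
  right_inv := by decide

/-- The two generators. -/
def gB : Equiv.Perm (Fin 8) where
  toFun := ![7, 6, 5, 4, 1, 0, 3, 2]
  invFun := ![5, 4, 7, 6, 3, 2, 1, 0]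
  left_inv := by decide
  right_inv := by decide

/-- laws of the table -/
noncomputable def table8OK : Bool :=
  (List.range 192).all fun i => (mul8 i 0 == i) && (mul8 0 i == i) && (mul8 i (inv8 i) == 0) &&
    decide (inv8 i < 192) && (mul8 i uI8 == mul8 uI8 i) &&
    (comp8 (cd8 i) (cd8 1) == cd8 (mul8 i 1)) && (comp8 (cd8 i) (cd8 2) == cd8 (mul8 i 2)) &&
    (List.range 192).all fun j => decide (mul8 i j < 192) &&
      ((j == 0) || (decide (par8 j < j) && ((last8 j == 1) || (last8 j == 2)) &&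
        (mul8 i j == mul8 (mul8 i (par8 j)) (last8 j))))

theorem table8_check : table8OK = true := by decide +kernel

theorem gens_check : imgs gA = cd8 1 ∧ imgs gB = cd8 2 ∧ imgs 1 = cd8 0 ∧
    Equiv.Perm.sign gA = 1 ∧ Equiv.Perm.sign gB = 1 := by
  decide +kernel

theorem cd8_nodup : ((List.range 192).map cd8).Nodup := by decide +kernel

theorem row8 {i : ℕ} (hi : i < 192) :
    mul8 i 0 = i ∧ mul8 0 i = i ∧ mul8 i (inv8 i) = 0 ∧ inv8 i < 192 ∧
      mul8 i uI8 = mul8 uI8 i ∧ comp8 (cd8 i) (cd8 1) = cd8 (mul8 i 1) ∧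
      comp8 (cd8 i) (cd8 2) = cd8 (mul8 i 2) := by
  have h := table8_check
  simp only [table8OK, List.all_eq_true, List.mem_range, Bool.and_eq_true, beq_iff_eq,
    decide_eq_true_eq] at h
  obtain ⟨⟨⟨⟨⟨⟨⟨h1, h2⟩, h3⟩, h4⟩, h5⟩, h6⟩, h7⟩, -⟩ := h i hi
  exact ⟨h1, h2, h3, h4, h5, h6, h7⟩

theorem mul8_lt {i j : ℕ} (hi : i < 192) (hj : j < 192) : mul8 i j < 192 := by
  have h := table8_check
  simp only [table8OK, List.all_eq_true, List.mem_range, Bool.and_eq_true, decide_eq_true_eq] at h
  exact ((h i hi).2 j hj).1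

theorem tree8 {j : ℕ} (hj : j < 192) (h0 : j ≠ 0) :
    par8 j < j ∧ (last8 j = 1 ∨ last8 j = 2) ∧
      ∀ i < 192, mul8 i j = mul8 (mul8 i (par8 j)) (last8 j) := by
  have h := table8_check
  simp only [table8OK, List.all_eq_true, List.mem_range, Bool.and_eq_true, Bool.or_eq_true,
    beq_iff_eq, decide_eq_true_eq] at h
  have h' := fun i hi => (((h i hi).2 j hj).2).resolve_left h0
  exact ⟨(h' 0 (by norm_num)).1.1, (h' 0 (by norm_num)).1.2, fun i hi => (h' i hi).2⟩

theorem rep8 : ∀ i, i < 192 → ∃ g : Equiv.Perm (Fin 8), g ∈ alternatingGroup (Fin 8) ∧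
    imgs g = cd8 i := by
  intro i
  induction i using Nat.strong_induction_on with
  | _ j ih =>
    intro hj
    rcases eq_or_ne j 0 with rfl | h0
    · exact ⟨1, one_mem _, gens_check.2.2.1⟩
    · obtain ⟨hp, hl, hm⟩ := tree8 hj h0
      obtain ⟨a, haA, ha⟩ := ih _ hp (hp.trans hj)
      have hj' := hm 0 (by norm_num)
      rw [(row8 hj).2.1, (row8 (hp.trans hj)).2.1] at hj'
      obtain ⟨-, -, -, -, -, h6, h7⟩ := row8 (hp.trans hj)
      rcases hl with e | e <;> rw [e] at hj'
      · refine ⟨a * gA, mul_mem haA gens_check.2.2.2.1, ?_⟩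
        rw [imgs_mul, ha, gens_check.1, h6, ← hj']
      · refine ⟨a * gB, mul_mem haA gens_check.2.2.2.2, ?_⟩
        rw [imgs_mul, ha, gens_check.2.1, h7, ← hj']

/-- The numbered elements as even permutations of eight points. -/
noncomputable def el8 (i : ℕ) : alternatingGroup (Fin 8) :=
  if h : i < 192 then ⟨(rep8 i h).choose, (rep8 i h).choose_spec.1⟩ else 1

theorem imgs_el8 {i : ℕ} (h : i < 192) : imgs (el8 i).1 = cd8 i := by
  rw [el8, dif_pos h]
  exact (rep8 i h).choose_spec.2

theorem el8_inj {i j : ℕ} (hi : i < 192) (hj : j < 192) (e : el8 i = el8 j) : i = j := by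
  have e' : cd8 i = cd8 j := by rw [← imgs_el8 hi, ← imgs_el8 hj, e]
  have hl : ((List.range 192).map cd8).length = 192 := by simp
  refine (cd8_nodup.getElem_inj_iff (hi := by omega) (hj := by omega)).1 ?_
  rw [List.getElem_map, List.getElem_map, List.getElem_range, List.getElem_range, e']

theorem el8_gen {i : ℕ} (hi : i < 192) :
    el8 (mul8 i 1) = el8 i * el8 1 ∧ el8 (mul8 i 2) = el8 i * el8 2 := by
  obtain ⟨-, -, -, -, -, h6, h7⟩ := row8 hi
  constructor <;> refine Subtype.ext (imgs_injective ?_) <;>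
    rw [Subgroup.coe_mul, imgs_mul, imgs_el8 hi, imgs_el8 (mul8_lt hi (by norm_num)),
      imgs_el8 (by norm_num)] <;>
    first | exact h6.symm | exact h7.symm

theorem el8_zero : el8 0 = 1 :=
  Subtype.ext (imgs_injective ((imgs_el8 (by norm_num)).trans gens_check.2.2.1.symm))

theorem el8_mul : ∀ j, j < 192 → ∀ i, i < 192 → el8 (mul8 i j) = el8 i * el8 j := by
  intro j
  induction j using Nat.strong_induction_on with
  | _ j ih =>
    intro hj i hi
    rcases eq_or_ne j 0 with rfl | h0
    · rw [(row8 hi).1, el8_zero, mul_one]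
    · obtain ⟨hp, hl, hm⟩ := tree8 hj h0
      have hp' : par8 j < 192 := hp.trans hj
      have hj' := hm 0 (by norm_num)
      rw [(row8 hj).2.1, (row8 hp').2.1] at hj'
      rw [hm i hi]
      conv_rhs => rw [hj']
      rcases hl with e | e <;> rw [e]
      · rw [(el8_gen (mul8_lt hi hp')).1, (el8_gen hp').1, ih _ hp hp' i hi, mul_assoc]
      · rw [(el8_gen (mul8_lt hi hp')).2, (el8_gen hp').2, ih _ hp hp' i hi, mul_assoc]

/-- `f` numbers the centraliser of `s`, compatibly with the second table. -/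
structure Emb8 {G : Type*} [Group G] (f : ℕ → G) (s : G) : Prop where
  mul : ∀ i < 192, ∀ j < 192, f (mul8 i j) = f i * f j
  inj : ∀ i < 192, ∀ j < 192, f i = f j → i = j
  surj : ∀ h : G, h * s = s * h → ∃ i < 192, f i = h
  map_u : f uI8 = s

end CfsgLib.M12Type.Eight
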