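import Cfsg.Agent.M12Type.QuatRels
import Cfsg.Agent.M12Type.Model8
import Cfsg.Agent.M12Type.Model
import Cfsg.Agent.M12Type.Facts
import Cfsg.Agent.LargeExtraspecial.Extraspecial
import Cfsg.Prelude.Def_Solvable
import Cfsg.Prelude.Def_Transfer
import Cfsg.Agent.Eq.Def_Solvable

/-!
An involution centraliser which is an extension of an extraspecial group of order 32 by the
symmetric group of degree three, with fusion in the extraspecial group: one of two numbered groups.
-/

set_option autoImplicit false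
set_option maxRecDepth 100000

namespace CfsgLib.M12Type

open Cfsg CfsgLib.LargeExtraspecial

/-- the extraspecial subgroup in the first table -/
def qList : List ℕ :=
  [0, 3, 14, 19, 23, 42, 46, 49, 54, 58, 61, 68, 69, 76, 80, 95, 103, 119, 124, 128, 134, 138, 139,
    140, 148, 150, 153, 174, 180, 181, 186, 187]

/-- the extraspecial subgroup in the second table -/
def qList8 : List ℕ :=
  [0, 6, 17, 21, 28, 33, 47, 53, 57, 62, 63, 68, 71, 75, 79, 83, 88, 97, 100, 125, 127, 134, 136,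
    143, 152, 156, 160, 161, 167, 170, 179, 182]

namespace ExtraL

/-- the letters of the first table -/
def fixGens : List ℕ := [uI, 42, 46, 124, 128, 125, 59]

/-- the letters of the second table -/
def swapGens : List ℕ := [Eight.uI8, 57, 71, 62, 79, 41, 49]

/-- value of a word in a table -/
noncomputable def tval (T : ℕ → ℕ → ℕ) (g : List ℕ) : List ℕ → ℕ
  | [] => 0
  | x :: w => T (g.getD x 0) (tval T g w)

/-- the relations and the generation, in a table -/
noncomputable def tableRels (T : ℕ → ℕ → ℕ) (g : List ℕ) (L : List (List ℕ × List ℕ))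
    (w1 w2 : List ℕ) (Ql : List ℕ) : Bool :=
  (L.all fun w => tval T g w.1 == tval T g w.2) && (tval T g w1 == 1) && (tval T g w2 == 2) &&
    [0, g.getD 1 0, g.getD 2 0, T (g.getD 1 0) (g.getD 2 0)].all fun i =>
      [0, g.getD 3 0, g.getD 4 0, T (g.getD 3 0) (g.getD 4 0)].all fun j =>
        [0, g.getD 0 0].all fun k => Ql.contains (T (T i j) k)

theorem fix_table : tableRels mulI fixGens fixEqs [5, 4, 6, 2] [2, 4, 5] qList = true := by
  decide +kernel

theorem swap_table :
    tableRels Eight.mul8 swapGens swapEqs [1, 5, 5] [0, 5, 4, 6] qList8 = true := by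
  decide +kernel

theorem tval_lt {T : ℕ → ℕ → ℕ} (hT : ∀ i < 192, ∀ j < 192, T i j < 192) {g : List ℕ}
    (hg : ∀ x, g.getD x 0 < 192) : ∀ w, tval T g w < 192
  | [] => by norm_num [tval]
  | x :: w => hT _ (hg x) _ (tval_lt hT hg w)

theorem weval_tval {T : ℕ → ℕ → ℕ} (hT : ∀ i < 192, ∀ j < 192, T i j < 192) {g : List ℕ}
    (hg : ∀ x, g.getD x 0 < 192) {M : Type*} [Group M] (v : ℕ → M)
    (hv : ∀ i < 192, ∀ j < 192, v (T i j) = v i * v j) (h0 : v 0 = 1) :
    ∀ w, v (tval T g w) = weval (fun x => v (g.getD x 0)) w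
  | [] => by simp [tval, weval, h0]
  | x :: w => by
    rw [tval, hv _ (hg x) _ (tval_lt hT hg w), weval_tval hT hg v hv h0 w]
    simp [weval]

theorem fixGens_lt : ∀ x, fixGens.getD x 0 < 192
  | 0 => by decide
  | 1 => by decide
  | 2 => by decide
  | 3 => by decide
  | 4 => by decide
  | 5 => by decide
  | 6 => by decide
  | n + 7 => by simp [fixGens]

theorem swapGens_lt : ∀ x, swapGens.getD x 0 < 192
  | 0 => by decide
  | 1 => by decide
  | 2 => by decide
  | 3 => by decide
  | 4 => by decide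
  | 5 => by decide
  | 6 => by decide
  | n + 7 => by simp [swapGens]

/-- The letters of a group, as a function. -/
def tuple {G : Type*} [Group G] (s a b c d r n : G) : ℕ → G :=
  fun x => [s, a, b, c, d, r, n].getD x 1

/-- Transfer to a group with the relations of the table. -/
theorem numbering {G M : Type*} [Group G] [Group M] {T : ℕ → ℕ → ℕ}
    (hT : ∀ i < 192, ∀ j < 192, T i j < 192) (v : ℕ → M)
    (hv : ∀ i < 192, ∀ j < 192, v (T i j) = v i * v j) (h0 : v 0 = 1)
    (hinj : ∀ i < 192, ∀ j < 192, v i = v j → i = j)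
    (par last : ℕ → ℕ) (htree : ∀ j < 192, j ≠ 0 → par j < j ∧ (last j = 1 ∨ last j = 2) ∧
      v j = v (par j) * v (last j))
    {g : List ℕ} (hg : ∀ x, g.getD x 0 < 192) {L : List (List ℕ × List ℕ)} {w1 w2 Ql : List ℕ}
    (htab : tableRels T g L w1 w2 Ql = true) (hlen : g.length = 7)
    (mkPair : ∀ {p : ℕ → G} {q : ℕ → M}, Eqs p L → Eqs q L → ∃ e na nb nc nd e' na' nb' nc' nd',
      QuatRels (p 0, q 0) (p 1, q 1) (p 2, q 2) (p 3, q 3) (p 4, q 4) (p 5, q 5) (p 6, q 6)
        (e, e') (na, na') (nb, nb') (nc, nc') (nd, nd') ∧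
      QuatRels (p 0) (p 1) (p 2) (p 3) (p 4) (p 5) (p 6) e na nb nc nd ∧
      QuatRels (q 0) (q 1) (q 2) (q 3) (q 4) (q 5) (q 6) e' na' nb' nc' nd')
    {s a b c d r n : G} (hG : Eqs (tuple s a b c d r n) L) :
    ∃ f : ℕ → G, f (g.getD 0 0) = s ∧ (∀ i < 192, ∀ j < 192, f (T i j) = f i * f j) ∧
      (∀ y ∈ Subgroup.closure ({n, r, d, c, b, a, s} : Set G), ∃ i < 192, f i = y) ∧
      ∀ x ∈ [1, a, b, a * b], ∀ y ∈ [1, c, d, c * d], ∀ z ∈ [1, s],
        ∃ i ∈ Ql, i < 192 ∧ f i = x * y * z := by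
  simp only [tableRels, Bool.and_eq_true, List.all_eq_true, beq_iff_eq,
    List.contains_iff_mem] at htab
  obtain ⟨⟨⟨hrel, h1⟩, h2⟩, hql⟩ := htab
  set q : ℕ → M := fun x => v (g.getD x 0)
  have hq : Eqs q L := fun w hw => by
    rw [← weval_tval hT hg v hv h0, ← weval_tval hT hg v hv h0, hrel w hw]
  obtain ⟨e, na, nb, nc, nd, e', na', nb', nc', nd', hp, hGr, hMr⟩ := mkPair hG hq
  have hcov : ∀ i < 192, v i ∈ Subgroup.closure ({q 6, q 5, q 4, q 3, q 2, q 1, q 0} : Set M) := by
    have hgen : ∀ w, v (tval T g w) ∈ Subgroup.closure ({q 6, q 5, q 4, q 3, q 2, q 1, q 0} : Set M) := by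
      intro w
      rw [weval_tval hT hg v hv h0]
      refine list_prod_mem ?_
      intro y hy
      obtain ⟨x, -, rfl⟩ := List.mem_map.1 hy
      by_cases hx : x < 7
      · exact Subgroup.subset_closure (by interval_cases x <;> simp [q])
      · rw [List.getD_eq_default _ _ (by omega), h0]
        exact one_mem _
    intro i
    induction i using Nat.strong_induction_on with
    | _ j ih =>
      intro hj
      rcases eq_or_ne j 0 with rfl | hne
      · rw [h0]; exact one_mem _
      · obtain ⟨hpj, hl, he⟩ := htree j hj hne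
        rw [he]
        refine mul_mem (ih _ hpj (by omega)) ?_
        rcases hl with e | e <;> rw [e]
        · have hw := hgen w1; rwa [h1] at hw
        · have hw := hgen w2; rwa [h2] at hw
  obtain ⟨f, hfu, hmul, hsurj, huniq⟩ :=
    Pair192.transfer v 192 rfl T hT hv hinj (u := g.getD 0 0) (hg 0) hGr hMr hp hcov
  refine ⟨f, hfu, hmul, hsurj, fun x hx y hy z hz => ?_⟩
  have e1 : f (g.getD 1 0) = a := huniq _ _ (hg 1) (by simp [q, tuple])
  have e2 : f (g.getD 2 0) = b := huniq _ _ (hg 2) (by simp [q, tuple])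
  have e3 : f (g.getD 3 0) = c := huniq _ _ (hg 3) (by simp [q, tuple])
  have e4 : f (g.getD 4 0) = d := huniq _ _ (hg 4) (by simp [q, tuple])
  have f0 : f 0 = 1 := by
    have := hmul 0 (by norm_num) 0 (by norm_num)
    have h00 : T 0 0 = 0 := hinj _ (hT 0 (by norm_num) 0 (by norm_num)) 0 (by norm_num)
      (by rw [hv 0 (by norm_num) 0 (by norm_num), h0, mul_one])
    rwa [h00, left_eq_mul] at this
  obtain ⟨i, hi, hi', rfl⟩ : ∃ i ∈ [0, g.getD 1 0, g.getD 2 0, T (g.getD 1 0) (g.getD 2 0)],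
      i < 192 ∧ f i = x := by
    simp only [List.mem_cons, List.not_mem_nil, or_false] at hx
    rcases hx with rfl | rfl | rfl | rfl
    · exact ⟨0, by simp, by norm_num, f0⟩
    · exact ⟨_, by simp, hg 1, e1⟩
    · exact ⟨_, by simp, hg 2, e2⟩
    · exact ⟨_, by simp, hT _ (hg 1) _ (hg 2), by rw [hmul _ (hg 1) _ (hg 2), e1, e2]⟩
  obtain ⟨j, hj, hj', rfl⟩ : ∃ j ∈ [0, g.getD 3 0, g.getD 4 0, T (g.getD 3 0) (g.getD 4 0)],
      j < 192 ∧ f j = y := by
    simp only [List.mem_cons, List.not_mem_nil, or_false] at hy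
    rcases hy with rfl | rfl | rfl | rfl
    · exact ⟨0, by simp, by norm_num, f0⟩
    · exact ⟨_, by simp, hg 3, e3⟩
    · exact ⟨_, by simp, hg 4, e4⟩
    · exact ⟨_, by simp, hT _ (hg 3) _ (hg 4), by rw [hmul _ (hg 3) _ (hg 4), e3, e4]⟩
  obtain ⟨k, hk, hk', rfl⟩ : ∃ k ∈ [0, g.getD 0 0], k < 192 ∧ f k = z := by
    simp only [List.mem_cons, List.not_mem_nil, or_false] at hz
    rcases hz with rfl | rfl
    · exact ⟨0, by simp, by norm_num, f0⟩
    · exact ⟨_, by simp, hg 0, hfu⟩
  exact ⟨_, hql i hi j hj k hk, hT _ (hT _ hi' _ hj') _ hk',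
    by rw [hmul _ (hT _ hi' _ hj') _ hk', hmul _ hi' _ hj']⟩

/-- The extraspecial subgroup with a fixed-point-free element of order three. -/
structure Frame {G : Type*} [Group G] (s : G) (Q : Subgroup G) (r : G) : Prop where
  card : Nat.card Q = 32
  s_mem : s ∈ Q
  s_sq : s * s = 1
  s_ne : s ≠ 1
  s_comm : ∀ q ∈ Q, q * s = s * q
  sq : ∀ q ∈ Q, q * q = 1 ∨ q * q = s
  comm : ∀ p ∈ Q, ∀ q ∈ Q, p * q * p⁻¹ = q ∨ p * q * p⁻¹ = q * s
  center : ∀ q ∈ Q, (∀ p ∈ Q, p * q = q * p) → q = 1 ∨ q = s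
  r_cube : r * r * r = 1
  r_s : r * s = s * r
  r_norm : ∀ q ∈ Q, r * q * r⁻¹ ∈ Q
  fpf : ∀ q ∈ Q, r * q = q * r → q = 1 ∨ q = s

variable {G : Type*} [Group G] {s : G} {Q : Subgroup G} {r : G}

theorem sq_eq_of_ne {G : Type*} [Group G] {s a : G} (hs : s * s = 1) (ha : a * a = s) :
    a⁻¹ = a * s := inv_eq_of_mul_eq_one_right (by rw [← mul_assoc, ha, hs])

/-- The orbit relation: a quaternion group. -/
theorem Frame.quat (F : Frame s Q r) {a : G} (ha : a ∈ Q) (ha2 : a * a = s) :
    ∃ a', (a' = a ∨ a' = a * s) ∧ (r * a' * r⁻¹) * (r * a' * r⁻¹) = s ∧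
      (r * a' * r⁻¹) * a' * (r * a' * r⁻¹)⁻¹ = a' * s ∧
      r * (r * a' * r⁻¹) * r⁻¹ = a' * (r * a' * r⁻¹) := by
  set b := r * a * r⁻¹ with hb
  set e := r * b * r⁻¹ with he
  have hbQ : b ∈ Q := F.r_norm a ha
  have heQ : e ∈ Q := F.r_norm b hbQ
  have hrs : r * s * r⁻¹ = s := by rw [F.r_s, mul_inv_cancel_right]
  have hb2 : b * b = s := by
    rw [hb, show r * a * r⁻¹ * (r * a * r⁻¹) = r * (a * a) * r⁻¹ by group, ha2, hrs]
  have he2 : e * e = s := by
    rw [he, show r * b * r⁻¹ * (r * b * r⁻¹) = r * (b * b) * r⁻¹ by group, hb2, hrs]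
  have hre : r * e * r⁻¹ = a := by
    calc r * e * r⁻¹ = (r * r * r) * a * (r * r * r)⁻¹ := by rw [he, hb]; group
      _ = a := by rw [F.r_cube]; group
  -- the product of the orbit is central
  set w := a * b * e with hw
  have hwQ : w ∈ Q := mul_mem (mul_mem ha hbQ) heQ
  have hrw : r * w * r⁻¹ = b * e * a := by
    calc r * w * r⁻¹ = (r * a * r⁻¹) * (r * b * r⁻¹) * (r * e * r⁻¹) := by rw [hw]; group
      _ = b * e * a := by rw [hre, ← he, ← hb]
  have hfix : w = 1 ∨ w = s := by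
    refine F.fpf w hwQ ?_
    have h1 : r * w * r⁻¹ = a⁻¹ * w * a⁻¹⁻¹ := by rw [hrw, hw]; group
    rcases F.comm a⁻¹ (inv_mem ha) w hwQ with h2 | h2
    · rw [h2] at h1; exact mul_inv_eq_iff_eq_mul.1 h1
    · exfalso
      rw [h2] at h1
      have hR : ∀ v, r * (v * s) * r⁻¹ = r * v * r⁻¹ * s := fun v => by
        nth_rewrite 2 [← hrs]; group
      have h3 : (r * r * r) * w * (r * r * r)⁻¹ = w * s * s * s := by
        calc (r * r * r) * w * (r * r * r)⁻¹ = r * (r * (r * w * r⁻¹) * r⁻¹) * r⁻¹ := by group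
          _ = w * s * s * s := by rw [h1, hR, h1, hR, hR, h1]
      rw [F.r_cube, one_mul, inv_one, mul_one, mul_assoc w s s, F.s_sq, mul_one, left_eq_mul] at h3
      exact F.s_ne h3
  have hab : e = (a * b)⁻¹ ∨ e = (a * b)⁻¹ * s := by
    rcases hfix with h | h
    · exact .inl (eq_inv_of_mul_eq_one_right h)
    · exact .inr (by rw [← h, hw]; group)
  have hab2 : (a * b) * (a * b) = s := by
    have hs' : s⁻¹ = s := inv_eq_of_mul_eq_one_right F.s_sq
    rcases hab with h | h
    · calc a * b * (a * b) = ((a * b)⁻¹ * (a * b)⁻¹)⁻¹ := by group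
        _ = s := by rw [← h, he2, hs']
    · have hc := F.s_comm _ (inv_mem (mul_mem ha hbQ))
      have : (a * b)⁻¹ * (a * b)⁻¹ = s := by
        calc (a * b)⁻¹ * (a * b)⁻¹ = (a * b)⁻¹ * (a * b)⁻¹ * (s * s) := by rw [F.s_sq, mul_one]
          _ = (a * b)⁻¹ * ((a * b)⁻¹ * s) * s := by group
          _ = (a * b)⁻¹ * (s * (a * b)⁻¹) * s := by rw [hc]
          _ = ((a * b)⁻¹ * s) * ((a * b)⁻¹ * s) := by group
          _ = s := by rw [← h, he2]
      calc a * b * (a * b) = ((a * b)⁻¹ * (a * b)⁻¹)⁻¹ := by group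
        _ = s := by rw [this, hs']
  have habi : (a * b)⁻¹ = a * b * s := sq_eq_of_ne F.s_sq hab2
  have hba : b * a * b⁻¹ = a * s := by
    calc b * a * b⁻¹ = a⁻¹ * (a * b * (a * b)) * (b * b)⁻¹ := by group
      _ = a⁻¹ := by rw [hab2, hb2, mul_inv_cancel_right]
      _ = a * s := sq_eq_of_ne F.s_sq ha2
  rw [habi] at hab
  rcases hab with h | h
  · refine ⟨a * s, .inr rfl, ?_, ?_, ?_⟩
    all_goals rw [show r * (a * s) * r⁻¹ = b * s by rw [hb]; nth_rewrite 2 [← hrs]; group]
    · calc b * s * (b * s) = b * (s * b) * s := by group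
        _ = (b * b) * (s * s) := by rw [← F.s_comm b hbQ]; group
        _ = s := by rw [hb2, F.s_sq, mul_one]
    · calc b * s * (a * s) * (b * s)⁻¹ = b * (s * a) * b⁻¹ := by group
        _ = (b * a * b⁻¹) * (b * s * b⁻¹) := by rw [← F.s_comm a ha]; group
        _ = a * s * s := by rw [hba, F.s_comm b hbQ, mul_inv_cancel_right]
    · calc r * (b * s) * r⁻¹ = (r * b * r⁻¹) * (r * s * r⁻¹) := by group
        _ = a * b * s * s := by rw [← he, h, hrs]
        _ = a * (b * s) * s := by group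
        _ = a * (s * b) * s := by rw [F.s_comm b hbQ]
        _ = a * s * (b * s) := by group
  · refine ⟨a, .inl rfl, hb2, hba, ?_⟩
    rw [← hb, ← he, h, mul_assoc, F.s_sq, mul_one]

theorem Frame.comm_symm (F : Frame s Q r) {p q : G} (hp : p ∈ Q) (hq : q ∈ Q)
    (h : p * q * p⁻¹ = q * s) : q * p * q⁻¹ = p * s := by
  refine (F.comm q hq p hp).resolve_left fun e => F.s_ne ?_
  have e' : q * p = p * q := mul_inv_eq_iff_eq_mul.1 e
  rw [← e', mul_inv_cancel_right, left_eq_mul] at h
  exact h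

/-- A part of one quaternion group. -/
def xpart {G : Type*} [Group G] (a b : G) (i j : Bool) : G := cond i a 1 * cond j b 1

/-- A pair of commuting quaternion groups. -/
structure Frame.Pair {G : Type*} [Group G] {s : G} {Q : Subgroup G} {r : G} (_F : Frame s Q r)
    (a b c d : G) : Prop where
  a_mem : a ∈ Q
  b_mem : b ∈ Q
  c_mem : c ∈ Q
  d_mem : d ∈ Q
  a_sq : a * a = s
  b_sq : b * b = s
  c_sq : c * c = s
  d_sq : d * d = s
  ba : b * a * b⁻¹ = a * s
  dc : d * c * d⁻¹ = c * s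
  ac : a * c = c * a
  ad : a * d = d * a
  bc : b * c = c * b
  bd : b * d = d * b
  ra : r * a * r⁻¹ = b
  rb : r * b * r⁻¹ = a * b
  rc : r * c * r⁻¹ = d
  rd : r * d * r⁻¹ = c * d

theorem Frame.xpart_mem (_F : Frame s Q r) {a b : G} (ha : a ∈ Q) (hb : b ∈ Q) (i j : Bool) :
    xpart a b i j ∈ Q := by
  cases i <;> cases j <;> simp [xpart, ha, hb, one_mem, mul_mem]

theorem Frame.mul_s_s (F : Frame s Q r) (v : G) : v * s * s = v := by
  rw [mul_assoc, F.s_sq, mul_one]

theorem Frame.sq_mul_s (F : Frame s Q r) {v : G} (hv : v ∈ Q) : v * s * (v * s) = v * v := by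
  calc v * s * (v * s) = v * (s * v) * s := by group
    _ = v * (v * s) * s := by rw [← F.s_comm v hv]
    _ = v * v * (s * s) := by group
    _ = v * v := by rw [F.s_sq, mul_one]

theorem Frame.xpart_conj (F : Frame s Q r) {a b : G} (ha : a ∈ Q) (hb : b ∈ Q)
    (hba : b * a * b⁻¹ = a * s) (i j : Bool) :
    xpart a b i j * a * (xpart a b i j)⁻¹ = cond j (a * s) a ∧
      xpart a b i j * b * (xpart a b i j)⁻¹ = cond i (b * s) b ∧
      xpart a b i j * s * (xpart a b i j)⁻¹ = s := by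
  have hab := F.comm_symm hb ha hba
  have has : a * (a * s) * a⁻¹ = a * s := by
    calc a * (a * s) * a⁻¹ = a * (a * s * a⁻¹) := by group
      _ = a * s := congrArg (a * ·) (by rw [F.s_comm a ha, mul_inv_cancel_right])
  have hs : ∀ v ∈ Q, v * s * v⁻¹ = s := fun v hv => by rw [F.s_comm v hv, mul_inv_cancel_right]
  refine ⟨?_, ?_, hs _ (F.xpart_mem ha hb i j)⟩
  · cases j <;> cases i <;> simp only [xpart, cond_true, cond_false, mul_one, one_mul, inv_one]
    · rw [mul_inv_cancel_right]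
    · exact hba
    · calc a * b * a * (a * b)⁻¹ = a * (b * a * b⁻¹) * a⁻¹ := by group
        _ = a * s := by rw [hba, has]
  · cases i <;> cases j <;> simp only [xpart, cond_true, cond_false, mul_one, one_mul, inv_one]
    · rw [mul_inv_cancel_right]
    · exact hab
    · calc a * b * b * (a * b)⁻¹ = a * b * a⁻¹ := by group
        _ = b * s := hab

/-- Correcting an element to commute with a quaternion group. -/
theorem Frame.correct (F : Frame s Q r) {a b : G} (ha : a ∈ Q) (hb : b ∈ Q)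
    (hba : b * a * b⁻¹ = a * s) {q : G} (hq : q ∈ Q) :
    ∃ i j, (xpart a b i j * q) * a = a * (xpart a b i j * q) ∧
      (xpart a b i j * q) * b = b * (xpart a b i j * q) := by
  obtain ⟨j, hj⟩ : ∃ j : Bool, q * a * q⁻¹ = cond j (a * s) a := by
    rcases F.comm q hq a ha with e | e
    · exact ⟨false, e⟩
    · exact ⟨true, e⟩
  obtain ⟨i, hi⟩ : ∃ i : Bool, q * b * q⁻¹ = cond i (b * s) b := by
    rcases F.comm q hq b hb with e | e
    · exact ⟨false, e⟩
    · exact ⟨true, e⟩
  obtain ⟨h1, h2, h3⟩ := F.xpart_conj ha hb hba i j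
  set X := xpart a b i j
  refine ⟨i, j, mul_inv_eq_iff_eq_mul.1 ?_, mul_inv_eq_iff_eq_mul.1 ?_⟩
  · calc X * q * a * (X * q)⁻¹ = X * (q * a * q⁻¹) * X⁻¹ := by group
      _ = a := by
        rw [hj]
        cases j <;> simp only [cond_true, cond_false] at h1 ⊢
        · exact h1
        · rw [show X * (a * s) * X⁻¹ = (X * a * X⁻¹) * (X * s * X⁻¹) by group, h1, h3, F.mul_s_s]
  · calc X * q * b * (X * q)⁻¹ = X * (q * b * q⁻¹) * X⁻¹ := by group
      _ = b := by
        rw [hi]
        cases i <;> simp only [cond_true, cond_false] at h2 ⊢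
        · exact h2
        · rw [show X * (b * s) * X⁻¹ = (X * b * X⁻¹) * (X * s * X⁻¹) by group, h2, h3, F.mul_s_s]

theorem Frame.exists_sq (F : Frame s Q r) : ∃ a ∈ Q, a * a = s := by
  classical
  by_contra hne
  push Not at hne
  have h1 : ∀ q ∈ Q, q * q = 1 := fun q hq => (F.sq q hq).resolve_right (hne q hq)
  have hinv : ∀ q ∈ Q, q⁻¹ = q := fun q hq => inv_eq_of_mul_eq_one_right (h1 q hq)
  have hsurj : Function.Surjective
      (fun k : Bool => (⟨cond k s 1, by cases k <;> simp [F.s_mem, one_mem]⟩ : Q)) := by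
    rintro ⟨q, hq⟩
    rcases F.center q hq fun p hp => by
      calc p * q = (p * q)⁻¹ := (hinv _ (mul_mem hp hq)).symm
        _ = q * p := by rw [mul_inv_rev, hinv q hq, hinv p hp]
    with e | e
    · exact ⟨false, Subtype.ext e.symm⟩
    · exact ⟨true, Subtype.ext e.symm⟩
  have := Nat.card_le_card_of_surjective _ hsurj
  rw [F.card] at this
  simp at this

theorem Frame.exists_pair (F : Frame s Q r) : ∃ a b c d, F.Pair a b c d := by
  classical
  obtain ⟨a0, ha0, ha02⟩ := F.exists_sq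
  obtain ⟨a, ha', hb2, hba, hrb⟩ := F.quat ha0 ha02
  have key : ∀ x x' : G, x ∈ Q → x * x = s → (x' = x ∨ x' = x * s) → x' ∈ Q ∧ x' * x' = s := by
    rintro x x' hx hx2 (rfl | rfl)
    · exact ⟨hx, hx2⟩
    · refine ⟨mul_mem hx F.s_mem, ?_⟩
      calc x * s * (x * s) = x * (s * x) * s := by group
        _ = (x * x) * (s * s) := by rw [← F.s_comm x hx]; group
        _ = s := by rw [hx2, F.s_sq, mul_one]
  obtain ⟨ha, ha2⟩ := key a0 a ha0 ha02 ha'
  set b := r * a * r⁻¹ with hb
  have hbQ : b ∈ Q := F.r_norm a ha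
  obtain ⟨c0, hc0, hc02, hc0a, hc0b⟩ :
      ∃ c0 ∈ Q, c0 * c0 = s ∧ c0 * a = a * c0 ∧ c0 * b = b * c0 := by
    by_contra hne
    push Not at hne
    have hC1 : ∀ q ∈ Q, q * a = a * q → q * b = b * q → q * q = 1 := fun q hq h1 h2 =>
      (F.sq q hq).resolve_right fun h => hne q hq h h1 h2
    have hsurj : Function.Surjective (fun p : Bool × Bool × Bool =>
        (⟨(xpart a b p.1 p.2.1)⁻¹ * cond p.2.2 s 1, mul_mem (inv_mem (F.xpart_mem ha hbQ _ _))
          (by cases p.2.2 <;> simp [F.s_mem, one_mem])⟩ : Q)) := by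
      rintro ⟨q, hq⟩
      obtain ⟨i, j, h1, h2⟩ := F.correct ha hbQ hba hq
      set c := xpart a b i j * q with hc
      have hcQ : c ∈ Q := mul_mem (F.xpart_mem ha hbQ i j) hq
      have hqc : q = (xpart a b i j)⁻¹ * c := by rw [hc, inv_mul_cancel_left]
      have hcen : ∀ p ∈ Q, p * c = c * p := by
        intro p hp
        obtain ⟨i', j', g1, g2⟩ := F.correct ha hbQ hba hp
        set p' := xpart a b i' j' * p with hp'
        have hp'Q : p' ∈ Q := mul_mem (F.xpart_mem ha hbQ i' j') hp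
        have hi1 : ∀ v ∈ Q, v * a = a * v → v * b = b * v → v⁻¹ = v := fun v hv x y =>
          inv_eq_of_mul_eq_one_right (hC1 v hv x y)
        have e1 : Commute c a := h1
        have e2 : Commute c b := h2
        have e3 : Commute p' a := g1
        have e4 : Commute p' b := g2
        have hcp : Commute c p' := by
          show c * p' = p' * c
          calc c * p' = (c * p')⁻¹ :=
                (hi1 _ (mul_mem hcQ hp'Q) (e1.mul_left e3).eq (e2.mul_left e4).eq).symm
            _ = p' * c := by rw [mul_inv_rev, hi1 _ hcQ h1 h2, hi1 _ hp'Q g1 g2]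
        have hcX : Commute c (xpart a b i' j') := by
          cases i' <;> cases j' <;> simp [xpart, e1, e2, e1.mul_right e2]
        have : Commute c p := by
          rw [show p = (xpart a b i' j')⁻¹ * p' by rw [hp', inv_mul_cancel_left]]
          exact hcX.inv_right.mul_right hcp
        exact this.eq.symm
      rcases F.center c hcQ hcen with e | e
      · exact ⟨(i, j, false), Subtype.ext (show _ * 1 = q by rw [hqc, e])⟩
      · exact ⟨(i, j, true), Subtype.ext (show _ * s = q by rw [hqc, e])⟩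
    have := Nat.card_le_card_of_surjective _ hsurj
    rw [F.card] at this
    simp at this
  obtain ⟨c, hc', hd2, hdc, hrd⟩ := F.quat hc0 hc02
  obtain ⟨hc, hc2⟩ := key c0 c hc0 hc02 hc'
  set d := r * c * r⁻¹ with hd
  have hca : c * a = a * c ∧ c * b = b * c := by
    have e1 : Commute c0 a := hc0a
    have e2 : Commute c0 b := hc0b
    have s1 : Commute s a := (F.s_comm a ha).symm
    have s2 : Commute s b := (F.s_comm b hbQ).symm
    rcases hc' with rfl | rfl
    · exact ⟨hc0a, hc0b⟩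
    · exact ⟨(e1.mul_left s1).eq, (e2.mul_left s2).eq⟩
  have hconj : ∀ x y : G, x * y = y * x →
      r * x * r⁻¹ * (r * y * r⁻¹) = r * y * r⁻¹ * (r * x * r⁻¹) := fun x y h => by
    calc r * x * r⁻¹ * (r * y * r⁻¹) = r * (x * y) * r⁻¹ := by group
      _ = r * (y * x) * r⁻¹ := by rw [h]
      _ = _ := by group
  have hbd : b * d = d * b := hconj a c hca.1.symm
  have habd : a * b * d = d * (a * b) := by
    have := hconj b c hca.2.symm
    rwa [hrb, ← hd] at this
  have had : a * d = d * a := by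
    calc a * d = a * b * (b⁻¹ * d) := by group
      _ = a * b * (d * b⁻¹) := by rw [(show Commute b d from hbd).inv_left.eq]
      _ = (a * b * d) * b⁻¹ := by group
      _ = d * a := by rw [habd]; group
  exact ⟨a, b, c, d, ⟨ha, hbQ, hc, F.r_norm c hc, ha2, hb2, hc2, hd2, hba, hdc, hca.1.symm, had,
    hca.2.symm, hbd, hb.symm, hrb, hd.symm, hrd⟩⟩

section
variable {a b c d : G} {F : Frame s Q r} (P : F.Pair a b c d)
include P

theorem Frame.Pair.form {q : G} (hq : q ∈ Q) :
    ∃ i j k l m, q = xpart a b i j * xpart c d k l * cond m s 1 := by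
  classical
  let φ : Bool × Bool × Bool × Bool × Bool → Q := fun p =>
    ⟨xpart a b p.1 p.2.1 * xpart c d p.2.2.1 p.2.2.2.1 * cond p.2.2.2.2 s 1,
      mul_mem (mul_mem (F.xpart_mem P.a_mem P.b_mem _ _) (F.xpart_mem P.c_mem P.d_mem _ _))
        (by cases p.2.2.2.2 <;> simp [F.s_mem, one_mem])⟩
  have hcomm : ∀ (v : G), v ∈ Q → ∀ m : Bool, Commute (cond m s 1) v := fun v hv m => by
    cases m
    · exact Commute.one_left v
    · exact (F.s_comm v hv).symm
  have hX : ∀ k l, Commute (xpart c d k l) a ∧ Commute (xpart c d k l) b := fun k l => by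
    have ca : Commute c a := P.ac.symm
    have cb : Commute c b := P.bc.symm
    have da : Commute d a := P.ad.symm
    have db : Commute d b := P.bd.symm
    cases k <;> cases l <;> simp only [xpart, cond_true, cond_false, mul_one, one_mul]
    exacts [⟨Commute.one_left a, Commute.one_left b⟩, ⟨da, db⟩, ⟨ca, cb⟩,
      ⟨ca.mul_left da, cb.mul_left db⟩]
  have hX' : ∀ i j, Commute (xpart a b i j) c ∧ Commute (xpart a b i j) d := fun i j => by
    have ca : Commute a c := P.ac
    have cb : Commute b c := P.bc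
    have da : Commute a d := P.ad
    have db : Commute b d := P.bd
    cases i <;> cases j <;> simp only [xpart, cond_true, cond_false, mul_one, one_mul]
    exacts [⟨Commute.one_left c, Commute.one_left d⟩, ⟨cb, db⟩, ⟨ca, da⟩,
      ⟨ca.mul_left cb, da.mul_left db⟩]
  have hsa : a * s ≠ a := fun e => F.s_ne (mul_eq_left.1 e)
  have hsb : b * s ≠ b := fun e => F.s_ne (mul_eq_left.1 e)
  have hsc : c * s ≠ c := fun e => F.s_ne (mul_eq_left.1 e)
  have hsd : d * s ≠ d := fun e => F.s_ne (mul_eq_left.1 e)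
  have hsig : ∀ i j k l m,
      let w := xpart a b i j * xpart c d k l * cond m s 1
      w * a * w⁻¹ = cond j (a * s) a ∧ w * b * w⁻¹ = cond i (b * s) b ∧
        w * c * w⁻¹ = cond l (c * s) c ∧ w * d * w⁻¹ = cond k (d * s) d := by
    intro i j k l m w
    obtain ⟨x1, x2, -⟩ := F.xpart_conj P.a_mem P.b_mem P.ba i j
    obtain ⟨y1, y2, -⟩ := F.xpart_conj P.c_mem P.d_mem P.dc k l
    have mid : ∀ {X Y Z v v' : G}, Commute Z v → Y * v * Y⁻¹ = v' →
        (X * Y * Z) * v * (X * Y * Z)⁻¹ = X * v' * X⁻¹ := fun {X Y Z v v'} hZ hY => by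
      calc X * Y * Z * v * (X * Y * Z)⁻¹ = X * (Y * (Z * v) * Z⁻¹ * Y⁻¹) * X⁻¹ := by group
        _ = X * (Y * v * Y⁻¹) * X⁻¹ := by rw [hZ.eq]; group
        _ = _ := by rw [hY]
    have fix : ∀ {Y v : G}, Commute Y v → Y * v * Y⁻¹ = v := fun h => by
      rw [h.eq, mul_inv_cancel_right]
    refine ⟨?_, ?_, ?_, ?_⟩
    · exact (mid (hcomm a P.a_mem m) (fix (hX k l).1)).trans x1
    · exact (mid (hcomm b P.b_mem m) (fix (hX k l).2)).trans x2
    · refine (mid (hcomm c P.c_mem m) y1).trans (fix ?_)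
      cases l
      · exact (hX' i j).1
      · exact (hX' i j).1.mul_right
          (F.s_comm _ (F.xpart_mem P.a_mem P.b_mem i j))
    · refine (mid (hcomm d P.d_mem m) y2).trans (fix ?_)
      cases k
      · exact (hX' i j).2
      · exact (hX' i j).2.mul_right
          (F.s_comm _ (F.xpart_mem P.a_mem P.b_mem i j))
  have hinj : Function.Injective φ := by
    rintro ⟨i, j, k, l, m⟩ ⟨i', j', k', l', m'⟩ e
    have e' : xpart a b i j * xpart c d k l * cond m s 1 =
        xpart a b i' j' * xpart c d k' l' * cond m' s 1 := congrArg Subtype.val e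
    obtain ⟨g1, g2, g3, g4⟩ := hsig i j k l m
    obtain ⟨g1', g2', g3', g4'⟩ := hsig i' j' k' l' m'
    rw [e'] at g1 g2 g3 g4
    have q1 := g1.symm.trans g1'
    have q2 := g2.symm.trans g2'
    have q3 := g3.symm.trans g3'
    have q4 := g4.symm.trans g4'
    have hbool : ∀ {x : G} {u u' : Bool}, x * s ≠ x → cond u (x * s) x = cond u' (x * s) x →
        u = u' := fun {x u u'} hne he => by
      cases u <;> cases u' <;> first | rfl | exact absurd he hne | exact absurd he.symm hne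
    have hj : j = j' := hbool hsa q1
    have hi : i = i' := hbool hsb q2
    have hl : l = l' := hbool hsc q3
    have hk : k = k' := hbool hsd q4
    subst hj hi hl hk
    have hm : m = m' := by
      have h' := mul_left_cancel e'
      cases m <;> cases m' <;> first | rfl | exact absurd h' F.s_ne | exact absurd h'.symm F.s_ne
    rw [hm]
  haveI : Finite Q := Nat.finite_of_card_ne_zero (by rw [F.card]; norm_num)
  have hb : Function.Bijective φ := (Nat.bijective_iff_injective_and_card φ).2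
    ⟨hinj, by simp [F.card]⟩
  obtain ⟨⟨i, j, k, l, m⟩, hp⟩ := hb.2 ⟨q, hq⟩
  exact ⟨i, j, k, l, m, (congrArg Subtype.val hp).symm⟩

theorem Frame.Pair.mem_lists {q : G} (hq : q ∈ Q) :
    ∃ x ∈ [1, a, b, a * b], ∃ y ∈ [1, c, d, c * d], ∃ z ∈ [1, s], q = x * y * z := by
  obtain ⟨i, j, k, l, m, e⟩ := P.form hq
  refine ⟨_, ?_, _, ?_, _, ?_, e⟩
  · cases i <;> cases j <;> simp [xpart]
  · cases k <;> cases l <;> simp [xpart]
  · cases m <;> simp

end

theorem Frame.xpart_sq (F : Frame s Q r) {a b : G} (ha : a ∈ Q) (hb : b ∈ Q) (ha2 : a * a = s)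
    (hb2 : b * b = s) (hba : b * a * b⁻¹ = a * s) (i j : Bool) :
    xpart a b i j * xpart a b i j = if i = false ∧ j = false then 1 else s := by
  cases i <;> cases j <;> simp [xpart, ha2, hb2]
  calc a * b * (a * b) = a * (b * a * b⁻¹) * (b * b) := by group
    _ = a * a * (s * s) := by rw [hba, hb2]; group
    _ = s := by rw [ha2, F.s_sq, mul_one]

theorem Frame.Pair.sq_s {a b c d : G} {F : Frame s Q r} (P : F.Pair a b c d) {q : G} (hq : q ∈ Q)
    (h2 : q * q = s) :
    (∃ x ∈ [a, b, a * b], q = x ∨ q = x * s) ∨ (∃ x ∈ [c, d, c * d], q = x ∨ q = x * s) := by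
  obtain ⟨i, j, k, l, m, rfl⟩ := P.form hq
  set X := xpart a b i j with hX
  set Y := xpart c d k l with hY
  have hXY : Commute X Y := by
    have ac : Commute a c := P.ac
    have bc : Commute b c := P.bc
    have ad : Commute a d := P.ad
    have bd : Commute b d := P.bd
    have h1 : ∀ x ∈ [(1 : G), a, b, a * b], ∀ y ∈ [(1 : G), c, d, c * d], Commute x y := by
      have hx : ∀ y ∈ [(1 : G), c, d, c * d], Commute a y ∧ Commute b y := by
        simp only [List.forall_mem_cons, List.not_mem_nil, IsEmpty.forall_iff, forall_const, and_true]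
        exact ⟨⟨Commute.one_right a, Commute.one_right b⟩, ⟨ac, bc⟩, ⟨ad, bd⟩,
          ⟨ac.mul_right ad, bc.mul_right bd⟩⟩
      simp only [List.forall_mem_cons (p := fun x => ∀ y ∈ [(1 : G), c, d, c * d], Commute x y),
        List.not_mem_nil, IsEmpty.forall_iff, forall_const, and_true]
      exact ⟨fun y _ => Commute.one_left y, fun y hy => (hx y hy).1, fun y hy => (hx y hy).2,
        fun y hy => (hx y hy).1.mul_left (hx y hy).2⟩
    refine h1 _ ?_ _ ?_
    · rw [hX]; cases i <;> cases j <;> simp [xpart]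
    · rw [hY]; cases k <;> cases l <;> simp [xpart]
  have hXQ := F.xpart_mem (i := i) (j := j) P.a_mem P.b_mem
  have hYQ := F.xpart_mem (i := k) (j := l) P.c_mem P.d_mem
  have hsq : (X * Y * cond m s 1) * (X * Y * cond m s 1) = (X * X) * (Y * Y) := by
    cases m
    · simp only [cond_false, mul_one]
      exact hXY.symm.mul_mul_mul_comm X Y
    · simp only [cond_true]
      rw [F.sq_mul_s (mul_mem hXQ hYQ)]
      exact hXY.symm.mul_mul_mul_comm X Y
  rw [hsq, hX, hY, F.xpart_sq P.a_mem P.b_mem P.a_sq P.b_sq P.ba,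
    F.xpart_sq P.c_mem P.d_mem P.c_sq P.d_sq P.dc] at h2
  rw [hX, hY]
  cases i <;> cases j <;> cases k <;> cases l <;>
    simp [F.s_sq, Ne.symm F.s_ne] at h2 <;> cases m <;> simp [xpart]

/-- Two noncommuting involutions of `Q` centralising a noncentral one. -/
theorem Frame.Pair.exists_noncomm {a b c d : G} {F : Frame s Q r} (P : F.Pair a b c d) {t : G}
    (ht : t ∈ Q) (ht2 : t * t = 1) (h1 : t ≠ 1) (hts : t ≠ s) :
    ∃ u ∈ Q, ∃ v ∈ Q, u * u = 1 ∧ v * v = 1 ∧ u * t = t * u ∧ v * t = t * v ∧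
      u * v * u⁻¹ * v⁻¹ = s := by
  -- a partner anticommuting in one quaternion group
  have three : ∀ {a b : G}, a ∈ Q → b ∈ Q → a * a = s → b * b = s → b * a * b⁻¹ = a * s →
      ∀ i j, ¬(i = false ∧ j = false) → ∃ x' ∈ Subgroup.closure ({a, b} : Set G),
        ∃ x'' ∈ Subgroup.closure ({a, b} : Set G), x' ∈ Q ∧ x'' ∈ Q ∧ x' * x' = s ∧ x'' * x'' = s ∧
        x' * xpart a b i j * x'⁻¹ = xpart a b i j * s ∧
        x'' * xpart a b i j * x''⁻¹ = xpart a b i j * s ∧ x' * x'' * x'⁻¹ = x'' * s := by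
    intro a b ha hb ha2 hb2 hba i j hne
    have hab := F.comm_symm hb ha hba
    have hq := F.xpart_sq ha hb ha2 hb2 hba true true
    simp [xpart] at hq
    have c1 : b * (a * b) * b⁻¹ = a * b * s := by
      calc b * (a * b) * b⁻¹ = (b * a * b⁻¹) * b := by group
        _ = a * (s * b) := by rw [hba]; group
        _ = _ := by rw [← F.s_comm b hb]; group
    have c2 : a * (a * b) * a⁻¹ = a * b * s := by
      calc a * (a * b) * a⁻¹ = a * (a * b * a⁻¹) := by group
        _ = _ := by rw [hab]; group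
    have ma : a ∈ Subgroup.closure ({a, b} : Set G) := Subgroup.subset_closure (by simp)
    have mb : b ∈ Subgroup.closure ({a, b} : Set G) := Subgroup.subset_closure (by simp)
    cases i <;> cases j
    · exact absurd ⟨rfl, rfl⟩ hne
    · exact ⟨a, ma, a * b, mul_mem ma mb, ha, mul_mem ha hb, ha2, hq, by simpa [xpart] using hab,
        by simpa [xpart] using F.comm_symm hb (mul_mem ha hb) c1, c2⟩
    · exact ⟨b, mb, a * b, mul_mem ma mb, hb, mul_mem ha hb, hb2, hq, by simpa [xpart] using hba,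
        by simpa [xpart] using F.comm_symm ha (mul_mem ha hb) c2, c1⟩
    · exact ⟨a, ma, b, mb, ha, hb, ha2, hb2, by simpa [xpart] using c2, by simpa [xpart] using c1, hab⟩
  obtain ⟨i, j, k, l, m, rfl⟩ := P.form ht
  have hij : ¬(i = false ∧ j = false) := by
    rintro ⟨rfl, rfl⟩
    by_cases hkl : k = false ∧ l = false
    · obtain ⟨rfl, rfl⟩ := hkl
      cases m <;> simp [xpart] at h1 hts
    · have := F.xpart_sq P.c_mem P.d_mem P.c_sq P.d_sq P.dc k l
      rw [if_neg hkl] at this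
      have hYQ := F.xpart_mem (i := k) (j := l) P.c_mem P.d_mem
      refine F.s_ne ?_
      cases m <;> simp only [xpart, cond_true, cond_false, one_mul, mul_one] at ht2
      · exact this.symm.trans ht2
      · exact this.symm.trans ((F.sq_mul_s hYQ).symm.trans ht2)
  have hkl : ¬(k = false ∧ l = false) := by
    rintro ⟨rfl, rfl⟩
    have := F.xpart_sq P.a_mem P.b_mem P.a_sq P.b_sq P.ba i j
    rw [if_neg hij] at this
    have hXQ := F.xpart_mem (i := i) (j := j) P.a_mem P.b_mem
    refine F.s_ne ?_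
    have e : xpart c d false false = 1 := by simp [xpart]
    rw [e, mul_one] at ht2
    cases m <;> simp only [cond_true, cond_false, mul_one] at ht2
    · exact this.symm.trans ht2
    · exact this.symm.trans ((F.sq_mul_s hXQ).symm.trans ht2)
  obtain ⟨x', hx'1, x'', hx''1, hx', hx'', sx', sx'', ax', ax'', ax⟩ :=
    three P.a_mem P.b_mem P.a_sq P.b_sq P.ba i j hij
  obtain ⟨y', hy'1, _, -, hy', -, sy', -, ay', -, -⟩ :=
    three P.c_mem P.d_mem P.c_sq P.d_sq P.dc k l hkl
  set X := xpart a b i j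
  set Y := xpart c d k l
  set Z := cond m s 1 with hZdef
  -- the two quaternion groups commute
  have hQ12 : ∀ x y, x ∈ Subgroup.closure ({a, b} : Set G) → y ∈ Subgroup.closure ({c, d} : Set G) →
      Commute x y := by
    intro x y hx hy
    have hgen : ∀ x ∈ ({a, b} : Set G), Commute x y := by
      intro x hx
      induction hy using Subgroup.closure_induction with
      | mem y hy =>
        rcases hx with rfl | rfl <;> rcases hy with rfl | rfl
        exacts [P.ac, P.ad, P.bc, P.bd]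
      | one => exact Commute.one_right x
      | mul u v _ _ h1 h2 => exact h1.mul_right h2
      | inv u _ h => exact h.inv_right
    induction hx using Subgroup.closure_induction with
    | mem x hx => exact hgen x hx
    | one => exact Commute.one_left y
    | mul u v _ _ h1 h2 => exact h1.mul_left h2
    | inv u _ h => exact h.inv_left
  have hXmem : ∀ {a b : G} (i j : Bool), xpart a b i j ∈ Subgroup.closure ({a, b} : Set G) := by
    intro a b i j
    have ma : a ∈ Subgroup.closure ({a, b} : Set G) := Subgroup.subset_closure (Or.inl rfl)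
    have mb : b ∈ Subgroup.closure ({a, b} : Set G) := Subgroup.subset_closure (Or.inr rfl)
    cases i <;> cases j <;> simp only [xpart, cond_true, cond_false, mul_one, one_mul]
    exacts [one_mem _, mb, ma, mul_mem ma mb]
  have inv_of : ∀ {x y : G}, Commute x y → x * x = s → y * y = s → x * y * (x * y) = 1 :=
    fun {x y} h h1 h2 => by rw [h.symm.mul_mul_mul_comm x y, h1, h2, F.s_sq]
  have hZc : ∀ v ∈ Q, v * Z * v⁻¹ = Z := fun v hv => by
    cases m <;> simp only [hZdef, cond_true, cond_false]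
    · simp
    · rw [F.s_comm v hv, mul_inv_cancel_right]
  have cent : ∀ x, x ∈ Subgroup.closure ({a, b} : Set G) → x ∈ Q → x * X * x⁻¹ = X * s →
      (x * y') * (X * Y * Z) = X * Y * Z * (x * y') := by
    intro x hx1 hxQ hxX
    refine mul_inv_eq_iff_eq_mul.1 ?_
    have e1 : y' * X * y'⁻¹ = X := by rw [← (hQ12 X y' (hXmem i j) hy'1).eq, mul_inv_cancel_right]
    have e2 : x * Y * x⁻¹ = Y := by rw [(hQ12 x Y hx1 (hXmem k l)).eq, mul_inv_cancel_right]
    have e3 : x * s * x⁻¹ = s := by rw [F.s_comm x hxQ, mul_inv_cancel_right]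
    calc x * y' * (X * Y * Z) * (x * y')⁻¹
        = x * ((y' * X * y'⁻¹) * (y' * Y * y'⁻¹) * (y' * Z * y'⁻¹)) * x⁻¹ := by group
      _ = x * (X * (Y * s) * Z) * x⁻¹ := by rw [e1, ay', hZc y' hy']
      _ = (x * X * x⁻¹) * ((x * Y * x⁻¹) * (x * s * x⁻¹)) * (x * Z * x⁻¹) := by group
      _ = X * s * (Y * s) * Z := by rw [hxX, e2, e3, hZc x hxQ]
      _ = X * (s * Y) * s * Z := by group
      _ = X * Y * (s * s) * Z := by
          rw [← F.s_comm Y (F.xpart_mem P.c_mem P.d_mem k l)]; group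
      _ = X * Y * Z := by rw [F.s_sq, mul_one]
  refine ⟨x' * y', mul_mem hx' hy', x'' * y', mul_mem hx'' hy', inv_of (hQ12 x' y' hx'1 hy'1) sx' sy',
    inv_of (hQ12 x'' y' hx''1 hy'1) sx'' sy', cent x' hx'1 hx' ax', cent x'' hx''1 hx'' ax'', ?_⟩
  calc x' * y' * (x'' * y') * (x' * y')⁻¹ * (x'' * y')⁻¹
      = x' * (y' * x'') * x'⁻¹ * (x'' * y')⁻¹ := by group
    _ = (x' * x'' * x'⁻¹) * (x' * y' * x'⁻¹) * (x'' * y')⁻¹ := by
        rw [← (hQ12 x'' y' hx''1 hy'1).eq]; group
    _ = s := by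
        rw [ax, (hQ12 x' y' hx'1 hy'1).eq, mul_inv_cancel_right, mul_inv_rev, ← mul_assoc,
          mul_inv_cancel_right, F.s_comm x'' hx'', mul_inv_cancel_right]

theorem tuple_eqs_fix {a b c d n : G} {F : Frame s Q r} (P : F.Pair a b c d)
    (ns : n * s = s * n) (nn : n * n = 1) (nr : n * r * n⁻¹ = r⁻¹) (na : n * a * n⁻¹ = a * s)
    (nb : n * b * n⁻¹ = a * b * s) (nc : n * c * n⁻¹ = c * s) (nd : n * d * n⁻¹ = c * d * s) :
    Eqs (tuple s a b c d r n) fixEqs := by
  have hri : r⁻¹ = r * r := inv_eq_of_mul_eq_one_right (by rw [← mul_assoc, F.r_cube])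
  rw [hri] at nr
  have cv : ∀ {x y z : G}, x * y * x⁻¹ = z → x * y = z * x := fun h => mul_inv_eq_iff_eq_mul.1 h
  simp only [Eqs, fixEqs, quatEqs, List.cons_append, List.nil_append, List.forall_mem_cons, weval,
    List.map_cons, List.map_nil, List.prod_cons, List.prod_nil, mul_one, tuple, List.getD_cons_zero,
    List.getD_cons_succ, List.not_mem_nil, IsEmpty.forall_iff, forall_const, and_true, ← mul_assoc]
  exact ⟨F.s_sq, P.a_sq, P.b_sq, P.c_sq, P.d_sq, cv P.ba, cv P.dc, P.ac, P.ad, P.bc, P.bd, F.r_cube,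
    cv P.ra, cv P.rb, cv P.rc, ns, nn, cv nr, cv P.rd, cv na, cv nb, cv nc, cv nd⟩

theorem tuple_eqs_swap {a b c d n : G} (F : Frame s Q r) (ha2 : a * a = s) (hb2 : b * b = s)
    (hba : b * a * b⁻¹ = a * s) (hra : r * a * r⁻¹ = b) (hrb : r * b * r⁻¹ = a * b)
    (hc2 : c * c = s) (hd2 : d * d = s) (hdc : d * c * d⁻¹ = c * s)
    (ac : a * c = c * a) (ad : a * d = d * a) (bc : b * c = c * b) (bd : b * d = d * b)
    (hrc : r * c * r⁻¹ = d) (hrd : r * d * r⁻¹ = d * c)
    (ns : n * s = s * n) (nn : n * n = 1) (nr : n * r * n⁻¹ = r⁻¹) (na : n * a * n⁻¹ = c)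
    (nb : n * b * n⁻¹ = d * c) (nc : n * c * n⁻¹ = a) (nd : n * d * n⁻¹ = a * b) :
    Eqs (tuple s a b c d r n) swapEqs := by
  have hri : r⁻¹ = r * r := inv_eq_of_mul_eq_one_right (by rw [← mul_assoc, F.r_cube])
  rw [hri] at nr
  have cv : ∀ {x y z : G}, x * y * x⁻¹ = z → x * y = z * x := fun h => mul_inv_eq_iff_eq_mul.1 h
  simp only [Eqs, swapEqs, quatEqs, List.cons_append, List.nil_append, List.forall_mem_cons, weval,
    List.map_cons, List.map_nil, List.prod_cons, List.prod_nil, mul_one, tuple, List.getD_cons_zero,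
    List.getD_cons_succ, List.not_mem_nil, IsEmpty.forall_iff, forall_const, and_true, ← mul_assoc]
  exact ⟨F.s_sq, ha2, hb2, hc2, hd2, cv hba, cv hdc, ac, ad, bc, bd, F.r_cube, cv hra, cv hrb, cv hrc,
    ns, nn, cv nr, cv hrd, cv na, cv nb, cv nc, cv nd⟩

/-- Elements of order four in the first quaternion group. -/
theorem Frame.Pair.shift {a b c d : G} {F : Frame s Q r} (P : F.Pair a b c d) :
    F.Pair b (a * b) c d ∧ F.Pair (a * b) a c d ∧ F.Pair c d a b := by
  have hab := F.comm_symm P.b_mem P.a_mem P.ba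
  have hq := F.xpart_sq P.a_mem P.b_mem P.a_sq P.b_sq P.ba true true
  simp [xpart] at hq
  have hra3 : r * (a * b) * r⁻¹ = a := by
    have hr3 : r * (r * (r * a * r⁻¹) * r⁻¹) * r⁻¹ = a := by
      calc r * (r * (r * a * r⁻¹) * r⁻¹) * r⁻¹ = (r * r * r) * a * (r * r * r)⁻¹ := by group
        _ = a := by rw [F.r_cube, one_mul, inv_one, mul_one]
    rwa [P.ra, P.rb] at hr3
  have hbab : b * (a * b) = a := by
    calc b * (a * b) = (b * a * b⁻¹) * (b * b) := by group
      _ = a := by rw [P.ba, P.b_sq, F.mul_s_s]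
  have haba : a * b * a = b := by
    calc a * b * a = (a * b * a⁻¹) * (a * a) := by group
      _ = b := by rw [hab, P.a_sq, F.mul_s_s]
  have c1 : (a * b) * b * (a * b)⁻¹ = b * s := by
    calc (a * b) * b * (a * b)⁻¹ = a * b * a⁻¹ := by group
      _ = b * s := hab
  have c2 : a * (a * b) * a⁻¹ = a * b * s := by
    calc a * (a * b) * a⁻¹ = a * (a * b * a⁻¹) := by group
      _ = _ := by rw [hab]; group
  have ca : Commute a c := P.ac
  have cb : Commute b c := P.bc
  have da : Commute a d := P.ad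
  have db : Commute b d := P.bd
  refine ⟨⟨P.b_mem, mul_mem P.a_mem P.b_mem, P.c_mem, P.d_mem, P.b_sq, hq, P.c_sq, P.d_sq, c1, P.dc,
      P.bc, P.bd, (ca.mul_left cb).eq, (da.mul_left db).eq, P.rb, hra3.trans hbab.symm, P.rc, P.rd⟩,
    ⟨mul_mem P.a_mem P.b_mem, P.a_mem, P.c_mem, P.d_mem, hq, P.a_sq, P.c_sq, P.d_sq, c2, P.dc,
      (ca.mul_left cb).eq, (da.mul_left db).eq, P.ac, P.ad, hra3, P.ra.trans haba.symm, P.rc, P.rd⟩,
    ⟨P.c_mem, P.d_mem, P.a_mem, P.b_mem, P.c_sq, P.d_sq, P.a_sq, P.b_sq, P.dc, P.ba,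
      P.ac.symm, P.bc.symm, P.ad.symm, P.bd.symm, P.rc, P.rd, P.ra, P.rb⟩⟩

/-- The action of an inverting involution on one quaternion group, with a normalised generator. -/
theorem Frame.Pair.normal_fix {a b c d n : G} {F : Frame s Q r} (P : F.Pair a b c d)
    (ns : n * s = s * n) (nn : n * n = 1) (nr : n * r * n⁻¹ = r⁻¹)
    {x : G} (hx : x ∈ [a, b, a * b]) (h : n * a * n⁻¹ = x ∨ n * a * n⁻¹ = x * s) :
    ∃ a' b', F.Pair a' b' c d ∧ (a' ∈ [a, b, a * b]) ∧ n * a' * n⁻¹ = a' * s ∧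
      n * b' * n⁻¹ = a' * b' * s := by
  have hns : n * s * n⁻¹ = s := by rw [ns, mul_inv_cancel_right]
  have hni : n⁻¹ = n := inv_eq_of_mul_eq_one_right nn
  have hrs : ∀ v : G, r⁻¹ * (v * s) * r = r⁻¹ * v * r * s := fun v => by
    calc r⁻¹ * (v * s) * r = r⁻¹ * v * (s * r) := by group
      _ = _ := by rw [← F.r_s]; group
  have hnb : n * b * n⁻¹ = r⁻¹ * (n * a * n⁻¹) * r := by
    rw [← P.ra, show n * (r * a * r⁻¹) * n⁻¹ = (n * r * n⁻¹) * (n * a * n⁻¹) * (n * r * n⁻¹)⁻¹ by
      group, nr, inv_inv]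
  have back : ∀ v : G, r * v * r⁻¹ = x → r⁻¹ * x * r = v := fun v hv => by rw [← hv]; group
  -- a generator whose coset is fixed
  obtain ⟨a', b', P', ha', hfix⟩ : ∃ a' b', F.Pair a' b' c d ∧ a' ∈ [a, b, a * b] ∧
      (n * a' * n⁻¹ = a' ∨ n * a' * n⁻¹ = a' * s) := by
    obtain ⟨P1, P2, -⟩ := P.shift
    simp only [List.mem_cons, List.not_mem_nil, or_false] at hx
    rcases hx with rfl | rfl | rfl
    · exact ⟨x, b, P, by simp, h⟩
    · -- the coset of `a * b` is fixed
      have e1 : r⁻¹ * x * r = a := back a P.ra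
      refine ⟨a * x, a, P2, by simp, ?_⟩
      have hmul : n * (a * x) * n⁻¹ = (n * a * n⁻¹) * (n * x * n⁻¹) := by group
      have hxa : x * a = a * x * s := by
        calc x * a = (x * a * x⁻¹) * x := by group
          _ = a * (s * x) := by rw [P.ba]; group
          _ = _ := by rw [← F.s_comm x P.b_mem]; group
      rcases h with h | h
      · right; rw [hmul, hnb, h, e1, hxa]
      · right
        rw [hmul, hnb, h, hrs, e1]
        calc x * s * (a * s) = x * (s * a) * s := by group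
          _ = x * a * (s * s) := by rw [← F.s_comm a P.a_mem]; group
          _ = _ := by rw [F.s_sq, mul_one, hxa]
    · -- the coset of `b` is fixed
      have e1 : r⁻¹ * (a * b) * r = b := back b P.rb
      refine ⟨b, a * b, P1, by simp, ?_⟩
      rw [hnb]
      rcases h with h | h
      · exact .inl (by rw [h, e1])
      · exact .inr (by rw [h, hrs, e1])
  have hnb' : n * b' * n⁻¹ = r⁻¹ * (n * a' * n⁻¹) * r := by
    rw [← P'.ra, show n * (r * a' * r⁻¹) * n⁻¹ = (n * r * n⁻¹) * (n * a' * n⁻¹) * (n * r * n⁻¹)⁻¹ by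
      group, nr, inv_inv]
  have hra3 : r⁻¹ * a' * r = a' * b' := by
    have h3 : r * (r * (r * a' * r⁻¹) * r⁻¹) * r⁻¹ = a' := by
      calc r * (r * (r * a' * r⁻¹) * r⁻¹) * r⁻¹ = (r * r * r) * a' * (r * r * r)⁻¹ := by group
        _ = a' := by rw [F.r_cube, one_mul, inv_one, mul_one]
    rw [P'.ra, P'.rb] at h3
    nth_rewrite 1 [← h3]
    group
  rcases hfix with e | e
  · exfalso
    rw [e, hra3] at hnb'
    have h2 : n * (n * b' * n⁻¹) * n⁻¹ = b' := by
      calc n * (n * b' * n⁻¹) * n⁻¹ = (n * n) * b' * (n * n)⁻¹ := by group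
        _ = b' := by rw [nn, one_mul, inv_one, mul_one]
    rw [hnb', show n * (a' * b') * n⁻¹ = (n * a' * n⁻¹) * (n * b' * n⁻¹) by group, e, hnb',
      ← mul_assoc, P'.a_sq] at h2
    exact F.s_ne (mul_eq_right.1 h2)
  · refine ⟨a', b', P', ha', e, ?_⟩
    rw [hnb', e, hrs, hra3]

/-- Membership in the subgroup generated by the letters. -/
theorem closure_eq_of_quot {a b c d n : G} {F : Frame s Q r} (P : F.Pair a b c d) {y : G}
    (hy : ∃ i j : ℕ, (r ^ i * n ^ j)⁻¹ * y ∈ Q) :
    y ∈ Subgroup.closure ({n, r, d, c, b, a, s} : Set G) := by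
  obtain ⟨i, j, hq⟩ := hy
  set H := Subgroup.closure ({n, r, d, c, b, a, s} : Set G)
  have hQ : ∀ q ∈ Q, q ∈ H := by
    intro q hq
    obtain ⟨x, hx, z, hz, w, hw, rfl⟩ := P.mem_lists hq
    simp only [List.mem_cons, List.not_mem_nil, or_false] at hx hz hw
    have m : ∀ v, v ∈ ({n, r, d, c, b, a, s} : Set G) → v ∈ H := fun v hv => Subgroup.subset_closure hv
    refine mul_mem (mul_mem ?_ ?_) ?_
    · rcases hx with rfl | rfl | rfl | rfl
      exacts [one_mem _, m _ (by simp), m _ (by simp), mul_mem (m _ (by simp)) (m _ (by simp))]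
    · rcases hz with rfl | rfl | rfl | rfl
      exacts [one_mem _, m _ (by simp), m _ (by simp), mul_mem (m _ (by simp)) (m _ (by simp))]
    · rcases hw with rfl | rfl
      exacts [one_mem _, m _ (by simp)]
  rw [← mul_inv_cancel_left (r ^ i * n ^ j) y]
  exact mul_mem (mul_mem (pow_mem (Subgroup.subset_closure (by simp)) i)
    (pow_mem (Subgroup.subset_closure (by simp)) j)) (hQ _ hq)

theorem perm_three : ∀ p q : Equiv.Perm (Fin 3), q ≠ 1 → q * q = 1 →
    (∃ u : Equiv.Perm (Fin 3), u * q * u⁻¹ * q ≠ 1 ∧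
      u * q * u⁻¹ * q * (u * q * u⁻¹ * q) ≠ 1) ∧
    ∀ v : Equiv.Perm (Fin 3), v ≠ 1 → v * v * v = 1 → ∃ i < 3, ∃ j < 2, v ^ i * q ^ j = p := by
  decide +kernel

end ExtraL

open ExtraL in
/-- The centraliser is numbered by one of the two tables, and a conjugate of `s` lies in its
extraspecial subgroup. -/
theorem exists_numbering {G : Type*} [Group G] [Finite G]
    (s : G) (hs : orderOf s = 2) (L : Subgroup G) (hL : L = Subgroup.centralizer ({s} : Set G))
    (Q : Subgroup G) (hQ : Q = (Cfsg.pCore 2 L).map L.subtype)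
    (hQex : Cfsg.IsExtraspecial 2 Q) (hQcard : Nat.card Q = 32)
    (e : L ⧸ Cfsg.pCore 2 L ≃* Equiv.Perm (Fin 3))
    (X : Sylow 3 L)
    (hCQX : Q ⊓ Subgroup.centralizer (((X : Subgroup L).map L.subtype : Subgroup G) : Set G) =
      Subgroup.zpowers s)
    (hnwc : ∃ g : G, g * s * g⁻¹ ∈ Q ∧ g * s * g⁻¹ ≠ s) :
    (∃ f : ℕ → G, Emb f s ∧ ∃ i ∈ qList, i < 192 ∧ IsConj s (f i) ∧ f i ≠ s) ∨
      ∃ f : ℕ → G, Eight.Emb8 f s ∧ ∃ i ∈ qList8, i < 192 ∧ IsConj s (f i) ∧ f i ≠ s := by
  classical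
  haveI : Fact (Nat.Prime 3) := ⟨Nat.prime_three⟩
  have hss : s * s = 1 := by rw [← pow_two, ← hs, pow_orderOf_eq_one]
  have hs1 : s ≠ 1 := fun h => by rw [h, orderOf_one] at hs; norm_num at hs
  have hmemL : ∀ y : G, y ∈ L ↔ y * s = s * y := fun y => by
    rw [hL, Subgroup.mem_centralizer_singleton_iff]
  let π : L →* Equiv.Perm (Fin 3) := e.toMonoidHom.comp (QuotientGroup.mk' (Cfsg.pCore 2 L))
  have hπs : Function.Surjective π := e.surjective.comp (QuotientGroup.mk'_surjective _)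
  have hker : ∀ y : L, π y = 1 ↔ (y : G) ∈ Q := fun y => by
    show e (QuotientGroup.mk y) = 1 ↔ _
    rw [MulEquiv.map_eq_one_iff, QuotientGroup.eq_one_iff, hQ]
    refine ⟨fun h => ⟨y, h, rfl⟩, ?_⟩
    rintro ⟨z, hz, hzy⟩
    exact (Subtype.ext hzy : z = y) ▸ hz
  have hQL : Q ≤ L := by rw [hQ]; exact Subgroup.map_subtype_le _
  have hnorm : ∀ y ∈ L, ∀ q ∈ Q, y * q * y⁻¹ ∈ Q := fun y hy q hq => by
    have := (hker (⟨y, hy⟩ * ⟨q, hQL hq⟩ * ⟨y, hy⟩⁻¹)).1 (by
      rw [map_mul, map_mul, map_inv, (hker ⟨q, hQL hq⟩).2 hq, mul_one, mul_inv_cancel])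
    exact this
  have hcardL : Nat.card L = 192 := by
    rw [(Cfsg.pCore 2 L).card_eq_card_quotient_mul_card_subgroup, Nat.card_congr e.toEquiv,
      Nat.card_perm, Nat.card_fin, ← Subgroup.card_map_of_injective L.subtype_injective, ← hQ,
      hQcard]
    rfl
  have hsQ : s ∈ Q := by
    have h : s ∈ Subgroup.zpowers s := Subgroup.mem_zpowers s
    rw [← hCQX] at h
    exact h.1
  have hscomm : ∀ q ∈ Q, q * s = s * q := fun q hq => (hmemL q).1 (hQL hq)
  obtain ⟨z, -, -, hz⟩ := exists_gen hQex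
  have hzs : z = s := (((hz s).1 (mem_zOf.2 ⟨hsQ, hscomm⟩)).resolve_left hs1).symm
  rw [hzs] at hz
  -- elements of order three act without fixed points
  have hS3 : ∀ P : Sylow 3 L, Nat.card (P : Subgroup L) = 3 := fun P => by
    rw [P.card_eq_multiplicity, hcardL, show (192 : ℕ) = 3 ^ 1 * 64 by norm_num,
      Nat.factorization_mul (by norm_num) (by norm_num), Finsupp.add_apply,
      Nat.Prime.factorization_pow Nat.prime_three, Finsupp.single_eq_same,
      Nat.factorization_eq_zero_of_not_dvd (by norm_num : ¬ 3 ∣ 64)]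
    norm_num
  have frame : ∀ r : G, r ∈ L → r * r * r = 1 → r ≠ 1 → Frame s Q r := by
    intro r hr hr3 hr1
    have ho : orderOf (⟨r, hr⟩ : L) = 3 := by
      rw [Subgroup.orderOf_mk]
      exact orderOf_eq_prime (by rw [pow_succ, pow_two, hr3]) hr1
    refine ⟨hQcard, hsQ, hss, hs1, hscomm, fun q hq => (hz _).1 (sq_mem hQex hq),
      fun p hp q hq => ?_, fun q hq hc => (hz q).1 (mem_zOf.2 ⟨hq, hc⟩), hr3, (hmemL r).1 hr,
      fun q hq => hnorm r hr q hq, fun q hq hqr => ?_⟩
    · rcases conj_mem_two hQex hz hp hq with h | h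
      · exact .inl h
      · exact .inr (h.trans (hscomm q hq).symm)
    · obtain ⟨P, hP⟩ := IsPGroup.exists_le_sylow
        (IsPGroup.of_card (p := 3) (n := 1) (by rw [Nat.card_zpowers, ho, pow_one]) :
          IsPGroup 3 (Subgroup.zpowers (⟨r, hr⟩ : L)))
      have hPr : (P : Subgroup L) = Subgroup.zpowers (⟨r, hr⟩ : L) :=
        (Subgroup.eq_of_le_of_card_ge hP (le_of_eq (by rw [Nat.card_zpowers, ho, hS3 P]))).symm
      obtain ⟨l, hl⟩ := MulAction.exists_smul_eq L P X
      have hcen : (l : G) * q * (l : G)⁻¹ ∈ Q ⊓ Subgroup.centralizer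
          (((X : Subgroup L).map L.subtype : Subgroup G) : Set G) := by
        refine ⟨hnorm l l.2 q hq, Subgroup.mem_centralizer_iff.2 ?_⟩
        rintro _ ⟨w, hw, rfl⟩
        rw [← hl] at hw
        obtain ⟨v, hv, rfl⟩ := hw
        rw [SetLike.mem_coe, hPr] at hv
        obtain ⟨k, rfl⟩ := hv
        show (l : G) * ((⟨r, hr⟩ : L) ^ k : L) * (l : G)⁻¹ * ((l : G) * q * (l : G)⁻¹) =
          (l : G) * q * (l : G)⁻¹ * ((l : G) * ((⟨r, hr⟩ : L) ^ k : L) * (l : G)⁻¹)
        rw [Subgroup.coe_zpow]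
        have hk : r ^ k * q = q * r ^ k := ((show Commute r q from hqr).zpow_left k).eq
        calc (l : G) * r ^ k * (l : G)⁻¹ * ((l : G) * q * (l : G)⁻¹)
            = (l : G) * (r ^ k * q) * (l : G)⁻¹ := by group
          _ = (l : G) * (q * r ^ k) * (l : G)⁻¹ := by rw [hk]
          _ = _ := by group
      rw [hCQX, ← zOf_eq_zpowers ((hz s).2 (.inr rfl)) hz] at hcen
      rcases (hz _).1 hcen with h | h
      · exact .inl (by
          calc q = (l : G)⁻¹ * ((l : G) * q * (l : G)⁻¹) * (l : G) := by group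
            _ = 1 := by rw [h]; group)
      · refine .inr ?_
        have hls : (l : G) * s = s * (l : G) := (hmemL l).1 l.2
        calc q = (l : G)⁻¹ * ((l : G) * q * (l : G)⁻¹) * (l : G) := by group
          _ = (l : G)⁻¹ * (s * (l : G)) := by rw [h]; group
          _ = s := by rw [← hls]; group
  -- an involution outside `Q`
  obtain ⟨g, hgQ, hgs⟩ := hnwc
  obtain ⟨y, hy, hy2, hyQ⟩ : ∃ y ∈ L, y * y = 1 ∧ y ∉ Q := by
    by_contra hne
    push Not at hne
    obtain ⟨x, hx⟩ := exists_prime_orderOf_dvd_card' (G := L) 3 (by rw [hcardL]; norm_num)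
    have F := frame x x.2 (by
        have := pow_orderOf_eq_one x
        rw [hx, pow_succ, pow_two] at this
        exact congrArg Subtype.val this)
      (fun h => by rw [show x = 1 from Subtype.ext h, orderOf_one] at hx; norm_num at hx)
    obtain ⟨a, b, c, d, P⟩ := F.exists_pair
    have ht2 : g * s * g⁻¹ * (g * s * g⁻¹) = 1 := by
      rw [show g * s * g⁻¹ * (g * s * g⁻¹) = g * (s * s) * g⁻¹ by group, hss, mul_one,
        mul_inv_cancel]
    obtain ⟨u, hu, v, hv, hu2, hv2, hut, hvt, huv⟩ := P.exists_noncomm hgQ ht2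
      (fun h => hs1 (by
        calc s = g⁻¹ * (g * s * g⁻¹) * g := by group
          _ = 1 := by rw [h]; group)) hgs
    have back : ∀ w ∈ Q, w * w = 1 → w * (g * s * g⁻¹) = g * s * g⁻¹ * w → g⁻¹ * w * g ∈ Q := by
      intro w _ hw2 hwt
      refine hne _ ((hmemL _).2 ?_) ?_
      · calc g⁻¹ * w * g * s = g⁻¹ * (w * (g * s * g⁻¹)) * g := by group
          _ = g⁻¹ * (g * s * g⁻¹ * w) * g := by rw [hwt]
          _ = s * (g⁻¹ * w * g) := by group
      · rw [show g⁻¹ * w * g * (g⁻¹ * w * g) = g⁻¹ * (w * w) * g by group, hw2, mul_one,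
          inv_mul_cancel]
    have hz' := comm_mem hQex (back u hu hu2 hut) (back v hv hv2 hvt)
    rw [show g⁻¹ * u * g * (g⁻¹ * v * g) * (g⁻¹ * u * g)⁻¹ * (g⁻¹ * v * g)⁻¹ =
      g⁻¹ * (u * v * u⁻¹ * v⁻¹) * g by group, huv] at hz'
    rcases (hz _).1 hz' with h | h
    · exact hs1 (by
        calc s = g * (g⁻¹ * s * g) * g⁻¹ := by group
          _ = 1 := by rw [h]; group)
    · refine hgs ?_
      calc g * s * g⁻¹ = g * (g⁻¹ * s * g) * g⁻¹ := by rw [h]
        _ = s := by group
  -- it inverts an element of order three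
  set yL : L := ⟨y, hy⟩ with hyL
  have hπy : π yL ≠ 1 := fun h => hyQ ((hker yL).1 h)
  have hπy2 : π yL * π yL = 1 := by
    rw [← map_mul, show yL * yL = 1 from Subtype.ext hy2, map_one]
  obtain ⟨⟨u, hu1, hu2⟩, -⟩ := perm_three 1 (π yL) hπy hπy2
  obtain ⟨l, rfl⟩ := hπs u
  set w : L := l * yL * l⁻¹ * yL with hw
  have hπw : π w = π l * π yL * (π l)⁻¹ * π yL := by simp [hw]
  have hyinv : yL⁻¹ = yL := inv_eq_of_mul_eq_one_right (Subtype.ext hy2)
  have hinv : yL * w * yL⁻¹ = w⁻¹ := by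
    have hyy : yL * yL = 1 := Subtype.ext hy2
    calc yL * w * yL⁻¹ = yL * (l * yL * l⁻¹) * (yL * yL⁻¹) := by rw [hw]; group
      _ = yL⁻¹ * (l * yL⁻¹ * l⁻¹) := by rw [hyinv, hyy, mul_one]
      _ = w⁻¹ := by rw [hw]; group
  have h3 : 3 ∣ orderOf w := by
    refine dvd_trans ?_ (orderOf_map_dvd π w)
    rw [hπw]
    revert hu1 hu2
    generalize π l * π yL * (π l)⁻¹ * π yL = p
    revert p
    have key : ∀ p : Equiv.Perm (Fin 3), p ≠ 1 → p * p ≠ 1 → p * p * p = 1 := by decide +kernel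
    intro p h1 h2
    have : orderOf p = 3 := orderOf_eq_prime (by rw [pow_succ, pow_two, key p h1 h2]) h1
    rw [this]
  set rL : L := w ^ (orderOf w / 3) with hrL
  have hro : orderOf rL = 3 := orderOf_pow_orderOf_div (orderOf_pos w).ne' h3
  have hr3 : rL * rL * rL = 1 := by
    have := pow_orderOf_eq_one rL
    rwa [hro, pow_succ, pow_two] at this
  have hrL1 : rL ≠ 1 := fun h => by rw [h, orderOf_one] at hro; norm_num at hro
  have nr : y * (rL : G) * y⁻¹ = (rL : G)⁻¹ := by
    have : yL * rL * yL⁻¹ = rL⁻¹ := by rw [hrL, ← conj_pow, hinv, inv_pow]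
    exact congrArg Subtype.val this
  have F := frame rL rL.2 (congrArg Subtype.val hr3) fun h => hrL1 (Subtype.ext h)
  have ns : y * s = s * y := (hmemL y).1 hy
  have hπr : π rL ≠ 1 := by
    intro h
    have hq : (rL : G) ∈ Q := (hker rL).1 h
    rcases F.sq _ hq with h2 | h2 <;>
      · have hc := congrArg Subtype.val hr3
        simp only [Subgroup.coe_mul, OneMemClass.coe_one, h2] at hc
        first
          | exact hrL1 (Subtype.ext (by simpa using hc))
          | (have : (rL : G) = s := by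
               rw [← inv_eq_of_mul_eq_one_right hc, inv_eq_of_mul_eq_one_right hss]
             rw [this, hss] at h2
             exact hs1 h2.symm)
  have hgen : ∀ v ∈ L, ∃ i j : ℕ, ((rL : G) ^ i * y ^ j)⁻¹ * v ∈ Q := by
    intro v hv
    obtain ⟨-, hq⟩ := perm_three (π ⟨v, hv⟩) (π yL) hπy hπy2
    obtain ⟨i, -, j, -, hij⟩ := hq (π rL) hπr (by rw [← map_mul, ← map_mul, hr3, map_one])
    refine ⟨i, j, ?_⟩
    have h1 : π ((rL ^ i * yL ^ j)⁻¹ * ⟨v, hv⟩) = 1 := by
      have e1 : π (rL ^ i) = π rL ^ i := map_pow π rL i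
      rw [map_mul, map_inv, map_mul, e1, map_pow π yL j, hij, inv_mul_cancel]
    simpa [yL] using (hker _).1 h1
  -- conclusion from a pair and the relations
  have hclo : ∀ {a b c d : G}, F.Pair a b c d → ∀ v : G, v * s = s * v →
      v ∈ Subgroup.closure ({y, (rL : G), d, c, b, a, s} : Set G) := fun P v hv =>
    closure_eq_of_quot P (hgen v ((hmemL v).2 hv))
  have hLn : Nat.card {v : G // v * s = s * v} = 192 := by
    rw [← hcardL]
    exact Nat.card_congr (Equiv.subtypeEquivRight fun v => (hmemL v).symm)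
  have hinj : ∀ {f : ℕ → G} {T : ℕ → ℕ → ℕ} {u : ℕ}, u < 192 → f u = s →
      (∀ i < 192, ∀ j < 192, f (T i j) = f i * f j) → (∀ i < 192, T i u = T u i) →
      (∀ v : G, v * s = s * v → ∃ i < 192, f i = v) → ∀ i < 192, ∀ j < 192, f i = f j → i = j := by
    intro f T u hu hfu hmul hcen hsurj i hi j hj he
    let φ : Fin 192 → {v : G // v * s = s * v} := fun k =>
      ⟨f k, by rw [← hfu, ← hmul k k.2 u hu, ← hmul u hu k k.2, hcen k k.2]⟩
    have hb : Function.Bijective φ := (Nat.bijective_iff_surjective_and_card φ).2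
      ⟨fun v => by
        obtain ⟨k, hk, hkv⟩ := hsurj v.1 v.2
        exact ⟨⟨k, hk⟩, Subtype.ext hkv⟩, by rw [Nat.card_fin, hLn]⟩
    exact congrArg Fin.val (hb.1 (Subtype.ext he : φ ⟨i, hi⟩ = φ ⟨j, hj⟩))
  obtain ⟨a, b, c, d, P⟩ := F.exists_pair
  have hns : y * s * y⁻¹ = s := by rw [ns, mul_inv_cancel_right]
  have hyy : ∀ v : G, y * (y * v * y⁻¹) * y⁻¹ = v := fun v => by
    calc y * (y * v * y⁻¹) * y⁻¹ = (y * y) * v * (y * y)⁻¹ := by group
      _ = v := by rw [hy2, one_mul, inv_one, mul_one]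
  have hna2 : y * a * y⁻¹ * (y * a * y⁻¹) = s := by
    rw [show y * a * y⁻¹ * (y * a * y⁻¹) = y * (a * a) * y⁻¹ by group, P.a_sq, hns]
  rcases P.sq_s (hnorm y hy a P.a_mem) hna2 with ⟨x, hx, hxe⟩ | ⟨x, hx, hxe⟩
  · -- both quaternion groups are normalised
    left
    obtain ⟨a1, b1, P1, ha1, na1, nb1⟩ := P.normal_fix ns hy2 nr hx hxe
    have hnc2 : y * c * y⁻¹ * (y * c * y⁻¹) = s := by
      rw [show y * c * y⁻¹ * (y * c * y⁻¹) = y * (c * c) * y⁻¹ by group, P1.c_sq, hns]
    rcases P1.sq_s (hnorm y hy c P1.c_mem) hnc2 with ⟨x', hx', hxe'⟩ | ⟨x', hx', hxe'⟩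
    · exfalso
      have ca : Commute (y * c * y⁻¹) a1 := by
        show y * c * y⁻¹ * a1 = a1 * (y * c * y⁻¹)
        have h1 : y * c * y⁻¹ * (a1 * s) = a1 * s * (y * c * y⁻¹) := by
          rw [← na1]
          calc y * c * y⁻¹ * (y * a1 * y⁻¹) = y * (c * a1) * y⁻¹ := by group
            _ = y * (a1 * c) * y⁻¹ := by rw [P1.ac]
            _ = _ := by group
        have h2 := F.s_comm _ (hnorm y hy c P1.c_mem)
        calc y * c * y⁻¹ * a1 = y * c * y⁻¹ * (a1 * s) * s := by
              rw [← mul_assoc, F.mul_s_s]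
          _ = a1 * (s * (y * c * y⁻¹) * s) := by rw [h1]; group
          _ = a1 * (y * c * y⁻¹) := by rw [← h2, F.mul_s_s]
      have cb : Commute (y * c * y⁻¹) (a1 * b1) := by
        show y * c * y⁻¹ * (a1 * b1) = a1 * b1 * (y * c * y⁻¹)
        have h1 : y * c * y⁻¹ * (a1 * b1 * s) = a1 * b1 * s * (y * c * y⁻¹) := by
          rw [← nb1]
          calc y * c * y⁻¹ * (y * b1 * y⁻¹) = y * (c * b1) * y⁻¹ := by group
            _ = y * (b1 * c) * y⁻¹ := by rw [P1.bc]
            _ = _ := by group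
        have h2 := F.s_comm _ (hnorm y hy c P1.c_mem)
        calc y * c * y⁻¹ * (a1 * b1) = y * c * y⁻¹ * (a1 * b1 * s) * s := by
              rw [← mul_assoc _ (a1 * b1) s, F.mul_s_s]
          _ = a1 * b1 * (s * (y * c * y⁻¹) * s) := by rw [h1]; group
          _ = a1 * b1 * (y * c * y⁻¹) := by rw [← h2, F.mul_s_s]
      have cb' : Commute (y * c * y⁻¹) b1 := by
        have := ca.inv_right.mul_right cb
        rwa [inv_mul_cancel_left] at this
      have sc : ∀ v, Commute v s → Commute (y * c * y⁻¹) v → Commute x' v := fun v hv h => by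
        rcases hxe' with e | e <;> rw [e] at h
        · exact h
        · have := h.mul_left (hv.symm)
          rwa [F.mul_s_s] at this
      have xa : Commute x' a1 := sc a1 (F.s_comm a1 P1.a_mem) ca
      have xb : Commute x' b1 := sc b1 (F.s_comm b1 P1.b_mem) cb'
      have nab : a1 * b1 ≠ b1 * a1 := fun h => F.s_ne (by
        have h1 := P1.ba
        rw [← h, mul_inv_cancel_right, left_eq_mul] at h1
        exact h1)
      simp only [List.mem_cons, List.not_mem_nil, or_false] at hx'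
      rcases hx' with rfl | rfl | rfl
      · exact nab xb.eq
      · exact nab xa.eq.symm
      · refine nab ?_
        calc a1 * b1 = (a1 * b1 * a1) * a1⁻¹ := by group
          _ = (a1 * (a1 * b1)) * a1⁻¹ := by rw [xa.eq]
          _ = a1 * (a1 * b1 * a1⁻¹) := by group
          _ = a1 * (b1 * s) := by rw [F.comm_symm P1.b_mem P1.a_mem P1.ba]
          _ = a1 * b1 * s := by group
          _ = b1 * a1 := by
            calc a1 * b1 * s = a1 * (b1 * s) := by group
              _ = a1 * (s * b1) := by rw [F.s_comm b1 P1.b_mem]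
              _ = a1 * s * b1 := by group
              _ = b1 * a1 * b1⁻¹ * b1 := by rw [P1.ba]
              _ = b1 * a1 := by group
    obtain ⟨-, -, Psw⟩ := P1.shift
    obtain ⟨c1, d1, P2, -, nc1, nd1⟩ := Psw.normal_fix ns hy2 nr hx' hxe'
    obtain ⟨-, -, P3⟩ := P2.shift
    have hG := tuple_eqs_fix P3 ns hy2 nr na1 nb1 nc1 nd1
    obtain ⟨f, hfu, hmul, hsurj, hlist⟩ := numbering (fun i hi j hj => Model.mulI_lt hi hj) el
      (fun i hi j hj => Model.el_mul j hj i hi) Model.el_zero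
      (fun i hi j hj => Model.el_inj hi hj) parI lastI
      (fun j hj h0 => ⟨(Model.tree_row hj h0).1, (Model.tree_row hj h0).2, by
        obtain ⟨hp, hl⟩ := Model.tree_row hj h0
        have hp' : parI j < 192 := hp.trans hj
        have h0j := Model.mulI_tree (i := 0) (by norm_num) hj h0
        have hz0 : ∀ m, m < 192 → mulI 0 m = m := by decide +kernel
        rw [hz0 j hj, hz0 _ hp'] at h0j
        rw [← Model.el_gen hp' hl, ← h0j]⟩)
      fixGens_lt fix_table rfl
      (fun hp hq => ⟨_, _, _, _, _, _, _, _, _, _, (hp.prod hq).relsFix, hp.relsFix, hq.relsFix⟩)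
      hG
    have hs' : ∀ v : G, v * s = s * v → ∃ i < 192, f i = v := fun v hv => hsurj v (hclo P3 v hv)
    refine ⟨f, ⟨hmul, hinj Model.uI_lt hfu hmul (fun i hi => (Model.table_row hi).2.2.2) hs', hs',
      hfu⟩, ?_⟩
    obtain ⟨x, hx, z, hz', w, hw, hxzw⟩ := P3.mem_lists hgQ
    obtain ⟨i, hi, hi', hie⟩ := hlist x hx z hz' w hw
    rw [← hxzw] at hie
    exact ⟨i, hi, hi', isConj_iff.2 ⟨g, hie.symm⟩, hie ▸ hgs⟩
  · -- the quaternion groups are exchanged
    right
    set a' := y * a * y⁻¹ with ha'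
    have ac : Commute a a' ∧ Commute b a' := by
      have ca : Commute a c := P.ac
      have cb : Commute b c := P.bc
      have da : Commute a d := P.ad
      have db : Commute b d := P.bd
      have hxc : Commute a x ∧ Commute b x := by
        simp only [List.mem_cons, List.not_mem_nil, or_false] at hx
        rcases hx with rfl | rfl | rfl
        exacts [⟨ca, cb⟩, ⟨da, db⟩, ⟨ca.mul_right da, cb.mul_right db⟩]
      rcases hxe with h | h <;> rw [h]
      · exact hxc
      · exact ⟨hxc.1.mul_right (F.s_comm a P.a_mem), hxc.2.mul_right (F.s_comm b P.b_mem)⟩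
    set r := (rL : G) with hr
    set d' := r * a' * r⁻¹ with hd'
    have hyi : y⁻¹ = y := inv_eq_of_mul_eq_one_right hy2
    have hra3 : r * (a * b) * r⁻¹ = a := by
      have hr3' : r * (r * (r * a * r⁻¹) * r⁻¹) * r⁻¹ = a := by
        calc r * (r * (r * a * r⁻¹) * r⁻¹) * r⁻¹ = (r * r * r) * a * (r * r * r)⁻¹ := by group
          _ = a := by rw [F.r_cube, one_mul, inv_one, mul_one]
      rwa [P.ra, P.rb] at hr3'
    have hab : r⁻¹ * a * r = a * b := by nth_rewrite 1 [← hra3]; group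
    have hd'2 : d' = y * (a * b) * y⁻¹ := by
      calc d' = (r * y) * a * (r * y)⁻¹ := by rw [hd', ha']; group
        _ = (y * (y * r * y⁻¹)) * a * (y * (y * r * y⁻¹))⁻¹ := by
            rw [show y * (y * r * y⁻¹) = (y * y) * r * y⁻¹ by group, hy2, one_mul, hyi]
        _ = y * (r⁻¹ * a * r) * y⁻¹ := by rw [nr]; group
        _ = _ := by rw [hab]
    have nb : y * b * y⁻¹ = r⁻¹ * a' * r := by
      rw [← P.ra, show y * (r * a * r⁻¹) * y⁻¹ = (y * r * y⁻¹) * (y * a * y⁻¹) * (y * r * y⁻¹)⁻¹ by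
        group, nr, inv_inv]
    have hd'c : r * d' * r⁻¹ = y * b * y⁻¹ := by
      rw [nb, hd']
      calc r * (r * a' * r⁻¹) * r⁻¹ = (r * r * r) * (r⁻¹ * a' * r) * (r * r * r)⁻¹ := by group
        _ = _ := by rw [F.r_cube, one_mul, inv_one, mul_one]
    have haba : a * b * a = b := by
      calc a * b * a = (a * b * a⁻¹) * (a * a) := by group
        _ = b := by rw [F.comm_symm P.b_mem P.a_mem P.ba, P.a_sq, F.mul_s_s]
    have hdc' : d' * a' = y * b * y⁻¹ := by
      calc d' * a' = y * (a * b * a) * y⁻¹ := by rw [hd'2, ha']; group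
        _ = _ := by rw [haba]
    have hd'2s : d' * d' = s := by
      rw [hd'2, show y * (a * b) * y⁻¹ * (y * (a * b) * y⁻¹) = y * ((a * b) * (a * b)) * y⁻¹ by group]
      have := F.xpart_sq P.a_mem P.b_mem P.a_sq P.b_sq P.ba true true
      simp [xpart] at this
      rw [this, hns]
    have hd'a' : d' * a' * d'⁻¹ = a' * s := by
      calc d' * a' * d'⁻¹ = y * (a * (b * a * b⁻¹) * a⁻¹) * y⁻¹ := by rw [hd'2, ha']; group
        _ = (y * a * y⁻¹) * (y * (a * s * a⁻¹) * y⁻¹) := by rw [P.ba]; group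
        _ = a' * s := by rw [F.s_comm a P.a_mem, mul_inv_cancel_right, hns]
    have rcomm : ∀ {u v : G}, Commute u v → Commute (r * u * r⁻¹) (r * v * r⁻¹) := fun {u v} h => by
      show r * u * r⁻¹ * (r * v * r⁻¹) = r * v * r⁻¹ * (r * u * r⁻¹)
      calc r * u * r⁻¹ * (r * v * r⁻¹) = r * (u * v) * r⁻¹ := by group
        _ = r * (v * u) * r⁻¹ := by rw [h.eq]
        _ = _ := by group
    have bd' : Commute b d' := by
      have := rcomm ac.1
      rwa [P.ra, ← hd'] at this
    have abd' : Commute (a * b) d' := by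
      have := rcomm ac.2
      rwa [P.rb, ← hd'] at this
    have ad' : Commute a d' := by
      have := abd'.mul_left bd'.inv_left
      rwa [mul_inv_cancel_right] at this
    have hG := tuple_eqs_swap F P.a_sq P.b_sq P.ba P.ra P.rb hna2 hd'2s hd'a' ac.1.eq ad'.eq
      ac.2.eq bd'.eq hd'.symm (hd'c.trans hdc'.symm) ns hy2 nr rfl
      hdc'.symm (hyy a) (by rw [hd'2]; exact hyy _)
    have hPa : ∀ q ∈ Q, ∃ x ∈ [1, a, b, a * b], ∃ z ∈ [1, a', d', a' * d'], ∃ w ∈ [1, s],
        q = x * z * w := by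
      have hy' : a' ∈ Q := hnorm y hy a P.a_mem
      have hdm : d' ∈ Q := F.r_norm _ hy'
      have sA : s * a' = a' * s := (F.s_comm a' hy').symm
      have sD : s * d' = d' * s := (F.s_comm d' hdm).symm
      have hda : d' * a' = a' * d' * s := by
        calc d' * a' = (d' * a' * d'⁻¹) * d' := by group
          _ = a' * (s * d') := by rw [hd'a']; group
          _ = a' * d' * s := by rw [sD]; group
      have hprod : (a' * s) * (d' * s) = a' * d' := by
        calc (a' * s) * (d' * s) = a' * (s * d') * s := by group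
          _ = a' * (d' * s) * s := by rw [sD]
          _ = a' * d' * (s * s) := by group
          _ = a' * d' := by rw [F.s_sq, mul_one]
      have hconjs : ∀ v : G, r * (v * s) * r⁻¹ = r * v * r⁻¹ * s := fun v => by
        calc r * (v * s) * r⁻¹ = r * v * r⁻¹ * (r * s * r⁻¹) := by group
          _ = _ := by rw [F.r_s, mul_inv_cancel_right]
      have P' : F.Pair a b (a' * s) (d' * s) :=
        ⟨P.a_mem, P.b_mem, mul_mem hy' F.s_mem, mul_mem hdm F.s_mem, P.a_sq, P.b_sq,
          (F.sq_mul_s hy').trans hna2, (F.sq_mul_s hdm).trans hd'2s, P.ba, by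
            calc d' * s * (a' * s) * (d' * s)⁻¹ = d' * (s * a') * d'⁻¹ := by group
              _ = (d' * a' * d'⁻¹) * (d' * s * d'⁻¹) := by rw [sA]; group
              _ = _ := by rw [hd'a', F.s_comm d' hdm, mul_inv_cancel_right],
          (ac.1.mul_right (F.s_comm a P.a_mem)).eq, (ad'.mul_right (F.s_comm a P.a_mem)).eq,
          (ac.2.mul_right (F.s_comm b P.b_mem)).eq, (bd'.mul_right (F.s_comm b P.b_mem)).eq,
          P.ra, P.rb, by rw [hconjs, ← hd'],
          by rw [hconjs, hd'c, ← hdc', hda, F.mul_s_s, hprod]⟩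
      intro q hq
      obtain ⟨x, hx, z, hz', w, hw, e⟩ := P'.mem_lists hq
      obtain ⟨z', hz'', w', hw', e'⟩ : ∃ z' ∈ [1, a', d', a' * d'], ∃ w' ∈ [1, s],
          z * w = z' * w' := by
        simp only [List.mem_cons, List.not_mem_nil, or_false] at hz' hw
        rcases hw with hw | hw <;> subst w <;> rcases hz' with rfl | rfl | rfl | rfl
        exacts [⟨1, by simp, 1, by simp, rfl⟩, ⟨a', by simp, s, by simp, by rw [mul_one]⟩,
          ⟨d', by simp, s, by simp, by rw [mul_one]⟩,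
          ⟨a' * d', by simp, 1, by simp, by rw [hprod]⟩,
          ⟨1, by simp, s, by simp, rfl⟩, ⟨a', by simp, 1, by simp, by rw [F.mul_s_s, mul_one]⟩,
          ⟨d', by simp, 1, by simp, by rw [F.mul_s_s, mul_one]⟩,
          ⟨a' * d', by simp, s, by simp, by rw [hprod]⟩]
      exact ⟨x, hx, z', hz'', w', hw', by rw [e, mul_assoc x z w, e', ← mul_assoc]⟩
    obtain ⟨f, hfu, hmul, hsurj, hlist⟩ := numbering (fun i hi j hj => Eight.mul8_lt hi hj) Eight.el8
      (fun i hi j hj => Eight.el8_mul j hj i hi) Eight.el8_zero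
      (fun i hi j hj => Eight.el8_inj hi hj) Eight.par8 Eight.last8
      (fun j hj h0 => ⟨(Eight.tree8 hj h0).1, (Eight.tree8 hj h0).2.1, by
        obtain ⟨hp, -, hm⟩ := Eight.tree8 hj h0
        have hp' : Eight.par8 j < 192 := hp.trans hj
        have h0j := hm 0 (by norm_num)
        rw [(Eight.row8 hj).2.1, (Eight.row8 hp').2.1] at h0j
        conv_lhs => rw [h0j]
        rw [Eight.el8_mul _ (by rcases (Eight.tree8 hj h0).2.1 with e | e <;> rw [e] <;> norm_num) _ hp']⟩)
      swapGens_lt swap_table rfl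
      (fun hp hq => ⟨_, _, _, _, _, _, _, _, _, _, (hp.prod hq).relsSwap, hp.relsSwap, hq.relsSwap⟩)
      hG
    have hs' : ∀ v : G, v * s = s * v → ∃ i < 192, f i = v := fun v hv => by
      refine hsurj v ?_
      obtain ⟨i, j, hq⟩ := hgen v ((hmemL v).2 hv)
      rw [← mul_inv_cancel_left (r ^ i * y ^ j) v]
      refine mul_mem (mul_mem (pow_mem (Subgroup.subset_closure (by simp)) i)
        (pow_mem (Subgroup.subset_closure (by simp)) j)) ?_
      obtain ⟨x, hx, z, hz', w, hw, e⟩ := hPa _ hq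
      rw [e]
      have m : ∀ v, v ∈ ({y, r, d', a', b, a, s} : Set G) →
          v ∈ Subgroup.closure ({y, r, d', a', b, a, s} : Set G) := fun v hv =>
        Subgroup.subset_closure hv
      simp only [List.mem_cons, List.not_mem_nil, or_false] at hx hz' hw
      refine mul_mem (mul_mem ?_ ?_) ?_
      · rcases hx with rfl | rfl | rfl | rfl
        exacts [one_mem _, m _ (by simp), m _ (by simp), mul_mem (m _ (by simp)) (m _ (by simp))]
      · rcases hz' with rfl | rfl | rfl | rfl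
        exacts [one_mem _, m _ (by simp), m _ (by simp), mul_mem (m _ (by simp)) (m _ (by simp))]
      · rcases hw with hw | hw <;> rw [hw]
        exacts [one_mem _, m _ (by simp)]
    refine ⟨f, ⟨hmul, hinj (by decide) hfu hmul (fun i hi => (Eight.row8 hi).2.2.2.2.1) hs', hs',
      hfu⟩, ?_⟩
    obtain ⟨x, hx, z, hz', w, hw, hxzw⟩ := hPa _ hgQ
    obtain ⟨i, hi, hi', hie⟩ := hlist x hx z hz' w hw
    rw [← hxzw] at hie
    exact ⟨i, hi, hi', isConj_iff.2 ⟨g, hie.symm⟩, hie ▸ hgs⟩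

end CfsgLib.M12Type
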