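import Cfsg.Agent.M12Type.Glue

/-!
The classes of involutions when the gluing map is standard.
-/

set_option autoImplicit false

namespace CfsgLib.M12Type

variable {G : Type*} [Group G] {f : ℕ → G} {s g : G}

theorem eleven_facts : CfsgLib.CosetEnum.allBelow (fun k => impB (Nat.beq (clsI (pelem k)) 11)
      (isInv (pelem k))) 32 = true ∧
    anyBelow (fun k => Nat.beq (clsI (pelem k)) 11 && Nat.beq (clsI (stdI (pelem k))) 12) 32 = true := by
  decide +kernel

/-- With the standard gluing map class 11 is fused to the centre, class 12 too. -/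
theorem Glue.isConj_cls (h : Emb f s) (hg : Glue f g) :
    IsConj s (f xI) ∧ IsConj s (f oI) := by
  have hx := const_facts.2.1
  have hxs : IsConj s (f xI) := isConj_iff.mpr ⟨g, by
    rw [← h.map_u, inv_eq_of_mul_eq_one_right hg.gg, hg.conj _ const_facts.1 (by decide +kernel),
      std_facts.2.1]⟩
  refine ⟨hxs, ?_⟩
  obtain ⟨k, hk, hkk⟩ := anyBelow_spec eleven_facts.2
  rw [Bool.and_eq_true, beq_spec, beq_spec] at hkk
  obtain ⟨hk1, hk2, -⟩ := pelem_spec hk
  have h1 : IsConj (f (pelem k)) (f (stdI (pelem k))) := isConj_iff.mpr ⟨g, by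
    rw [inv_eq_of_mul_eq_one_right hg.gg, hg.conj _ hk1 hk2]⟩
  exact hxs.trans ((h.isConj_of_cls (std_spec hk).1 hx hkk.2 (.inr (.inr rfl))).trans
    (h1.symm.trans (h.isConj_of_cls hk1 const_facts.2.2.2.2.2.1 hkk.1 (.inr (.inl rfl))).symm))

/-- Every involution is conjugate to the centre or to `z`. -/
theorem Glue.hall [Finite G] (h : Emb f s) (hg : Glue f g) (y : G) (hy : orderOf y = 2) :
    IsConj s y ∨ IsConj (f zI) y := by
  obtain ⟨i, hi, hv, -, hc⟩ := h.exists_conj_invol hy
  obtain ⟨hx, ho⟩ := hg.isConj_cls h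
  rcases inv_classes hi hv with e | e | e | e
  · rw [e, h.map_u] at hc; exact .inl hc.symm
  · exact .inr ((h.isConj_of_cls hi const_facts.2.2.2.1 e (.inl rfl)).trans hc.symm)
  · exact .inl (ho.trans ((h.isConj_of_cls hi const_facts.2.2.2.2.2.1 e (.inr (.inl rfl))).trans
      hc.symm))
  · exact .inl (hx.trans ((h.isConj_of_cls hi const_facts.2.1 e (.inr (.inr rfl))).trans hc.symm))

end CfsgLib.M12Type
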