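import Cfsg.Agent.M12Type.CentZ
import Cfsg.Agent.M12Type.Classes
import Cfsg.Agent.BaerSuzuki.Classes

/-!
The centraliser of the second class of involutions does not have order 48: the order formula
would give order 12096, and then the class of the central involution is too small for the pairs
of its members counted in one centraliser.
-/

set_option autoImplicit false
set_option maxRecDepth 100000

namespace CfsgLib.M12Type

open CfsgLib.CosetEnum (allBelow)
open CfsgLib.StronglyEmbedded (orderOf_two_iff orderOf_conj)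
open CfsgLib.BaerSuzuki (order_formula involution_unique_in_zpowers)

namespace FortyEight

/-- powers in the table -/
noncomputable def powI (i : ℕ) : ℕ → ℕ
  | 0 => 0
  | n + 1 => mulI (powI i n) i

/-- `w` is a power of `i` -/
noncomputable def powHas (i w : ℕ) : Bool := anyBelow (fun k => Nat.beq (powI i k) w) 24

/-- the involutions fused to the centre -/
noncomputable def sType (i : ℕ) : Bool := isInv i && !(Nat.beq (clsI i) 10)

/-- the involutions of the second class -/
noncomputable def zType (i : ℕ) : Bool := isInv i && Nat.beq (clsI i) 10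

/-- a list of the indices with a property -/
noncomputable def sel (p : ℕ → Bool) : List ℕ := (List.range 192).filter p

/-- pairs with the central involution as a power of the product -/
noncomputable def pairsI (p q : ℕ → Bool) : List (ℕ × ℕ) :=
  ((sel p).product (sel q)).filter fun e => powHas (mulI e.1 e.2) uI

theorem pow_check : allBelow (fun i => Nat.beq (powI i 24) 0) 192 = true := by decide +kernel

theorem count_sz : (pairsI sType zType).length = 240 := by decide +kernel

theorem count_ss : (pairsI sType sType).length = 318 := by decide +kernel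

theorem z_mul_facts : clsI (mulI uI zI) = 10 ∧ clsI (mulI xI zI) = 10 ∧ clsI (mulI xuI zI) = 10 ∧
    isInv (mulI uI zI) = true ∧ isInv (mulI xI zI) = true ∧ isInv (mulI xuI zI) = true ∧
    isInv xuI = true ∧ isInv xI = true ∧ mulI uI xI = xuI ∧
    commI uI zI = true ∧ commI xI zI = true ∧ commI xuI zI = true ∧
    commI uI xI = true ∧ commI uI xuI = true ∧ commI xI xuI = true ∧
    mulI uI xuI = xI ∧ mulI xI xuI = uI ∧ mulI xI uI = xuI ∧ mulI xuI uI = xI ∧
    mulI xuI xI = uI := by
  decide +kernel

theorem nodup_pairs (p q : ℕ → Bool) : (pairsI p q).Nodup :=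
  ((List.nodup_range.filter p).product (List.nodup_range.filter q)).filter _

theorem mem_pairs {p q : ℕ → Bool} {e : ℕ × ℕ} : e ∈ pairsI p q ↔
    e.1 < 192 ∧ e.2 < 192 ∧ p e.1 = true ∧ q e.2 = true ∧ powHas (mulI e.1 e.2) uI = true := by
  obtain ⟨i, j⟩ := e
  simp only [pairsI, sel, List.mem_filter, List.pair_mem_product, List.mem_range]
  constructor
  · rintro ⟨⟨⟨a, b⟩, c, d⟩, e'⟩
    exact ⟨a, c, b, d, e'⟩
  · rintro ⟨a, c, b, d, e'⟩
    exact ⟨⟨⟨a, b⟩, c, d⟩, e'⟩

variable {G : Type*} [Group G] {f : ℕ → G} {s : G}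

theorem powI_lt {i : ℕ} (hi : i < 192) : ∀ k, powI i k < 192
  | 0 => by norm_num [powI]
  | k + 1 => mul_lt (powI_lt hi k) hi

theorem map_powI (h : Emb f s) {i : ℕ} (hi : i < 192) : ∀ k, f (powI i k) = f i ^ k
  | 0 => by rw [powI, h.map_zero, pow_zero]
  | k + 1 => by rw [powI, h.mul _ (powI_lt hi k) _ hi, map_powI h hi k, pow_succ]

theorem mem_zpowers_iff_powHas (h : Emb f s) {i w : ℕ} (hi : i < 192) (hw : w < 192) :
    f w ∈ Subgroup.zpowers (f i) ↔ powHas i w = true := by
  constructor
  · intro hm
    have h24 : f i ^ 24 = 1 := by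
      rw [← map_powI h hi, beq_spec.1 (allBelow_spec pow_check i hi), h.map_zero]
    obtain ⟨n, hn⟩ := hm
    obtain ⟨k, hk⟩ := Int.eq_ofNat_of_zero_le (Int.emod_nonneg n (by norm_num : (24 : ℤ) ≠ 0))
    have hk24 : k < 24 := by
      have := Int.emod_lt_of_pos n (by norm_num : (0 : ℤ) < 24)
      omega
    have hfk : f (powI i k) = f w := by
      rw [map_powI h hi, ← hn]
      show f i ^ k = f i ^ n
      conv_rhs => rw [show n = n % 24 + 24 * (n / 24) by omega, zpow_add, zpow_mul]
      rw [hk, zpow_natCast, show (24 : ℤ) = ((24 : ℕ) : ℤ) from rfl, zpow_natCast, h24, one_zpow,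
        mul_one]
    have he := h.inj _ (powI_lt hi k) w hw hfk
    rw [powHas]
    have : ∀ m, k < m → anyBelow (fun k => Nat.beq (powI i k) w) m = true := by
      intro m
      induction m with
      | zero => intro hm; omega
      | succ m ih =>
        intro hm
        rw [anyBelow, Bool.or_eq_true]
        rcases Nat.lt_succ_iff_lt_or_eq.1 hm with h' | rfl
        · exact .inr (ih h')
        · exact .inl (beq_spec.2 he)
    exact this 24 hk24
  · intro hp
    obtain ⟨k, -, hk⟩ := anyBelow_spec hp
    rw [← beq_spec.1 hk, map_powI h hi]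
    exact Subgroup.npow_mem_zpowers _ _

variable [Finite G] {g : G}

theorem isConj_sType (h : Emb f s) (hg : Glue f g) {i : ℕ} (hi : i < 192) (hs : sType i = true) :
    IsConj s (f i) := by
  simp only [sType, Bool.and_eq_true, Bool.not_eq_true', beq_false_spec] at hs
  obtain ⟨hx, ho⟩ := hg.isConj_cls h
  rcases inv_classes hi hs.1 with e | e | e | e
  · rw [e, h.map_u]
  · exact absurd e hs.2
  · exact ho.trans (h.isConj_of_cls hi const_facts.2.2.2.2.2.1 e (.inr (.inl rfl)))
  · exact hx.trans (h.isConj_of_cls hi const_facts.2.1 e (.inr (.inr rfl)))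

theorem type_of_conj (h : Emb f s) (hg : Glue f g) {i : ℕ} (hi : i < 192) :
    (IsConj s (f i) → sType i = true) ∧ (IsConj (f zI) (f i) → zType i = true) := by
  have hinv : ∀ b : G, orderOf b = 2 → IsConj b (f i) → isInv i = true := by
    intro b hb hc
    obtain ⟨c, hc⟩ := isConj_iff.1 hc
    obtain ⟨j, hj, hv, e⟩ := h.exists_invol (y := f i) (by rw [← hc, orderOf_conj, hb]) (h.comm_s hi)
    rwa [h.inj j hj i hi e] at hv
  constructor
  · intro hc
    have hv := hinv s h.orderOf_s hc
    simp only [sType, hv, Bool.true_and, Bool.not_eq_true', beq_false_spec]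
    exact fun e => h.not_conj_ten hi hv e hc
  · intro hc
    have hv := hinv _ (h.orderOf_invol const_facts.2.2.2.1
      const_facts.2.2.2.2.2.2.2.2.2.2.2.2.2.2.1) hc
    simp only [zType, hv, Bool.true_and, beq_spec]
    by_contra hne
    refine h.not_conj_s_z ((isConj_sType h hg hi ?_).trans hc.symm)
    simp only [sType, hv, Bool.true_and, Bool.not_eq_true', beq_false_spec]
    exact hne

theorem isConj_zType (h : Emb f s) {i : ℕ} (hi : i < 192) (hs : zType i = true) :
    IsConj (f zI) (f i) := by
  simp only [zType, Bool.and_eq_true, beq_spec] at hs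
  exact h.isConj_of_cls hi const_facts.2.2.2.1 hs.2 (.inl rfl)

omit [Finite G] in
/-- Both members of a pair with an involution as power of the product centralise it. -/
theorem comm_of_mem {a b w : G} (ha : a * a = 1) (hb : b * b = 1) (hw : w * w = 1)
    (hm : w ∈ Subgroup.zpowers (a * b)) : a * w = w * a ∧ b * w = w * b := by
  have hwi : w⁻¹ = w := inv_eq_of_mul_eq_one_right hw
  obtain ⟨n, hn⟩ := hm
  have hn : (a * b) ^ n = w := hn
  have hab : Commute (a * b) w := hn ▸ (Commute.refl (a * b)).zpow_right n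
  have hai : a⁻¹ = a := inv_eq_of_mul_eq_one_right ha
  have hbi : b⁻¹ = b := inv_eq_of_mul_eq_one_right hb
  have h1 : a * w * a⁻¹ = w := by
    rw [← hn, ← conj_zpow, show a * (a * b) * a⁻¹ = (a * b)⁻¹ by
      rw [mul_inv_rev, hai, hbi, ← mul_assoc, ha, one_mul]]
    rw [inv_zpow, hn, hwi]
  have h2 : a * w = w * a := mul_inv_eq_iff_eq_mul.1 h1
  refine ⟨h2, ?_⟩
  calc b * w = a * (a * b * w) := by rw [mul_assoc a b w, ← mul_assoc, ha, one_mul]
    _ = a * (w * (a * b)) := by rw [hab.eq]
    _ = (a * w) * a * b := by group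
    _ = w * (a * a) * b := by rw [h2]; group
    _ = w * b := by rw [ha, mul_one]

end FortyEight

open FortyEight

variable {G : Type*} [Group G] [Finite G] {f : ℕ → G} {s g : G}

/-- The centraliser of `z` does not have order 48. -/
theorem Glue.false_of_48 (h : Emb f s) (hg : Glue f g)
    (h48 : Nat.card (Subgroup.centralizer ({f zI} : Set G)) = 48)
    (htr : ∀ y : G, IsConj s y → y * f zI = f zI * y → y = s ∨ y = f xI ∨ y = f xuI) : False := by
  classical
  obtain ⟨hu, hx, hxu, hz, -⟩ := const_facts
  have hzv := const_facts.2.2.2.2.2.2.2.2.2.2.2.2.2.2.1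
  have hs2 : orderOf s = 2 := h.orderOf_s
  have hz2 : orderOf (f zI) = 2 := h.orderOf_invol hz hzv
  have hinv : ∀ {b a : G}, orderOf b = 2 → IsConj b a → a * a = 1 := fun {b a} hb hc => by
    obtain ⟨c, rfl⟩ := isConj_iff.1 hc
    exact (orderOf_two_iff.1 (by rw [orderOf_conj, hb])).1
  have hrs : Nat.card {p : G × G // IsConj s p.1 ∧ IsConj (f zI) p.2 ∧
      s ∈ Subgroup.zpowers (p.1 * p.2)} = 240 := by
    let φ : (pairsI sType zType).toFinset → {p : G × G // IsConj s p.1 ∧ IsConj (f zI) p.2 ∧
        s ∈ Subgroup.zpowers (p.1 * p.2)} := fun e => ⟨(f e.1.1, f e.1.2), by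
      obtain ⟨h1, h2, h3, h4, h5⟩ := mem_pairs.1 (List.mem_toFinset.1 e.2)
      refine ⟨isConj_sType h hg h1 h3, isConj_zType h h2 h4, ?_⟩
      rw [← h.map_u, ← h.mul _ h1 _ h2]
      exact (mem_zpowers_iff_powHas h (mul_lt h1 h2) hu).2 h5⟩
    have hφ : Function.Bijective φ := by
      constructor
      · intro a b e
        obtain ⟨a1, a2, -⟩ := mem_pairs.1 (List.mem_toFinset.1 a.2)
        obtain ⟨b1, b2, -⟩ := mem_pairs.1 (List.mem_toFinset.1 b.2)
        have e' := congrArg Subtype.val e
        exact Subtype.ext (Prod.ext (h.inj _ a1 _ b1 (congrArg Prod.fst e'))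
          (h.inj _ a2 _ b2 (congrArg Prod.snd e')))
      · rintro ⟨⟨a, b⟩, ha, hb, hab⟩
        obtain ⟨ca, cb⟩ := comm_of_mem (hinv hs2 ha) (hinv hz2 hb)
          (orderOf_two_iff.1 hs2).1 hab
        obtain ⟨i, hi, rfl⟩ := h.surj a ca
        obtain ⟨j, hj, rfl⟩ := h.surj b cb
        refine ⟨⟨(i, j), List.mem_toFinset.2 (mem_pairs.2 ⟨hi, hj, (type_of_conj h hg hi).1 ha,
          (type_of_conj h hg hj).2 hb, ?_⟩)⟩, rfl⟩
        refine (mem_zpowers_iff_powHas h (mul_lt hi hj) hu).1 ?_
        rw [h.map_u, h.mul _ hi _ hj]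
        exact hab
    rw [← Nat.card_eq_of_bijective φ hφ, Nat.card_eq_fintype_card, Fintype.card_coe,
      List.card_toFinset, (nodup_pairs _ _).dedup, count_sz]
  obtain ⟨zu, zx, zxu, vzu, vzx, vzxu, vxu, vx, eux, cuz, cxz, cxuz, cux, cuxu, cxxu, euxu, exxu,
    exu, exuu, exux⟩ := z_mul_facts
  have hrz : Nat.card {p : G × G // IsConj s p.1 ∧ IsConj (f zI) p.2 ∧
      f zI ∈ Subgroup.zpowers (p.1 * p.2)} = 3 := by
    let S : Finset ℕ := {uI, xI, xuI}
    have hS : ∀ k ∈ S, k < 192 ∧ commI k zI = true ∧ sType k = true ∧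
        zType (mulI k zI) = true := by
      intro k hk
      simp only [S, Finset.mem_insert, Finset.mem_singleton] at hk
      rcases hk with rfl | rfl | rfl
      · exact ⟨hu, cuz, by decide +kernel, by decide +kernel⟩
      · exact ⟨hx, cxz, by decide +kernel, by decide +kernel⟩
      · exact ⟨hxu, cxuz, by decide +kernel, by decide +kernel⟩
    have hzz : f zI * f zI = 1 := (orderOf_two_iff.1 hz2).1
    let φ : S → {p : G × G // IsConj s p.1 ∧ IsConj (f zI) p.2 ∧
        f zI ∈ Subgroup.zpowers (p.1 * p.2)} := fun k => ⟨(f k.1, f (mulI k.1 zI)), by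
      obtain ⟨hk, -, h3, h4⟩ := hS k.1 k.2
      refine ⟨isConj_sType h hg hk h3, isConj_zType h (mul_lt hk hz) h4, ?_⟩
      show f zI ∈ Subgroup.zpowers (f k.1 * f (mulI k.1 zI))
      rw [h.mul _ hk _ hz, ← mul_assoc, hinv hs2 (isConj_sType h hg hk h3), one_mul]
      exact Subgroup.mem_zpowers _⟩
    have hφ : Function.Bijective φ := by
      constructor
      · intro a b e
        exact Subtype.ext (h.inj _ (hS _ a.2).1 _ (hS _ b.2).1
          (congrArg (fun q => q.1.1) e))
      · rintro ⟨⟨a, b⟩, ha, hb, hab⟩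
        have haa := hinv hs2 ha
        have hbb := hinv hz2 hb
        obtain ⟨ca, cb⟩ := comm_of_mem haa hbb hzz hab
        have hai : a⁻¹ = a := inv_eq_of_mul_eq_one_right haa
        have hbi : b⁻¹ = b := inv_eq_of_mul_eq_one_right hbb
        set a' := b * a * b with ha'
        have hca' : IsConj s a' := ha.trans (isConj_iff.2 ⟨b, by rw [ha', hbi]⟩)
        have ca' : a' * f zI = f zI * a' := by
          have e1 : Commute (f zI) b := cb.symm
          have e2 : Commute (f zI) a := ca.symm
          exact ((e1.mul_right e2).mul_right e1).symm.eq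
        obtain ⟨i, hi, rfl⟩ : ∃ i ∈ S, f i = a := by
          rcases htr a ha ca with e | e | e
          · exact ⟨uI, by simp [S], h.map_u.trans e.symm⟩
          · exact ⟨xI, by simp [S], e.symm⟩
          · exact ⟨xuI, by simp [S], e.symm⟩
        obtain ⟨i', hi', hie'⟩ : ∃ i' ∈ S, f i' = a' := by
          rcases htr a' hca' ca' with e | e | e
          · exact ⟨uI, by simp [S], h.map_u.trans e.symm⟩
          · exact ⟨xI, by simp [S], e.symm⟩
          · exact ⟨xuI, by simp [S], e.symm⟩
        have hil := (hS i hi).1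
        by_cases heq : i' = i
        · -- the product has order two
          rw [heq, ha'] at hie'
          have hsq : (f i * b) * (f i * b) = 1 := by
            calc f i * b * (f i * b) = f i * (b * f i * b) := by group
              _ = 1 := by rw [← hie', haa]
          have hne : f i * b ≠ 1 := fun e => by
            refine h.not_conj_s_z (ha.trans ?_)
            rw [show f i = b by rw [← mul_one (f i), ← hbb, ← mul_assoc, e, one_mul]]
            exact hb.symm
          have : f zI = f i * b := involution_unique_in_zpowers hz2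
            (orderOf_two_iff.2 ⟨hsq, hne⟩) hab (Subgroup.mem_zpowers _)
          refine ⟨⟨i, hi⟩, Subtype.ext (Prod.ext rfl ?_)⟩
          show f (mulI i zI) = b
          rw [h.mul _ hil _ hz, this, ← mul_assoc, haa, one_mul]
        · exfalso
          have hil' := (hS i' hi').1
          have hsq : f i * b * (f i * b) = f (mulI i i') := by
            rw [h.mul _ hil _ hil', hie', ha']; group
          have hkey : mulI i i' < 192 ∧ isInv (mulI i i') = true ∧ mulI i i' ≠ zI := by
            simp only [S, Finset.mem_insert, Finset.mem_singleton] at hi hi'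
            rcases hi with rfl | rfl | rfl <;> rcases hi' with rfl | rfl | rfl <;>
              first | exact absurd rfl heq | decide +kernel
          refine hkey.2.2 (h.inj _ hkey.1 _ hz ?_)
          refine (involution_unique_in_zpowers hz2 (h.orderOf_invol hkey.1 hkey.2.1) hab ?_).symm
          rw [← hsq]
          exact mul_mem (Subgroup.mem_zpowers _) (Subgroup.mem_zpowers _)
    rw [← Nat.card_eq_of_bijective φ hφ, Nat.card_eq_fintype_card, Fintype.card_coe]
    decide +kernel
  have hG : Nat.card G = 12096 := by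
    rw [order_formula hs2 hz2 h.not_conj_s_z (hg.hall h), h48, hrs, h.card_centralizer, hrz]
  let K := {a : G // IsConj s a}
  have hK : Nat.card K = 63 := by
    have hcm : Nat.card K * Nat.card (Subgroup.centralizer ({s} : Set G)) = Nat.card G := by
      rw [← (Subgroup.centralizer ({s} : Set G)).index_mul_card]
      congr 1
      rw [Subgroup.index]
      refine (Nat.card_eq_of_bijective (fun q : G ⧸ Subgroup.centralizer ({s} : Set G) =>
        (⟨q.out * s * q.out⁻¹, isConj_iff.mpr ⟨q.out, rfl⟩⟩ : K)) ⟨?_, ?_⟩).symm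
      · intro a b hab
        have h' : a.out * s * a.out⁻¹ = b.out * s * b.out⁻¹ := congrArg Subtype.val hab
        rw [← a.out_eq', ← b.out_eq', QuotientGroup.eq, Subgroup.mem_centralizer_singleton_iff]
        calc a.out⁻¹ * b.out * s = a.out⁻¹ * (b.out * s * b.out⁻¹) * b.out := by group
          _ = a.out⁻¹ * (a.out * s * a.out⁻¹) * b.out := by rw [h']
          _ = s * (a.out⁻¹ * b.out) := by group
      · rintro ⟨a, ha⟩
        obtain ⟨c, rfl⟩ := isConj_iff.mp ha
        obtain ⟨k, hk⟩ := QuotientGroup.mk_out_eq_mul (Subgroup.centralizer ({s} : Set G)) c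
        refine ⟨(c : G ⧸ Subgroup.centralizer ({s} : Set G)), Subtype.ext ?_⟩
        show _ * s * _⁻¹ = _
        rw [hk]
        have hc : (k : G) * s = s * k := Subgroup.mem_centralizer_singleton_iff.1 k.2
        calc c * (k : G) * s * (c * k)⁻¹ = c * ((k : G) * s) * (k : G)⁻¹ * c⁻¹ := by group
          _ = c * (s * k) * (k : G)⁻¹ * c⁻¹ := by rw [hc]
          _ = _ := by group
    rw [h.card_centralizer, hG] at hcm
    omega
  -- every member carries 318 pairs, and different members carry different pairs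
  have hconj : ∀ w : K, ∃ c : G, c * s * c⁻¹ = w.1 := fun w => isConj_iff.1 w.2
  choose c hc using hconj
  let F : K × (pairsI sType sType).toFinset → K × K := fun wp =>
    (⟨c wp.1 * f wp.2.1.1 * (c wp.1)⁻¹, (isConj_sType h hg
        (mem_pairs.1 (List.mem_toFinset.1 wp.2.2)).1
        (mem_pairs.1 (List.mem_toFinset.1 wp.2.2)).2.2.1).trans (isConj_iff.2 ⟨_, rfl⟩)⟩,
      ⟨c wp.1 * f wp.2.1.2 * (c wp.1)⁻¹, (isConj_sType h hg
        (mem_pairs.1 (List.mem_toFinset.1 wp.2.2)).2.1
        (mem_pairs.1 (List.mem_toFinset.1 wp.2.2)).2.2.2.1).trans (isConj_iff.2 ⟨_, rfl⟩)⟩)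
  have hF : Function.Injective F := by
    rintro ⟨w, p⟩ ⟨w', p'⟩ e
    obtain ⟨p1, p2, -, -, pp⟩ := mem_pairs.1 (List.mem_toFinset.1 p.2)
    obtain ⟨q1, q2, -, -, qq⟩ := mem_pairs.1 (List.mem_toFinset.1 p'.2)
    have e1 : c w * f p.1.1 * (c w)⁻¹ = c w' * f p'.1.1 * (c w')⁻¹ :=
      congrArg (fun q : K × K => q.1.1) e
    have e2 : c w * f p.1.2 * (c w)⁻¹ = c w' * f p'.1.2 * (c w')⁻¹ :=
      congrArg (fun q : K × K => q.2.1) e
    have hmem : ∀ (v : K) (i j : ℕ), i < 192 → j < 192 → powHas (mulI i j) uI = true →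
        v.1 ∈ Subgroup.zpowers ((c v * f i * (c v)⁻¹) * (c v * f j * (c v)⁻¹)) := by
      intro v i j hi hj hp
      obtain ⟨n, hn⟩ := (mem_zpowers_iff_powHas h (mul_lt hi hj) hu).2 hp
      have hn : f (mulI i j) ^ n = f uI := hn
      refine ⟨n, ?_⟩
      show (c v * f i * (c v)⁻¹ * (c v * f j * (c v)⁻¹)) ^ n = v.1
      rw [show c v * f i * (c v)⁻¹ * (c v * f j * (c v)⁻¹) = c v * (f i * f j) * (c v)⁻¹ by group,
        conj_zpow, ← h.mul _ hi _ hj, hn, h.map_u, hc]
    have hw : w = w' := Subtype.ext (by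
      have hm := hmem w _ _ p1 p2 pp
      rw [e1, e2] at hm
      exact involution_unique_in_zpowers (by rw [← hc w, orderOf_conj, hs2])
        (by rw [← hc w', orderOf_conj, hs2]) hm (hmem w' _ _ q1 q2 qq))
    subst hw
    exact Prod.ext rfl (Subtype.ext (Prod.ext (h.inj _ p1 _ q1 (mul_left_cancel (mul_right_cancel e1)))
      (h.inj _ p2 _ q2 (mul_left_cancel (mul_right_cancel e2)))))
  have hle := Nat.card_le_card_of_injective F hF
  rw [Nat.card_prod, Nat.card_prod, hK, Nat.card_eq_fintype_card, Fintype.card_coe,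
    List.card_toFinset, (nodup_pairs _ _).dedup, count_ss] at hle
  norm_num at hle

end CfsgLib.M12Type
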