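import Cfsg.Agent.M12Type.Main
import Cfsg.Agent.M12Type.FortyEight
import Cfsg.Agent.M12Type.ExtraL
import Cfsg.Agent.SmallRadical.Modules

/-!
The numbered centraliser with fusion in its extraspecial subgroup, without assuming simplicity:
the Mathieu group of degree 12, or an elementary abelian normal subgroup of order eight with
quotient `L₃(2)`.
-/

set_option autoImplicit false

namespace CfsgLib.M12Type

open CfsgLib.CosetEnum (allBelow)
open CfsgLib.StronglyEmbedded (orderOf_two_iff orderOf_conj)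

universe u

theorem qList_classes :
    (qList.all fun i => Nat.beq i uI || impB (isInv i) (Nat.beq (clsI i) 10 || Nat.beq (clsI i) 12))
      = true := by
  decide +kernel

/-- The subgroup of order eight is its own centraliser in the numbered group. -/
theorem eight_self_centralizing :
    allBelow (fun a => impB (allBelow (fun i => impB (inE i) (commI a i)) 192) (inE a)) 192 = true := by
  decide +kernel

theorem eight_sq :
    allBelow (fun i => impB (inE i) (Nat.beq (mulI i i) 0 &&
      allBelow (fun j => impB (inE j) (commI i j)) 192)) 192 = true := by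
  decide +kernel

theorem eight_count :
    ((Finset.range 192).filter fun i => inE i = true).card = 8 ∧
      (((Finset.range 192).filter fun i => inE i = true).erase 0).card = 7 := by
  decide +kernel

theorem allBelow_intro {r : ℕ → Bool} {n : ℕ} (hr : ∀ m < n, r m = true) : allBelow r n = true := by
  induction n with
  | zero => rfl
  | succ n ihn => rw [allBelow, hr n (by omega), ihn fun m hm => hr m (by omega)]; rfl

/-- An injective homomorphism to `SL₃(2)` from the automorphisms of an elementary abelian group of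
order eight. -/
theorem exists_hom_sl32 {W : Type*} [Group W] [Finite W] (h2 : ∀ w : W, w * w = 1)
    (h8 : Nat.card W = 8) :
    ∃ φ : MulAut W →* CfsgLib.SmallRadical.SL32, Function.Injective φ := by
  obtain ⟨e, he⟩ := CfsgLib.SmallRadical.exists_coord h2 h8
  have hs : ∀ x y, e.symm (x + y) = e.symm x * e.symm y := fun x y => by
    rw [Equiv.symm_apply_eq, he, e.apply_symm_apply, e.apply_symm_apply]
  let L : MulAut W → ((Fin 3 → ZMod 2) →ₗ[ZMod 2] (Fin 3 → ZMod 2)) := fun σ =>
    (AddMonoidHom.mk' (fun x => e (σ (e.symm x))) fun x y => by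
      rw [hs, _root_.map_mul, he]).toZModLinearMap 2
  have hL : ∀ σ x, L σ x = e (σ (e.symm x)) := fun σ x => rfl
  let M : MulAut W → Matrix (Fin 3) (Fin 3) (ZMod 2) := fun σ => LinearMap.toMatrix' (L σ)
  have hM : ∀ σ x, (M σ).mulVec x = e (σ (e.symm x)) := fun σ x => by
    rw [← hL]
    exact LinearMap.toMatrix'_mulVec (L σ) x
  have hMmul : ∀ σ τ, M (σ * τ) = M σ * M τ := fun σ τ => by
    refine Matrix.ext_iff_mulVec.2 fun x => ?_
    rw [← Matrix.mulVec_mulVec, hM, hM, hM, MulAut.mul_apply, e.symm_apply_apply]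
  have hM1 : M 1 = 1 := by
    refine Matrix.ext_iff_mulVec.2 fun x => ?_
    rw [hM, MulAut.one_apply, e.apply_symm_apply, Matrix.one_mulVec]
  have hdet : ∀ σ, (M σ).det = 1 := by
    intro σ
    have h1 : (M σ).det * (M σ⁻¹).det = 1 := by
      rw [← Matrix.det_mul, ← hMmul, mul_inv_cancel, hM1, Matrix.det_one]
    exact (by decide : ∀ a b : ZMod 2, a * b = 1 → a = 1) _ _ h1
  refine ⟨MonoidHom.mk' (fun σ => ⟨M σ, hdet σ⟩) fun σ τ => Subtype.ext (hMmul σ τ),
    fun σ τ e' => MulEquiv.ext fun w => e.injective ?_⟩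
  have hMe : M σ = M τ := congrArg Subtype.val e'
  rw [← e.symm_apply_apply w, ← hM, hMe, hM]

theorem sl32_equiv_psl :
    Nonempty (CfsgLib.SmallRadical.SL32 ≃*
      Matrix.ProjectiveSpecialLinearGroup (Fin 3) (ZMod 2)) := by
  have h2 : ∀ r : ZMod 2, r ^ 3 = 1 → r = 1 := by decide +revert
  have hc : Subgroup.center (Matrix.SpecialLinearGroup (Fin 3) (ZMod 2)) = ⊥ := by
    rw [Subgroup.eq_bot_iff_forall]
    intro x hx
    obtain ⟨r, hr, hrx⟩ := Matrix.SpecialLinearGroup.mem_center_iff.mp hx
    apply Subtype.ext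
    rw [← hrx, h2 r (by simpa using hr)]
    simp
  exact ⟨QuotientGroup.quotientBot.symm.trans (QuotientGroup.quotientMulEquivOfEq hc.symm)⟩

variable {G : Type u} [Group G] {f : ℕ → G} {s : G}

theorem Emb.isConj_x_of_witness [Finite G] (h : Emb f s)
    (hw : ∃ i ∈ qList, i < 192 ∧ IsConj s (f i) ∧ f i ≠ s) : IsConj s (f xI) := by
  obtain ⟨i, hiq, hi, hc, hne⟩ := hw
  obtain ⟨c, hce⟩ := isConj_iff.mp hc
  obtain ⟨j, hj, hjv, hje⟩ := h.exists_invol (y := f i)
    (by rw [← hce, orderOf_conj, h.orderOf_s]) (h.comm_s hi)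
  rw [h.inj j hj i hi hje] at hjv
  have := List.all_eq_true.1 qList_classes i hiq
  rw [Bool.or_eq_true, beq_spec] at this
  rcases this with hu | h'
  · exact absurd (by rw [hu, h.map_u]) hne
  · have := impB_spec h' hjv
    rw [Bool.or_eq_true, beq_spec, beq_spec] at this
    rcases this with h10 | h12
    · exact absurd hc (h.not_conj_ten hi hjv h10)
    · exact hc.trans (h.isConj_of_cls hi const_facts.2.1 h12 (.inr (.inr rfl))).symm

theorem Emb.card_eight (h : Emb f s) : Nat.card h.eight = 8 := by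
  classical
  let S := (Finset.range 192).filter fun i => inE i = true
  have hS : ∀ i, i ∈ S ↔ i < 192 ∧ inE i = true := fun i => by simp [S]
  let ψ : S → h.eight := fun i => ⟨f i.1, i.1, ((hS _).1 i.2).1, ((hS _).1 i.2).2, rfl⟩
  have hψ : Function.Bijective ψ := by
    refine ⟨fun a b e => Subtype.ext
      (h.inj _ ((hS _).1 a.2).1 _ ((hS _).1 b.2).1 (congrArg Subtype.val e)), ?_⟩
    rintro ⟨_, i, hi, hiE, rfl⟩
    exact ⟨⟨i, (hS i).2 ⟨hi, hiE⟩⟩, rfl⟩
  rw [← Nat.card_eq_of_bijective ψ hψ, Nat.card_eq_fintype_card, Fintype.card_coe]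
  exact eight_count.1

theorem Emb.eight_mul_self (h : Emb f s) : ∀ n ∈ h.eight, n * n = 1 := by
  rintro _ ⟨i, hi, hiE, rfl⟩
  have := impB_spec (allBelow_spec eight_sq i hi) hiE
  rw [Bool.and_eq_true, beq_spec] at this
  rw [← h.mul i hi i hi, this.1, h.map_zero]

theorem Emb.eight_comm (h : Emb f s) : IsMulCommutative h.eight := by
  refine ⟨⟨?_⟩⟩
  rintro ⟨_, i, hi, hiE, rfl⟩ ⟨_, j, hj, hjE, rfl⟩
  have := impB_spec (allBelow_spec eight_sq i hi) hiE
  rw [Bool.and_eq_true] at this
  exact Subtype.ext ((h.commI_iff hi hj).1 (impB_spec (allBelow_spec this.2 j hj) hjE))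

theorem Emb.centralizer_eight (h : Emb f s) {y : G}
    (hy : ∀ n ∈ h.eight, y * n = n * y) : y ∈ h.eight := by
  obtain ⟨hu, -⟩ := const_facts
  obtain ⟨a, ha, rfl⟩ := h.surj y
    (hy s ⟨uI, hu, eight_facts.2.2.2.1, h.map_u⟩)
  refine ⟨a, ha, impB_spec (allBelow_spec eight_self_centralizing a ha) ?_, rfl⟩
  refine allBelow_intro fun i hi => ?_
  cases hE : inE i
  · rfl
  · exact (h.commI_iff ha hi).2 (hy _ ⟨i, hi, hE, rfl⟩)

/-- When the subgroup of order eight is normal and the centre is fused into it, the order is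
determined. -/
theorem Emb.card_of_normal [Finite G] (h : Emb f s) (hsx : IsConj s (f xI))
    (hN : h.eight.Normal) : Nat.card G = 1344 := by
  classical
  let S := ((Finset.range 192).filter fun i => inE i = true).erase 0
  have hS : ∀ i, i ∈ S ↔ i ≠ 0 ∧ i < 192 ∧ inE i = true := fun i => by simp [S]
  have horb : Nat.card (MulAction.orbit (ConjAct G) s) = 7 := by
    have hmem : ∀ y : G, y ∈ MulAction.orbit (ConjAct G) s ↔ IsConj s y := fun y => by
      rw [ConjAct.mem_orbit_conjAct, isConj_comm]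
    let ψ : S → MulAction.orbit (ConjAct G) s := fun i => ⟨f i.1, by
      obtain ⟨h0, hi, hiE⟩ := (hS _).1 i.2
      simp only [inE, Bool.or_eq_true, beq_spec] at hiE
      rw [hmem]
      rcases hiE with (e | e) | e
      · exact absurd e h0
      · rw [e, h.map_u]
      · exact hsx.trans (h.isConj_of_cls hi const_facts.2.1 e (.inr (.inr rfl)))⟩
    have hψ : Function.Bijective ψ := by
      refine ⟨fun a b e => Subtype.ext
        (h.inj _ ((hS _).1 a.2).2.1 _ ((hS _).1 b.2).2.1 (congrArg Subtype.val e)), ?_⟩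
      rintro ⟨y, hy⟩
      obtain ⟨c, rfl⟩ := isConj_iff.mp ((hmem y).1 hy)
      obtain ⟨i, hi, hiE, hie⟩ := hN.conj_mem s ⟨uI, const_facts.1, eight_facts.2.2.2.1, h.map_u⟩ c
      refine ⟨⟨i, (hS i).2 ⟨fun e => ?_, hi, hiE⟩⟩, Subtype.ext hie⟩
      rw [e, h.map_zero] at hie
      exact (orderOf_two_iff.1 ((orderOf_conj c s).trans h.orderOf_s)).2 hie.symm
    rw [← Nat.card_eq_of_bijective ψ hψ, Nat.card_eq_fintype_card, Fintype.card_coe]
    exact eight_count.2
  have h1 := (MulAction.stabilizer (ConjAct G) s).index_mul_card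
  rw [MulAction.index_stabilizer, ← Nat.card_coe_set_eq, horb,
    ← Subgroup.nat_card_centralizer_nat_card_stabilizer, h.card_centralizer] at h1
  rw [Nat.card_congr (ConjAct.toConjAct (G := G)).toEquiv, ← h1]

theorem Emb.quotient_eight [Finite G] (h : Emb f s) (hsx : IsConj s (f xI))
    (hN : h.eight.Normal) :
    Nonempty (G ⧸ h.eight ≃* Matrix.ProjectiveSpecialLinearGroup (Fin 3) (ZMod 2)) := by
  haveI := hN
  obtain ⟨φ, hφ⟩ := exists_hom_sl32 (W := h.eight)
    (fun w => Subtype.ext (h.eight_mul_self w w.2)) h.card_eight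
  let ψ : G →* CfsgLib.SmallRadical.SL32 := φ.comp MulAut.conjNormal
  have hker : ψ.ker = h.eight := by
    ext y
    rw [MonoidHom.mem_ker, MonoidHom.comp_apply, ← map_one φ, hφ.eq_iff]
    constructor
    · intro hy
      refine h.centralizer_eight fun n hn => ?_
      have := congrArg (fun σ : MulAut h.eight => (σ ⟨n, hn⟩ : G)) hy
      simp only [MulAut.conjNormal_apply, MulAut.one_apply] at this
      exact mul_inv_eq_iff_eq_mul.1 this
    · intro hy
      refine MulEquiv.ext fun n => Subtype.ext ?_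
      rw [MulAut.conjNormal_apply, MulAut.one_apply]
      haveI := h.eight_comm
      refine mul_inv_eq_iff_eq_mul.2 ?_
      exact congrArg Subtype.val (mul_comm' (⟨y, hy⟩ : h.eight) n)
  have hidx : h.eight.index = 168 := by
    have h1 := h.eight.index_mul_card
    rw [h.card_eight, h.card_of_normal hsx hN] at h1
    omega
  have hsurj : Function.Surjective ψ := by
    rw [← MonoidHom.range_eq_top]
    apply Subgroup.eq_top_of_card_eq
    rw [CfsgLib.SmallRadical.card_sl32, ← Subgroup.index_ker, hker, hidx]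
  obtain ⟨e⟩ := sl32_equiv_psl
  exact ⟨((QuotientGroup.quotientMulEquivOfEq hker.symm).trans
    (QuotientGroup.quotientKerEquivOfSurjective ψ hsurj)).trans e⟩

/-- The Mathieu group of degree 12, or the split or nonsplit extension of `2³` by `L₃(2)`. -/
theorem Emb.isoM12_or_normal_eight [Finite G] (h : Emb f s)
    (hw : ∃ i ∈ qList, i < 192 ∧ IsConj s (f i) ∧ f i ≠ s) :
    Cfsg.Spor.IsoM12 G ∨
      ∃ (N : Subgroup G) (hN : N.Normal), IsMulCommutative N ∧ (∀ n ∈ N, n ^ 2 = 1) ∧
        Nat.card N = 8 ∧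
        Nonempty (G ⧸ N ≃* Matrix.ProjectiveSpecialLinearGroup (Fin 3) (ZMod 2)) := by
  have hsx := h.isConj_x_of_witness hw
  rcases h.isoM12_or_eightGlue hsx fun f' g hf' hg hc htr => hg.false_of_48 hf' hc htr with
    hM | ⟨g, F, hE⟩
  · exact .inl hM
  · have hN := hE.normal h
    exact .inr ⟨h.eight, hN, h.eight_comm, fun n hn => by rw [pow_two, h.eight_mul_self n hn],
      h.card_eight, h.quotient_eight hsx hN⟩

end CfsgLib.M12Type
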