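import Cfsg.Agent.M12Type.Glue8
import Cfsg.Agent.M12Type.NoSimple
import Cfsg.Agent.ZStar.Theorem

/-!
The A8-type centraliser with three classes of involutions: the elementary abelian subgroup of order
eight is normal, with quotient `L₃(2)`.
-/

set_option autoImplicit false
set_option maxRecDepth 100000

namespace CfsgLib.M12Type.Eight

open CfsgLib.CosetEnum (allBelow)
open CfsgLib.StronglyEmbedded (orderOf_two_iff orderOf_conj)

/-- the elementary abelian subgroup of order eight through `bI8`, as indices -/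
def inE8 (i : ℕ) : Bool := Nat.beq i 0 || Nat.beq i uI8 || Nat.beq (cls8 i) 4

theorem maps1_facts : (maps1.all fun F => Nat.beq (look8 F bI8) uI8 && Nat.beq (look8 F uI8) bI8 &&
    allBelow (fun i => impB (inPb8 i) (Nat.blt (look8 F i) 192 &&
      impB (inE8 i) (inE8 (look8 F i)) &&
      impB (Nat.beq (cls8 i) 8) (Nat.beq (cls8 (look8 F i)) 9) &&
      impB (Nat.beq (cls8 i) 7) (Nat.beq (cls8 (look8 F i)) 10))) 192 &&
    anyBelow (fun i => inPb8 i && Nat.beq (cls8 i) 8) 192 &&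
    anyBelow (fun i => inPb8 i && Nat.beq (cls8 i) 7) 192) = true := by
  decide +kernel

theorem eight8_closed : allBelow (fun i => impB (inE8 i) (inPb8 i && Nat.beq (mul8 i i) 0 &&
    inE8 (inv8 i) && allBelow (fun j => impB (inE8 j) (inE8 (mul8 i j) && com8 i j)) 192 &&
    allBelow (fun l => inE8 (cj8 l i)) 192)) 192 = true := by
  decide +kernel

theorem eight8_self_centralizing :
    allBelow (fun a => impB (allBelow (fun i => impB (inE8 i) (com8 a i)) 192) (inE8 a)) 192 = true := by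
  decide +kernel

theorem cent_invol_exp : allBelow (fun i => impB (isInv8 i && !(Nat.beq i uI8))
    (allBelow (fun a => impB (com8 a i) (Nat.beq (mul8 (mul8 a a) (mul8 a a)) 0)) 192)) 192 = true := by
  decide +kernel

theorem eight8_consts : inE8 0 = true ∧ inE8 uI8 = true ∧ inPb8 uI8 = true ∧ inPb8 bI8 = true ∧
    mul8 uI8 bI8 < 192 ∧ cls8 (mul8 uI8 bI8) = 4 ∧
    com8 aI8 bI8 = true ∧ com8 cI8 bI8 = true ∧
    allBelow (fun l => Nat.beq (cls8 (cj8 l aI8)) 8 && Nat.beq (cls8 (cj8 l cI8)) 7) 192 = true ∧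
    ((Finset.range 192).filter fun i => inE8 i = true).card = 8 ∧
    (((Finset.range 192).filter fun i => inE8 i = true).erase 0).card = 7 := by
  decide +kernel

theorem inE8_cases {i : ℕ} (h : inE8 i = true) : i = 0 ∨ i = uI8 ∨ cls8 i = 4 := by
  simpa [inE8, beq_spec, or_assoc] using h

theorem inE8_spec {i : ℕ} (hi : i < 192) (h : inE8 i = true) :
    inPb8 i = true ∧ mul8 i i = 0 ∧ inE8 (inv8 i) = true ∧
      (∀ j < 192, inE8 j = true → inE8 (mul8 i j) = true ∧ com8 i j = true) ∧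
      ∀ l < 192, inE8 (cj8 l i) = true := by
  have := impB_spec (allBelow_spec eight8_closed i hi) h
  simp only [Bool.and_eq_true, beq_spec] at this
  refine ⟨this.1.1.1.1, this.1.1.1.2, this.1.1.2, fun j hj hjE => ?_, allBelow_spec this.2⟩
  have h' := impB_spec (allBelow_spec this.1.2 j hj) hjE
  rw [Bool.and_eq_true] at h'
  exact h'

universe u

variable {G : Type u} [Group G] {f : ℕ → G} {s g : G} {F : ℕ}

theorem Glue8.spec (hg : Glue8 f g F) : look8 F bI8 = uI8 ∧ look8 F uI8 = bI8 ∧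
    (∀ i < 192, inPb8 i = true → look8 F i < 192 ∧
      (inE8 i = true → inE8 (look8 F i) = true) ∧ (cls8 i = 8 → cls8 (look8 F i) = 9) ∧
      (cls8 i = 7 → cls8 (look8 F i) = 10)) ∧
    (∃ i < 192, inPb8 i = true ∧ cls8 i = 8) ∧ ∃ i < 192, inPb8 i = true ∧ cls8 i = 7 := by
  have h := List.all_eq_true.1 maps1_facts F hg.mem
  simp only [Bool.and_eq_true, beq_spec] at h
  obtain ⟨⟨⟨⟨h1, h2⟩, h3⟩, h4⟩, h5⟩ := h
  refine ⟨h1, h2, fun i hi hP => ?_, ?_, ?_⟩
  · have := impB_spec (allBelow_spec h3 i hi) hP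
    simp only [Bool.and_eq_true, blt_spec] at this
    obtain ⟨⟨⟨a1, a2⟩, a3⟩, a4⟩ := this
    exact ⟨a1, fun e => impB_spec a2 e, fun e => beq_spec.1 (impB_spec a3 (beq_spec.2 e)),
      fun e => beq_spec.1 (impB_spec a4 (beq_spec.2 e))⟩
  · obtain ⟨i, hi, e⟩ := anyBelow_spec h4
    rw [Bool.and_eq_true, beq_spec] at e
    exact ⟨i, hi, e⟩
  · obtain ⟨i, hi, e⟩ := anyBelow_spec h5
    rw [Bool.and_eq_true, beq_spec] at e
    exact ⟨i, hi, e⟩

theorem Glue8.conj_s (h : Emb8 f s) (hg : Glue8 f g F) :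
    g * s * g⁻¹ = f bI8 ∧ g * f bI8 * g⁻¹ = s := by
  obtain ⟨h1, h2, -⟩ := hg.spec
  exact ⟨by rw [← h.map_u, hg.conj _ const8_lt.1 eight8_consts.2.2.1, h2],
    by rw [hg.conj _ const8_lt.2.2.1 eight8_consts.2.2.2.1, h1, h.map_u]⟩

/-- The classes of `aI8` and `o2I8` are fused, as are those of `cI8` and `o3I8`. -/
theorem Glue8.isConj_outer (h : Emb8 f s) (hg : Glue8 f g F) :
    IsConj (f aI8) (f o2I8) ∧ IsConj (f cI8) (f o3I8) := by
  obtain ⟨-, -, h3, ⟨i, hi, hiP, hic⟩, ⟨j, hj, hjP, hjc⟩⟩ := hg.spec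
  refine ⟨?_, ?_⟩
  · exact (h.isConj_of_cls hi (.inl rfl) hic).trans ((isConj_iff.mpr ⟨g, hg.conj i hi hiP⟩).trans
      (h.isConj_of_cls (h3 i hi hiP).1 (.inr (.inr (.inr (.inl rfl))))
        ((h3 i hi hiP).2.2.1 hic)).symm)
  · exact (h.isConj_of_cls hj (.inr (.inr (.inl rfl))) hjc).trans
      ((isConj_iff.mpr ⟨g, hg.conj j hj hjP⟩).trans
      (h.isConj_of_cls (h3 j hj hjP).1 (.inr (.inr (.inr (.inr rfl))))
        ((h3 j hj hjP).2.2.2 hjc)).symm)

/-- Only the subgroup of order eight contains conjugates of `s`. -/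
theorem Glue8.conj_class (h : Emb8 f s) (hg : Glue8 f g F) (hna : ¬ IsConj s (f aI8))
    (hnc : ¬ IsConj s (f cI8)) {i : ℕ} (hi : i < 192) (hv : isInv8 i = true)
    (hc : IsConj s (f i)) : i = uI8 ∨ cls8 i = 4 := by
  rcases inv8_classes hi hv with e | ⟨c, r, hr, hic, -⟩
  · exact .inl e
  · obtain ⟨hA, hC⟩ := hg.isConj_outer h
    have hri := h.isConj_of_cls hi hr hic
    rcases hr with e | e | e | e | e <;> obtain ⟨rfl, rfl⟩ := Prod.mk.injEq .. ▸ e
    · exact absurd (hc.trans hri.symm) hna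
    · exact .inr hic
    · exact absurd (hc.trans hri.symm) hnc
    · exact absurd (hc.trans (hA.trans hri).symm) hna
    · exact absurd (hc.trans (hC.trans hri).symm) hnc

/-- An element moving one of `aI8`, `cI8` to one of them, and `s` to an involution commuting with
`s`, fixes `s`. -/
theorem Glue8.centralizes (h : Emb8 f s) (hg : Glue8 f g F) (hna : ¬ IsConj s (f aI8))
    (hnc : ¬ IsConj s (f cI8)) {r r' : ℕ} (hr : r = aI8 ∨ r = cI8) (hr' : r' = aI8 ∨ r' = cI8)
    {x : G} (hx : x * f r * x⁻¹ = f r')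
    (hc : x * s * x⁻¹ * s = s * (x * s * x⁻¹)) : x * s = s * x ∧ r = r' := by
  obtain ⟨hu, ha, hb, hcI, -⟩ := const8_lt
  have hr192 : r < 192 := by rcases hr with rfl | rfl <;> assumption
  have hr'192 : r' < 192 := by rcases hr' with rfl | rfl <;> assumption
  have hclsr : ∀ (r : ℕ), r = aI8 ∨ r = cI8 → ∀ l < 192,
      cls8 (cj8 l r) = if r = aI8 then 8 else 7 := by
    intro r hr l hl
    have := allBelow_spec eight8_consts.2.2.2.2.2.2.2.2.1 l hl
    rw [Bool.and_eq_true, beq_spec, beq_spec] at this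
    rcases hr with rfl | rfl
    · rw [if_pos rfl]; exact this.1
    · rw [if_neg (by decide)]; exact this.2
  obtain ⟨i, hi, hiv, hie⟩ := h.exists_invol (y := x * s * x⁻¹)
    (by rw [orderOf_conj, h.orderOf_s]) hc
  rcases hg.conj_class h hna hnc hi hiv (isConj_iff.mpr ⟨x, hie.symm⟩) with e | e
  · rw [e, h.map_u] at hie
    have hxs : x * s = s * x := mul_inv_eq_iff_eq_mul.1 hie.symm
    refine ⟨hxs, ?_⟩
    obtain ⟨l, hl, rfl⟩ := h.surj x hxs
    rw [← h.map_cj hl hr192] at hx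
    have e1 := hclsr r hr l hl
    rw [h.inj _ (cj8_lt hl hr192) _ hr'192 hx] at e1
    rcases hr with rfl | rfl <;> rcases hr' with rfl | rfl <;> first
      | rfl
      | (exfalso; revert e1; decide +kernel)
  · exfalso
    obtain ⟨l, hl, hle⟩ := cls8_conj hi (.inr (.inl rfl)) e
    rw [← hle, h.map_cj hl hb] at hie
    obtain ⟨hgs, hgb⟩ := hg.conj_s h
    obtain ⟨m, hm, hme⟩ := h.surj (g⁻¹ * (f l)⁻¹ * x) (mul_inv_eq_iff_eq_mul.1 (by
      calc g⁻¹ * (f l)⁻¹ * x * s * (g⁻¹ * (f l)⁻¹ * x)⁻¹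
          = g⁻¹ * ((f l)⁻¹ * (x * s * x⁻¹) * f l) * g := by group
        _ = g⁻¹ * f bI8 * g := by rw [← hie]; group
        _ = s := by rw [← hgs]; group))
    have hp := cj8_lt hm hr192
    have hq := cj8_lt (inv8_lt hl) hr'192
    have hpq : g * f (cj8 m r) * g⁻¹ = f (cj8 (inv8 l) r') := by
      rw [h.map_cj hm hr192, h.map_cj (inv8_lt hl) hr'192, h.map_inv hl, ← hx, hme]
      group
    have hP : inPb8 (cj8 m r) = true := by
      refine (inPb8_iff hp).2 ((h.com_iff hp hb).2 ?_)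
      have hcs := h.comm_s hq
      rw [← hpq, ← hgb] at hcs
      calc f (cj8 m r) * f bI8
          = g⁻¹ * (g * f (cj8 m r) * g⁻¹ * (g * f bI8 * g⁻¹)) * g := by group
        _ = g⁻¹ * (g * f bI8 * g⁻¹ * (g * f (cj8 m r) * g⁻¹)) * g := by rw [hcs]
        _ = _ := by group
    obtain ⟨-, -, h3, -⟩ := hg.spec
    obtain ⟨hlt, -, h9, h10⟩ := h3 _ hp hP
    rw [hg.conj _ hp hP] at hpq
    have heq := h.inj _ hlt _ hq hpq
    have e1 := hclsr r hr m hm
    have e2 := hclsr r' hr' _ (inv8_lt hl)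
    rw [← heq] at e2
    by_cases hra : r = aI8
    · rw [if_pos hra] at e1
      rw [h9 e1] at e2
      split at e2 <;> omega
    · rw [if_neg hra] at e1
      rw [h10 e1] at e2
      split at e2 <;> omega

section Centraliser

variable [Finite G]

/-- The centralisers of `aI8` and `cI8` centralise `s`. -/
theorem Glue8.centralizer_le (h : Emb8 f s) (hg : Glue8 f g F) (hna : ¬ IsConj s (f aI8))
    (hnc : ¬ IsConj s (f cI8)) {r : ℕ} (hr : r = aI8 ∨ r = cI8) :
    Subgroup.centralizer ({f r} : Set G) ≤ Subgroup.centralizer ({s} : Set G) := by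
  obtain ⟨hu, ha, hb, hcI, -⟩ := const8_lt
  obtain ⟨-, -, -, -, hub, hubc, hab, hcb, -⟩ := eight8_consts
  have hr192 : r < 192 := by rcases hr with rfl | rfl <;> assumption
  have hrv : isInv8 r = true := by
    rcases hr with rfl | rfl
    exacts [const8_inv.2.1, const8_inv.2.2.2.1]
  have hrs : ¬ IsConj s (f r) := by rcases hr with rfl | rfl <;> assumption
  obtain ⟨hgs, hgb⟩ := hg.conj_s h
  set C := Subgroup.centralizer ({f r} : Set G) with hC
  have huC : s ∈ C := Subgroup.mem_centralizer_singleton_iff.mpr (h.comm_s hr192).symm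
  have hbr : f bI8 * f r = f r * f bI8 := by
    rcases hr with rfl | rfl
    · exact ((h.com_iff ha hb).1 hab).symm
    · exact ((h.com_iff hcI hb).1 hcb).symm
  have hbC : f bI8 ∈ C := Subgroup.mem_centralizer_singleton_iff.mpr hbr
  let sc : C := ⟨s, huC⟩
  let bc : C := ⟨f bI8, hbC⟩
  have hsc : orderOf sc = 2 := by rw [← Subgroup.orderOf_coe]; exact h.orderOf_s
  have hiso : Cfsg.IsIsolated sc := by
    intro c hcomm
    have hcG : Commute s ((c : G) * s * (c : G)⁻¹) := congrArg Subtype.val hcomm.eq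
    have hcr : (c : G) * f r * (c : G)⁻¹ = f r :=
      mul_inv_eq_iff_eq_mul.2 (Subgroup.mem_centralizer_singleton_iff.mp c.2)
    apply Subtype.ext
    show (c : G) * s * (c : G)⁻¹ = s
    exact mul_inv_eq_iff_eq_mul.2 (hg.centralizes h hna hnc hr hr hcr hcG.eq.symm).1
  have hZ := CfsgLib.ZStar.inZStar_of_isolated hsc hiso
  haveI : Fact (Nat.Prime 2) := ⟨Nat.prime_two⟩
  set O := Cfsg.pPrimeCore 2 C with hO
  have hodd : ∀ c ∈ O, ∀ v : C, IsConj s (v : G) → c * v = v * c → c = 1 := by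
    intro c hc v hv hcv'
    obtain ⟨n, hne⟩ := isConj_iff.mp hv
    have hcv : (c : G) * v = v * c := congrArg Subtype.val hcv'
    have hrv' : f r * v = (v : G) * f r := (Subgroup.mem_centralizer_singleton_iff.mp v.2).symm
    obtain ⟨a, ha', hae⟩ := h.surj (n⁻¹ * c * n) (by
      rw [← hne] at hcv
      calc n⁻¹ * c * n * s = n⁻¹ * (c * (n * s * n⁻¹)) * n := by group
        _ = n⁻¹ * (n * s * n⁻¹ * c) * n := by rw [hcv]
        _ = _ := by group)
    obtain ⟨w, hw, hwv, hwe⟩ := h.exists_invol (y := n⁻¹ * f r * n)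
      (by simpa using (orderOf_conj n⁻¹ (f r)).trans (h.orderOf_invol hr192 hrv)) (by
        rw [← hne] at hrv'
        calc n⁻¹ * f r * n * s = n⁻¹ * (f r * (n * s * n⁻¹)) * n := by group
          _ = n⁻¹ * (n * s * n⁻¹ * f r) * n := by rw [hrv']
          _ = _ := by group)
    have hwu : w ≠ uI8 := fun e => by
      refine hrs (isConj_iff.mpr ⟨n, ?_⟩)
      rw [← h.map_u, ← e, hwe]; group
    have haw : com8 a w = true := (h.com_iff ha' hw).2 (by
      rw [hae, hwe]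
      calc n⁻¹ * c * n * (n⁻¹ * f r * n) = n⁻¹ * ((c : G) * f r) * n := by group
        _ = n⁻¹ * (f r * (c : G)) * n := by
          rw [Subgroup.mem_centralizer_singleton_iff.mp c.2]
        _ = _ := by group)
    have h4 := impB_spec (allBelow_spec (impB_spec (allBelow_spec cent_invol_exp w hw)
      (by rw [Bool.and_eq_true, Bool.not_eq_true', beq_false_spec]; exact ⟨hwv, hwu⟩)) a ha') haw
    have h4' := congrArg f (beq_spec.1 h4)
    rw [h.mul _ (mul8_lt ha' ha') _ (mul8_lt ha' ha'), h.mul _ ha' _ ha', h.map_zero, hae] at h4'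
    have hc4 : c ^ 4 = 1 := Subtype.ext (by
      rw [Subgroup.coe_pow, Subgroup.coe_one]
      calc (c : G) ^ 4 = n * (n⁻¹ * c * n * (n⁻¹ * c * n) * (n⁻¹ * c * n * (n⁻¹ * c * n))) * n⁻¹ := by
            simp only [pow_succ, pow_zero, one_mul]; group
        _ = 1 := by rw [h4', mul_one, mul_inv_cancel])
    have hd : orderOf c ∣ 2 ^ 2 := orderOf_dvd_of_pow_eq_one hc4
    obtain ⟨k, -, hk⟩ := (Nat.dvd_prime_pow Nat.prime_two).1 hd
    rcases k.eq_zero_or_pos with rfl | hk0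
    · exact orderOf_eq_one_iff.1 (by simpa using hk)
    · exfalso
      have h2 : 2 ∣ orderOf c := hk ▸ dvd_pow_self 2 hk0.ne'
      exact CfsgLib.Constrained.pPrimeCore_not_dvd (p := 2)
        (h2.trans (Subgroup.orderOf_dvd_natCard _ hc))
  have hinvol : ∀ v : C, v * v = 1 → IsConj s (v : G) → ∀ c ∈ O, v * c * v⁻¹ = c⁻¹ := by
    intro v hv hvs c hc
    have hmemO : ∀ d ∈ O, d⁻¹ * (v * d * v⁻¹) ∈ O := fun d hd =>
      mul_mem (inv_mem hd) ((inferInstance : O.Normal).conj_mem d hd v)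
    have hinj : Function.Injective (fun d : O => (⟨(d : C)⁻¹ * (v * d * v⁻¹), hmemO d d.2⟩ : O)) := by
      intro a b e
      have e' : (a : C)⁻¹ * (v * a * v⁻¹) = (b : C)⁻¹ * (v * b * v⁻¹) := congrArg Subtype.val e
      refine Subtype.ext (mul_inv_eq_one.1 (hodd _ (mul_mem b.2 (inv_mem a.2)) v hvs ?_)).symm
      calc (b : C) * (a : C)⁻¹ * v = (b : C) * ((a : C)⁻¹ * (v * a * v⁻¹)) * v * (a : C)⁻¹ := by
            group
        _ = (b : C) * ((b : C)⁻¹ * (v * b * v⁻¹)) * v * (a : C)⁻¹ := by rw [e']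
        _ = v * ((b : C) * (a : C)⁻¹) := by group
    obtain ⟨d, hd⟩ := (Finite.injective_iff_surjective.1 hinj) ⟨c, hc⟩
    have hdc : (d : C)⁻¹ * (v * d * v⁻¹) = c := congrArg Subtype.val hd
    have hvi : v⁻¹ = v := inv_eq_of_mul_eq_one_right hv
    rw [← hdc, hvi]
    calc v * ((d : C)⁻¹ * (v * d * v)) * v = v * (d : C)⁻¹ * v * d * (v * v) := by group
      _ = ((d : C)⁻¹ * (v * d * v))⁻¹ := by
        rw [hv, mul_one, mul_inv_rev, mul_inv_rev, mul_inv_rev, inv_inv, hvi]; group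
  let sbc : C := sc * bc
  have hsbG : (sbc : G) = f (mul8 uI8 bI8) := by
    show s * f bI8 = _
    rw [h.mul _ hu _ hb, h.map_u]
  have hsb : IsConj s (sbc : G) := by
    rw [hsbG]
    exact (isConj_iff.mpr ⟨g, hgs⟩).trans (h.isConj_of_cls hub (.inr (.inl rfl)) hubc)
  have hO1 : ∀ c ∈ O, c = 1 := by
    intro c hc
    have i1 := hinvol sc (Subtype.ext (orderOf_two_iff.1 h.orderOf_s).1) (IsConj.refl s) c hc
    have i2 := hinvol bc (Subtype.ext (orderOf_two_iff.1 (h.orderOf_invol hb const8_inv.2.2.1)).1)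
      (isConj_iff.mpr ⟨g, hgs⟩) c hc
    refine hodd c hc sbc hsb (mul_inv_eq_iff_eq_mul.1 ?_).symm
    calc sbc * c * sbc⁻¹ = sc * (bc * c * bc⁻¹) * sc⁻¹ := by
          show sc * bc * c * (sc * bc)⁻¹ = _
          group
      _ = (sc * c * sc⁻¹)⁻¹ := by rw [i2]; group
      _ = c := by rw [i1, inv_inv]
  intro y hy
  refine Subgroup.mem_centralizer_singleton_iff.mpr ?_
  have := congrArg Subtype.val (hO1 _ (hZ ⟨y, hy⟩))
  simp only [Subgroup.coe_mul, Subgroup.coe_inv, Subgroup.coe_one, sc] at this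
  exact mul_inv_eq_iff_eq_mul.1 (mul_inv_eq_one.1 this)

end Centraliser

/-- The subgroup of order eight through `bI8`. -/
def Emb8.eight (h : Emb8 f s) : Subgroup G where
  carrier := {y | ∃ i < 192, inE8 i = true ∧ f i = y}
  one_mem' := ⟨0, by norm_num, eight8_consts.1, h.map_zero⟩
  mul_mem' := fun {a b} ⟨i, hi, h1, e1⟩ ⟨j, hj, h2, e2⟩ =>
    ⟨mul8 i j, mul8_lt hi hj, ((inE8_spec hi h1).2.2.2.1 j hj h2).1,
      by rw [h.mul i hi j hj, e1, e2]⟩
  inv_mem' := fun {a} ⟨i, hi, h1, e1⟩ =>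
    ⟨inv8 i, inv8_lt hi, (inE8_spec hi h1).2.2.1, by rw [h.map_inv hi, e1]⟩

theorem Emb8.card_eight (h : Emb8 f s) : Nat.card h.eight = 8 := by
  classical
  let S := (Finset.range 192).filter fun i => inE8 i = true
  have hS : ∀ i, i ∈ S ↔ i < 192 ∧ inE8 i = true := fun i => by simp [S]
  let ψ : S → h.eight := fun i => ⟨f i.1, i.1, ((hS _).1 i.2).1, ((hS _).1 i.2).2, rfl⟩
  have hψ : Function.Bijective ψ := by
    refine ⟨fun a b e => Subtype.ext
      (h.inj _ ((hS _).1 a.2).1 _ ((hS _).1 b.2).1 (congrArg Subtype.val e)), ?_⟩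
    rintro ⟨_, i, hi, hiE, rfl⟩
    exact ⟨⟨i, (hS i).2 ⟨hi, hiE⟩⟩, rfl⟩
  rw [← Nat.card_eq_of_bijective ψ hψ, Nat.card_eq_fintype_card, Fintype.card_coe]
  exact eight8_consts.2.2.2.2.2.2.2.2.2.1

theorem Emb8.eight_mul_self (h : Emb8 f s) : ∀ n ∈ h.eight, n * n = 1 := by
  rintro _ ⟨i, hi, hiE, rfl⟩
  rw [← h.mul i hi i hi, (inE8_spec hi hiE).2.1, h.map_zero]

theorem Emb8.eight_comm (h : Emb8 f s) : IsMulCommutative h.eight := by
  refine ⟨⟨?_⟩⟩
  rintro ⟨_, i, hi, hiE, rfl⟩ ⟨_, j, hj, hjE, rfl⟩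
  exact Subtype.ext ((h.com_iff hi hj).1 ((inE8_spec hi hiE).2.2.2.1 j hj hjE).2)

theorem Emb8.centralizer_eight (h : Emb8 f s) {y : G}
    (hy : ∀ n ∈ h.eight, y * n = n * y) : y ∈ h.eight := by
  obtain ⟨a, ha, rfl⟩ := h.surj y (hy s ⟨uI8, const8_lt.1, eight8_consts.2.1, h.map_u⟩)
  refine ⟨a, ha, impB_spec (allBelow_spec eight8_self_centralizing a ha) ?_, rfl⟩
  refine CfsgLib.M12Type.allBelow_intro fun i hi => ?_
  cases hE : inE8 i
  · rfl
  · exact (h.com_iff ha hi).2 (hy _ ⟨i, hi, hE, rfl⟩)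

variable [Finite G]

/-- With three classes of involutions the subgroup of order eight is normal. -/
theorem Glue8.normal_eight (h : Emb8 f s) (hg : Glue8 f g F) (hna : ¬ IsConj s (f aI8))
    (hnc : ¬ IsConj s (f cI8)) : h.eight.Normal := by
  obtain ⟨hu, ha, hb, hcI, ho2, ho3, -⟩ := const8_lt
  obtain ⟨hgs, -⟩ := hg.conj_s h
  obtain ⟨-, -, h3, ⟨p8, hp8, hp8P, hp8c⟩, ⟨p7, hp7, hp7P, hp7c⟩⟩ := hg.spec
  set N := Subgroup.normalizer (h.eight : Set G) with hN
  have hnorm : ∀ n : G, (∀ y ∈ h.eight, n * y * n⁻¹ ∈ h.eight) → n ∈ N := by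
    intro n hn
    rw [hN, Subgroup.mem_normalizer_iff]
    intro y
    refine ⟨hn y, fun hy => ?_⟩
    have hinj : Function.Injective (fun e : h.eight => (⟨n * e * n⁻¹, hn e e.2⟩ : h.eight)) :=
      fun a b e => Subtype.ext (by simpa using congrArg Subtype.val e)
    obtain ⟨e, he⟩ := (Finite.injective_iff_surjective.1 hinj) ⟨_, hy⟩
    have := congrArg Subtype.val he
    simp only [mul_left_inj, mul_right_inj] at this
    exact this ▸ e.2
  have hLN : Subgroup.centralizer ({s} : Set G) ≤ N := by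
    intro y hy
    obtain ⟨l, hl, rfl⟩ := h.surj y (Subgroup.mem_centralizer_singleton_iff.mp hy)
    refine hnorm _ ?_
    rintro _ ⟨i, hi, hiE, rfl⟩
    exact ⟨cj8 l i, cj8_lt hl hi, (inE8_spec hi hiE).2.2.2.2 l hl, h.map_cj hl hi⟩
  have hfN : ∀ {i}, i < 192 → f i ∈ N := fun hi =>
    hLN (Subgroup.mem_centralizer_singleton_iff.mpr (h.comm_s hi))
  have hgN : g ∈ N := by
    refine hnorm _ ?_
    rintro _ ⟨i, hi, hiE, rfl⟩
    obtain ⟨a1, a2, -, -⟩ := h3 i hi (inE8_spec hi hiE).1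
    exact ⟨look8 F i, a1, a2 hiE, (hg.conj i hi (inE8_spec hi hiE).1).symm⟩
  -- conjugation inside `N` reaches every involution of the centraliser
  have hcl : ∀ {i c r : ℕ}, i < 192 → IsRep8 c r → cls8 i = c →
      ∃ n ∈ N, n * f r * n⁻¹ = f i := fun hi hr hc => by
    obtain ⟨l, hl, rfl⟩ := cls8_conj hi hr hc
    refine ⟨f l, hfN hl, (h.map_cj hl ?_).symm⟩
    rcases hr with e | e | e | e | e <;> obtain ⟨rfl, rfl⟩ := Prod.mk.injEq .. ▸ e <;> assumption
  let R : G → Prop := fun y => y = s ∨ y = f aI8 ∨ y = f cI8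
  have hvia : ∀ {i p c r : ℕ}, i < 192 → p < 192 → inPb8 p = true → IsRep8 c r → cls8 i = c →
      cls8 (look8 F p) = c → ∀ {c' r' : ℕ}, IsRep8 c' r' → cls8 p = c' →
      ∃ n ∈ N, n * f r' * n⁻¹ = f i := by
    intro i p c r hi hp hpP hr hic hqc c' r' hr' hpc
    obtain ⟨n1, hn1, e1⟩ := hcl hp hr' hpc
    obtain ⟨n2, hn2, e2⟩ := hcl (h3 p hp hpP).1 hr hqc
    obtain ⟨n3, hn3, e3⟩ := hcl hi hr hic
    refine ⟨n3 * n2⁻¹ * g * n1, mul_mem (mul_mem (mul_mem hn3 (inv_mem hn2)) hgN) hn1, ?_⟩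
    calc n3 * n2⁻¹ * g * n1 * f r' * (n3 * n2⁻¹ * g * n1)⁻¹
        = n3 * (n2⁻¹ * (g * (n1 * f r' * n1⁻¹) * g⁻¹) * n2) * n3⁻¹ := by group
      _ = f i := by rw [e1, hg.conj p hp hpP, ← e2, ← e3]; group
  have hcls : ∀ i < 192, isInv8 i = true → ∃ a, R a ∧ ∃ n ∈ N, n * a * n⁻¹ = f i := by
    intro i hi hv
    rcases inv8_classes hi hv with e | ⟨c, r, hr, hic, -⟩
    · exact ⟨s, .inl rfl, 1, one_mem _, by rw [e, h.map_u, one_mul, inv_one, mul_one]⟩
    · rcases hr with e | e | e | e | e <;> obtain ⟨rfl, rfl⟩ := Prod.mk.injEq .. ▸ e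
      · exact ⟨_, .inr (.inl rfl), hcl hi (.inl rfl) hic⟩
      · obtain ⟨n, hn, hne⟩ := hcl hi (.inr (.inl rfl)) hic
        refine ⟨s, .inl rfl, n * g, mul_mem hn hgN, ?_⟩
        calc n * g * s * (n * g)⁻¹ = n * (g * s * g⁻¹) * n⁻¹ := by group
          _ = f i := by rw [hgs, hne]
      · exact ⟨_, .inr (.inr rfl), hcl hi (.inr (.inr (.inl rfl))) hic⟩
      · exact ⟨_, .inr (.inl rfl), hvia hi hp8 hp8P (.inr (.inr (.inr (.inl rfl)))) hic
          ((h3 _ hp8 hp8P).2.2.1 hp8c) (.inl rfl) hp8c⟩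
      · exact ⟨_, .inr (.inr rfl), hvia hi hp7 hp7P (.inr (.inr (.inr (.inr rfl)))) hic
          ((h3 _ hp7 hp7P).2.2.2 hp7c) (.inr (.inr (.inl rfl))) hp7c⟩
  by_contra hne'
  have hne : N ≠ ⊤ := fun e => hne' (Subgroup.normalizer_eq_top_iff.1 e)
  haveI : Fact (Nat.Prime 2) := ⟨Nat.prime_two⟩
  obtain ⟨T, hT⟩ := h.exists_sylow_eq
  have hTN : (T : Subgroup G) ≤ N := by
    rw [hT]
    rintro y ⟨i, hi, -, rfl⟩
    exact hfN hi
  have hrep : ∀ y ∈ N, orderOf y = 2 → ∃ a, R a ∧ ∃ n ∈ N, n * a * n⁻¹ = y := by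
    intro y hy hy2
    have hp : IsPGroup 2 (Subgroup.zpowers (⟨y, hy⟩ : N)) :=
      IsPGroup.of_card (n := 1) (by rw [Nat.card_zpowers, ← Subgroup.orderOf_coe, hy2, pow_one])
    obtain ⟨U, hU⟩ := hp.exists_le_sylow
    obtain ⟨c, hc⟩ := MulAction.exists_smul_eq N U (T.subtype hTN)
    have hm : c * ⟨y, hy⟩ * c⁻¹ ∈ ((T.subtype hTN : Sylow 2 N) : Subgroup N) := by
      rw [← hc]
      exact Subgroup.mem_map.mpr ⟨⟨y, hy⟩, hU (Subgroup.mem_zpowers _), rfl⟩
    rw [Sylow.coe_subtype, Subgroup.mem_subgroupOf, hT] at hm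
    obtain ⟨i, hi, -, hie⟩ := hm
    have hi2 : orderOf (f i) = 2 := by
      rw [hie]; simpa using (orderOf_conj (c : G) y).trans hy2
    obtain ⟨j, hj, hjv, hje⟩ := h.exists_invol hi2 (h.comm_s hi)
    rw [h.inj j hj i hi hje] at hjv
    obtain ⟨a, hRa, n, hn, hn'⟩ := hcls i hi hjv
    refine ⟨a, hRa, (c : G)⁻¹ * n, mul_mem (inv_mem c.2) hn, ?_⟩
    calc (c : G)⁻¹ * n * a * ((c : G)⁻¹ * n)⁻¹ = (c : G)⁻¹ * (n * a * n⁻¹) * (c : G) := by group
      _ = y := by
        rw [hn', hie]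
        simp only [Subgroup.coe_mul, Subgroup.coe_inv]
        group
  have hCR : ∀ a, R a → Subgroup.centralizer ({a} : Set G) ≤ N := by
    rintro a (rfl | rfl | rfl)
    · exact hLN
    · exact (hg.centralizer_le h hna hnc (.inl rfl)).trans hLN
    · exact (hg.centralizer_le h hna hnc (.inr rfl)).trans hLN
  have hac : ¬ IsConj (f aI8) (f cI8) := by
    intro e
    obtain ⟨x, hx⟩ := isConj_iff.mp e
    have h1 : x * s * x⁻¹ ∈ Subgroup.centralizer ({f cI8} : Set G) := by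
      rw [Subgroup.mem_centralizer_singleton_iff, ← hx]
      calc x * s * x⁻¹ * (x * f aI8 * x⁻¹) = x * (s * f aI8) * x⁻¹ := by group
        _ = x * (f aI8 * s) * x⁻¹ := by rw [h.comm_s ha]
        _ = _ := by group
    have h2 := Subgroup.mem_centralizer_singleton_iff.mp
      (hg.centralizer_le h hna hnc (.inr rfl) h1)
    exact absurd (hg.centralizes h hna hnc (.inl rfl) (.inr rfl) hx h2).2 (by decide)
  have heq : ∀ a b, R a → R b → IsConj a b → a = b := by
    rintro a b (rfl | rfl | rfl) (rfl | rfl | rfl) hab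
    exacts [rfl, absurd hab hna, absurd hab hnc, absurd hab.symm hna, rfl, absurd hab hac,
      absurd hab.symm hnc, absurd hab.symm hac, rfl]
  have heven : Even (Nat.card N) := even_iff_two_dvd.mpr (by
    have := orderOf_dvd_natCard (⟨f uI8, hfN hu⟩ : N)
    rwa [← Subgroup.orderOf_coe, h.orderOf_invol hu const8_inv.1] at this)
  have hse : Cfsg.IsStronglyEmbedded N := by
    refine CfsgLib.StronglyEmbedded.intro_of_centralizer_le hne heven (fun t ht ht2 => ?_)
      fun t ht t' ht' ht2 ht2' hcj => ?_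
    · obtain ⟨a, hRa, n, hn, e⟩ := hrep t ht ht2
      intro y hy
      have hy' := Subgroup.mem_centralizer_singleton_iff.mp hy
      have hm : n⁻¹ * y * n ∈ N := hCR a hRa (Subgroup.mem_centralizer_singleton_iff.mpr (by
        rw [← e] at hy'
        calc n⁻¹ * y * n * a = n⁻¹ * (y * (n * a * n⁻¹)) * n := by group
          _ = n⁻¹ * (n * a * n⁻¹ * y) * n := by rw [hy']
          _ = _ := by group))
      have := mul_mem (mul_mem hn hm) (inv_mem hn)
      rwa [show n * (n⁻¹ * y * n) * n⁻¹ = y by group] at this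
    · obtain ⟨a, hRa, n, hn, e⟩ := hrep t ht ht2
      obtain ⟨a', hRa', n', hn', e'⟩ := hrep t' ht' ht2'
      obtain rfl := heq a a' hRa hRa'
        ((isConj_iff.mpr ⟨n, e⟩).trans (hcj.trans (isConj_iff.mpr ⟨n', e'⟩).symm))
      exact ⟨n' * n⁻¹, mul_mem hn' (inv_mem hn), by rw [← e, ← e']; group⟩
  exact hna (CfsgLib.StronglyEmbedded.isConj_involutions hse h.orderOf_s
    (h.orderOf_invol ha const8_inv.2.1))

theorem Glue8.card_group (h : Emb8 f s) (hg : Glue8 f g F) (hN : h.eight.Normal) :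
    Nat.card G = 1344 := by
  classical
  let S := ((Finset.range 192).filter fun i => inE8 i = true).erase 0
  have hS : ∀ i, i ∈ S ↔ i ≠ 0 ∧ i < 192 ∧ inE8 i = true := fun i => by simp [S]
  have hsb : IsConj s (f bI8) := isConj_iff.mpr ⟨g, (hg.conj_s h).1⟩
  have horb : Nat.card (MulAction.orbit (ConjAct G) s) = 7 := by
    have hmem : ∀ y : G, y ∈ MulAction.orbit (ConjAct G) s ↔ IsConj s y := fun y => by
      rw [ConjAct.mem_orbit_conjAct, isConj_comm]
    let ψ : S → MulAction.orbit (ConjAct G) s := fun i => ⟨f i.1, by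
      obtain ⟨h0, hi, hiE⟩ := (hS _).1 i.2
      rw [hmem]
      rcases inE8_cases hiE with e | e | e
      · exact absurd e h0
      · rw [e, h.map_u]
      · exact hsb.trans (h.isConj_of_cls hi (.inr (.inl rfl)) e)⟩
    have hψ : Function.Bijective ψ := by
      refine ⟨fun a b e => Subtype.ext
        (h.inj _ ((hS _).1 a.2).2.1 _ ((hS _).1 b.2).2.1 (congrArg Subtype.val e)), ?_⟩
      rintro ⟨y, hy⟩
      obtain ⟨c, rfl⟩ := isConj_iff.mp ((hmem y).1 hy)
      obtain ⟨i, hi, hiE, hie⟩ :=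
        hN.conj_mem s ⟨uI8, const8_lt.1, eight8_consts.2.1, h.map_u⟩ c
      refine ⟨⟨i, (hS i).2 ⟨fun e => ?_, hi, hiE⟩⟩, Subtype.ext hie⟩
      rw [e, h.map_zero] at hie
      exact (orderOf_two_iff.1 ((orderOf_conj c s).trans h.orderOf_s)).2 hie.symm
    rw [← Nat.card_eq_of_bijective ψ hψ, Nat.card_eq_fintype_card, Fintype.card_coe]
    exact eight8_consts.2.2.2.2.2.2.2.2.2.2
  have h1 := (MulAction.stabilizer (ConjAct G) s).index_mul_card
  rw [MulAction.index_stabilizer, ← Nat.card_coe_set_eq, horb,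
    ← Subgroup.nat_card_centralizer_nat_card_stabilizer, h.card_centralizer] at h1
  rw [Nat.card_congr (ConjAct.toConjAct (G := G)).toEquiv, ← h1]

/-- Three classes of involutions: an elementary abelian normal subgroup of order eight with
quotient `L₃(2)`. -/
theorem Glue8.exists_normal_eight (h : Emb8 f s) (hg : Glue8 f g F) (hna : ¬ IsConj s (f aI8))
    (hnc : ¬ IsConj s (f cI8)) :
    ∃ (N : Subgroup G) (hN : N.Normal), IsMulCommutative N ∧ (∀ n ∈ N, n ^ 2 = 1) ∧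
      Nat.card N = 8 ∧
      Nonempty (G ⧸ N ≃* Matrix.ProjectiveSpecialLinearGroup (Fin 3) (ZMod 2)) := by
  have hN := hg.normal_eight h hna hnc
  refine ⟨h.eight, hN, h.eight_comm, fun n hn => by rw [pow_two, h.eight_mul_self n hn],
    h.card_eight, ?_⟩
  obtain ⟨φ, hφ⟩ := CfsgLib.M12Type.exists_hom_sl32 (W := h.eight)
    (fun w => Subtype.ext (h.eight_mul_self w w.2)) h.card_eight
  let ψ : G →* CfsgLib.SmallRadical.SL32 := φ.comp MulAut.conjNormal
  have hker : ψ.ker = h.eight := by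
    ext y
    rw [MonoidHom.mem_ker, MonoidHom.comp_apply, ← map_one φ, hφ.eq_iff]
    constructor
    · intro hy
      refine h.centralizer_eight fun n hn => ?_
      have := congrArg (fun σ : MulAut h.eight => (σ ⟨n, hn⟩ : G)) hy
      simp only [MulAut.conjNormal_apply, MulAut.one_apply] at this
      exact mul_inv_eq_iff_eq_mul.1 this
    · intro hy
      refine MulEquiv.ext fun n => Subtype.ext ?_
      rw [MulAut.conjNormal_apply, MulAut.one_apply]
      haveI := h.eight_comm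
      refine mul_inv_eq_iff_eq_mul.2 ?_
      exact congrArg Subtype.val (mul_comm' (⟨y, hy⟩ : h.eight) n)
  have hidx : h.eight.index = 168 := by
    have h1 := h.eight.index_mul_card
    rw [h.card_eight, hg.card_group h hN] at h1
    omega
  have hsurj : Function.Surjective ψ := by
    rw [← MonoidHom.range_eq_top]
    apply Subgroup.eq_top_of_card_eq
    rw [CfsgLib.SmallRadical.card_sl32, ← Subgroup.index_ker, hker, hidx]
  obtain ⟨e⟩ := CfsgLib.M12Type.sl32_equiv_psl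
  exact ⟨((QuotientGroup.quotientMulEquivOfEq hker.symm).trans
    (QuotientGroup.quotientKerEquivOfSurjective ψ hsurj)).trans e⟩

end CfsgLib.M12Type.Eight
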