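import Cfsg.Agent.M12Type.Facts8
import Cfsg.Agent.M12Type.Enum8.Upper
import Mathlib.GroupTheory.SpecificGroups.Alternating.Simple

/-!
The alternating group of degree 8 as model of the relations: two elements normalising the
elementary subgroup of order 16 with these relations generate it with the centraliser.
-/

set_option autoImplicit false
set_option maxRecDepth 100000

namespace CfsgLib.M12Type.Eight

open CfsgLib.CosetEnum (CertData FactsChecked checkRow gword gword_cons gword_map gword_inverse)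

/-- The first element of order three. -/
def pY1 : Equiv.Perm (Fin 8) where
  toFun := ![0, 3, 1, 2, 5, 7, 6, 4]
  invFun := ![0, 2, 3, 1, 7, 4, 6, 5]
  left_inv := by decide
  right_inv := by decide

/-- The second element of order three. -/
def pY2 : Equiv.Perm (Fin 8) where
  toFun := ![0, 2, 3, 1, 5, 7, 6, 4]
  invFun := ![0, 3, 1, 2, 7, 4, 6, 5]
  left_inv := by decide
  right_inv := by decide

theorem pY_check : Equiv.Perm.sign pY1 = 1 ∧ Equiv.Perm.sign pY2 = 1 ∧
    imgs pY1 = mY1 ∧ imgs pY2 = mY2 := by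
  decide +kernel

/-- The first element of order three, in the alternating group. -/
def Y1 : alternatingGroup (Fin 8) := ⟨pY1, Equiv.Perm.mem_alternatingGroup.2 pY_check.1⟩

/-- The second element of order three, in the alternating group. -/
def Y2 : alternatingGroup (Fin 8) := ⟨pY2, Equiv.Perm.mem_alternatingGroup.2 pY_check.2.1⟩

/-- the four generators -/
def gen8 : List (Equiv.Perm (Fin 8)) := [gA, gB, pY1, pY2]

/-- the eight letters -/
def let8 : List (Equiv.Perm (Fin 8)) := [gA, gA⁻¹, gB, gB⁻¹, pY1, pY1⁻¹, pY2, pY2⁻¹]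

theorem el8_one_val : (el8 1).1 = gA ∧ (el8 2).1 = gB :=
  ⟨imgs_injective ((imgs_el8 (by norm_num)).trans gens_check.1.symm),
    imgs_injective ((imgs_el8 (by norm_num)).trans gens_check.2.1.symm)⟩

theorem lets8_el8 (k : ℕ) : (lets8 el8 Y1 Y2 k).1 = let8.getD k 1 := by
  match k with
  | 0 => exact el8_one_val.1
  | 1 => exact congrArg (fun p : Equiv.Perm (Fin 8) => p⁻¹) el8_one_val.1
  | 2 => exact el8_one_val.2
  | 3 => exact congrArg (fun p : Equiv.Perm (Fin 8) => p⁻¹) el8_one_val.2
  | 4 => rfl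
  | 5 => rfl
  | 6 => rfl
  | 7 => rfl
  | _ + 8 => rfl

theorem rels8_check : ∀ w ∈ rels8, imgs (gword (fun k => let8.getD k 1) w) = imgs 1 := by
  decide +kernel

/-- The model satisfies the relations. -/
theorem sat8_model : Sat8 el8 Y1 Y2 := fun w hw => by
  refine Subtype.ext ?_
  show (alternatingGroup (Fin 8)).subtype (gword (lets8 el8 Y1 Y2) w) = 1
  rw [gword_map, show (fun x => (alternatingGroup (Fin 8)).subtype (lets8 el8 Y1 Y2 x)) =
    fun k => let8.getD k 1 from funext lets8_el8]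
  exact imgs_injective (rels8_check w hw)

/-- one round of conjugation by the generators -/
def grow8 (L : List (List ℕ)) : List (List ℕ) :=
  (L ++ L.flatMap fun x => gen8.map fun g => comp8 (comp8 (imgs g) x) (imgs g⁻¹)).eraseDups

/-- the conjugates reached in the given number of rounds -/
def orbit8 : ℕ → List (List ℕ)
  | 0 => [cd8 uI8]
  | n + 1 => grow8 (orbit8 n)

theorem orbit8_check : 105 ≤ (orbit8 14).length ∧ (orbit8 14).Nodup := by
  decide +kernel

theorem uI8_lt : uI8 < 192 := const8_lt.1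

theorem orbit8_rep (H : Subgroup (alternatingGroup (Fin 8))) (h1 : el8 1 ∈ H) (h2 : el8 2 ∈ H)
    (h3 : Y1 ∈ H) (h4 : Y2 ∈ H) :
    ∀ n, ∀ x ∈ orbit8 n, ∃ a ∈ H, imgs (a * el8 uI8 * a⁻¹).1 = x := by
  intro n
  induction n with
  | zero =>
    intro x hx
    rw [orbit8, List.mem_singleton] at hx
    exact ⟨1, one_mem _, by rw [one_mul, inv_one, mul_one, imgs_el8 uI8_lt, hx]⟩
  | succ n ih =>
    intro x hx
    rw [orbit8, grow8, List.mem_eraseDups, List.mem_append] at hx
    rcases hx with hx | hx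
    · exact ih x hx
    · obtain ⟨y, hy, hx⟩ := List.mem_flatMap.1 hx
      obtain ⟨g, hg, rfl⟩ := List.mem_map.1 hx
      obtain ⟨a, ha, hay⟩ := ih y hy
      obtain ⟨g', hg', rfl⟩ : ∃ g' ∈ H, g'.1 = g := by
        simp only [gen8, List.mem_cons, List.not_mem_nil, or_false] at hg
        rcases hg with rfl | rfl | rfl | rfl
        exacts [⟨_, h1, el8_one_val.1⟩, ⟨_, h2, el8_one_val.2⟩, ⟨_, h3, rfl⟩, ⟨_, h4, rfl⟩]
      refine ⟨g' * a, mul_mem hg' ha, ?_⟩
      rw [show g' * a * el8 uI8 * (g' * a)⁻¹ = g' * (a * el8 uI8 * a⁻¹) * g'⁻¹ by group,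
        Subgroup.coe_mul, Subgroup.coe_mul, imgs_mul, imgs_mul, hay]
      rfl

theorem card_alt8 : Nat.card (alternatingGroup (Fin 8)) = 20160 := by
  rw [nat_card_alternatingGroup, Nat.card_fin]
  rfl

/-- The model is generated. -/
theorem closure_el8 :
    Subgroup.closure ({el8 1, el8 2, Y1, Y2} : Set (alternatingGroup (Fin 8))) = ⊤ := by
  classical
  set H := Subgroup.closure ({el8 1, el8 2, Y1, Y2} : Set (alternatingGroup (Fin 8))) with hH
  have h1 : el8 1 ∈ H := Subgroup.subset_closure (Or.inl rfl)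
  have h2 : el8 2 ∈ H := Subgroup.subset_closure (Or.inr (Or.inl rfl))
  have h3 : Y1 ∈ H := Subgroup.subset_closure (Or.inr (Or.inr (Or.inl rfl)))
  have h4 : Y2 ∈ H := Subgroup.subset_closure (Or.inr (Or.inr (Or.inr rfl)))
  have hel : ∀ i, i < 192 → el8 i ∈ H := by
    intro i
    induction i using Nat.strong_induction_on with
    | _ j ih =>
      intro hj
      rcases eq_or_ne j 0 with rfl | h0
      · rw [el8_zero]; exact one_mem _
      · obtain ⟨hp, hl, hm⟩ := tree8 hj h0
        have h0j := hm 0 (by norm_num)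
        rw [(row8 hj).2.1, (row8 (hp.trans hj)).2.1] at h0j
        rw [h0j]
        rcases hl with e | e <;> rw [e]
        · rw [(el8_gen (hp.trans hj)).1]; exact mul_mem (ih _ hp (hp.trans hj)) h1
        · rw [(el8_gen (hp.trans hj)).2]; exact mul_mem (ih _ hp (hp.trans hj)) h2
  obtain ⟨hlen, hnd⟩ := orbit8_check
  choose a ha hax using fun i : Fin (orbit8 14).length =>
    orbit8_rep H h1 h2 h3 h4 14 _ (List.getElem_mem i.2)
  let F : Fin (orbit8 14).length × Fin 192 → H := fun p =>
    ⟨a p.1 * el8 p.2, mul_mem (ha _) (hel _ p.2.2)⟩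
  have hF : Function.Injective F := by
    rintro ⟨i, x⟩ ⟨j, y⟩ e
    have e' : a i * el8 x = a j * el8 y := congrArg Subtype.val e
    have hc : ∀ (z : Fin 192) (b : alternatingGroup (Fin 8)),
        b * el8 z * el8 uI8 * (b * el8 z)⁻¹ = b * el8 uI8 * b⁻¹ := by
      intro z b
      rw [show b * el8 z * el8 uI8 * (b * el8 z)⁻¹ = b * (el8 z * el8 uI8) * (el8 z)⁻¹ * b⁻¹ by
        group, ← el8_mul _ uI8_lt _ z.2, (row8 z.2).2.2.2.2.1, el8_mul _ z.2 _ uI8_lt]
      group
    have hij : i = j := by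
      have := congrArg (fun b : alternatingGroup (Fin 8) => imgs (b * el8 uI8 * b⁻¹).1) e'
      simp only [hc, hax] at this
      exact Fin.ext (hnd.getElem_inj_iff.1 this)
    subst hij
    exact Prod.ext rfl (Fin.ext (el8_inj x.2 y.2 (mul_left_cancel e')))
  have hle := Nat.card_le_card_of_injective F hF
  rw [Nat.card_prod, Nat.card_fin, Nat.card_fin] at hle
  refine Subgroup.eq_top_of_card_eq H (le_antisymm (Subgroup.card_le_card_group H) ?_)
  rw [card_alt8]
  exact le_trans (Nat.mul_le_mul_right 192 hlen) hle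

theorem lets8_inv {G : Type*} [Group G] (f : ℕ → G) (y₁ y₂ : G) (x : ℕ) :
    lets8 f y₁ y₂ (x ^^^ 1) = (lets8 f y₁ y₂ x)⁻¹ := by
  match x with
  | 0 => rfl
  | 1 => exact (inv_inv _).symm
  | 2 => rfl
  | 3 => exact (inv_inv _).symm
  | 4 => rfl
  | 5 => exact (inv_inv _).symm
  | 6 => rfl
  | 7 => exact (inv_inv _).symm
  | n + 8 =>
    have h : ((n + 8) ^^^ 1) / 2 = (n + 8) / 2 := by
      rw [← Nat.shiftRight_one, Nat.shiftRight_xor_distrib, Nat.shiftRight_one, Nat.shiftRight_one]
      simp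
    have h8 : 8 ≤ (n + 8) ^^^ 1 := by omega
    obtain ⟨m, hm⟩ := Nat.exists_eq_add_of_le' h8
    rw [hm]
    exact inv_one.symm

theorem lets8_map {G K : Type*} [Group G] [Group K] (φ : G →* K) (f : ℕ → G) (y₁ y₂ : G) (x : ℕ) :
    φ (lets8 f y₁ y₂ x) = lets8 (fun i => φ (f i)) (φ y₁) (φ y₂) x := by
  match x with
  | 0 => rfl
  | 1 => exact map_inv φ _
  | 2 => rfl
  | 3 => exact map_inv φ _
  | 4 => rfl
  | 5 => exact map_inv φ _
  | 6 => rfl
  | 7 => exact map_inv φ _
  | n + 8 => exact map_one φ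

theorem closure_lets8 {G : Type*} [Group G] (f : ℕ → G) (y₁ y₂ : G) :
    Subgroup.closure {a | ∃ x < 8, lets8 f y₁ y₂ x = a} =
      Subgroup.closure {f 1, f 2, y₁, y₂} := by
  refine le_antisymm ((Subgroup.closure_le _).2 ?_) (Subgroup.closure_mono ?_)
  · rintro _ ⟨x, hx, rfl⟩
    have h : ∀ y, y ∈ ({f 1, f 2, y₁, y₂} : Set G) → y ∈ Subgroup.closure {f 1, f 2, y₁, y₂} :=
      fun y hy => Subgroup.subset_closure hy
    interval_cases x
    · exact h _ (Or.inl rfl)
    · exact inv_mem (h _ (Or.inl rfl))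
    · exact h _ (Or.inr (Or.inl rfl))
    · exact inv_mem (h _ (Or.inr (Or.inl rfl)))
    · exact h _ (Or.inr (Or.inr (Or.inl rfl)))
    · exact inv_mem (h _ (Or.inr (Or.inr (Or.inl rfl))))
    · exact h _ (Or.inr (Or.inr (Or.inr rfl)))
    · exact inv_mem (h _ (Or.inr (Or.inr (Or.inr rfl))))
  · rintro y (rfl | rfl | rfl | rfl)
    · exact ⟨0, by norm_num, rfl⟩
    · exact ⟨2, by norm_num, rfl⟩
    · exact ⟨4, by norm_num, rfl⟩
    · exact ⟨6, by norm_num, rfl⟩

theorem map_zero8 {G : Type*} [Group G] {v : ℕ → G}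
    (hv : ∀ i < 192, ∀ j < 192, v (mul8 i j) = v i * v j) : v 0 = 1 :=
  mul_eq_left.1
    ((hv 0 (by norm_num) 0 (by norm_num)).symm.trans (by rw [(row8 (by norm_num)).1]))

/-- The image of a numbering, as a subgroup. -/
noncomputable def imgSub8 {G : Type*} [Group G] (v : ℕ → G)
    (hv : ∀ i < 192, ∀ j < 192, v (mul8 i j) = v i * v j) : Subgroup G where
  carrier := {a | ∃ i < 192, v i = a}
  one_mem' := ⟨0, by norm_num, map_zero8 hv⟩
  mul_mem' := by
    rintro _ _ ⟨i, hi, rfl⟩ ⟨j, hj, rfl⟩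
    exact ⟨_, mul8_lt hi hj, hv i hi j hj⟩
  inv_mem' := by
    rintro _ ⟨i, hi, rfl⟩
    refine ⟨_, (row8 hi).2.2.2.1, eq_inv_of_mul_eq_one_right ?_⟩
    rw [← hv i hi _ (row8 hi).2.2.2.1, (row8 hi).2.2.1, map_zero8 hv]

/-- the words of the certificate are the relators, their inverses and the first two generators -/
noncomputable def wordsOK8 : Bool :=
  (Enum8.cert.words.take 50).all (fun w => rels8.contains w ||
      (rels8.map fun v => v.reverse.map fun x => x ^^^ 1).contains w) &&
    (Enum8.cert.words.drop 50).all fun w => [[0], [2]].contains w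

theorem words8_check : wordsOK8 = true := by decide +kernel

theorem enum8_bound {G : Type*} [Group G] (v : ℕ → G)
    (hv : ∀ i < 192, ∀ j < 192, v (mul8 i j) = v i * v j) (y₁ y₂ : G) (hs : Sat8 v y₁ y₂) :
    (imgSub8 v hv).relIndex (Subgroup.closure {v 1, v 2, y₁, y₂}) ≤ 105 ∧
      (imgSub8 v hv).relIndex (Subgroup.closure {v 1, v 2, y₁, y₂}) ≠ 0 := by
  have hg : ∀ x, lets8 v y₁ y₂ (Enum8.cert.iv x) = (lets8 v y₁ y₂ x)⁻¹ := fun x =>
    lets8_inv v y₁ y₂ x
  have hw := words8_check
  simp only [wordsOK8, Bool.and_eq_true, List.all_eq_true, Bool.or_eq_true,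
    List.contains_iff_mem] at hw
  have hrel : ∀ (k : ℕ) (w : List ℕ), Enum8.cert.words[k]? = some w → k < Enum8.cert.nr →
      gword (lets8 v y₁ y₂) w = 1 := by
    intro k w hk hlt
    have hlt' : k < 50 := hlt
    have hm : w ∈ Enum8.cert.words.take 50 :=
      List.mem_of_getElem? (i := k) (by rw [List.getElem?_take, if_pos hlt', hk])
    rcases hw.1 w hm with h | h
    · exact hs w h
    · obtain ⟨u, hu, rfl⟩ := List.mem_map.1 h
      rw [gword_inverse (lets8 v y₁ y₂) (fun x => x ^^^ 1) (fun x => lets8_inv v y₁ y₂ x), hs u hu,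
        inv_one]
  have hsub : ∀ (k : ℕ) (w : List ℕ), Enum8.cert.words[k]? = some w →
      gword (lets8 v y₁ y₂) w ∈ imgSub8 v hv := by
    intro k w hk
    by_cases hlt : k < 50
    · rw [hrel k w hk hlt]; exact one_mem _
    · have hm : w ∈ Enum8.cert.words.drop 50 :=
        List.mem_of_getElem? (i := k - 50)
          (by rw [List.getElem?_drop, show 50 + (k - 50) = k by omega, hk])
      have h := hw.2 w hm
      simp only [List.mem_cons, List.not_mem_nil, or_false] at h
      rcases h with rfl | rfl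
      · exact ⟨1, by norm_num, by simp [gword, lets8]⟩
      · exact ⟨2, by norm_num, by simp [gword, lets8]⟩
  have h := CfsgLib.CosetEnum.relIndex_le Enum8.facts Enum8.n_pos Enum8.node_zero Enum8.rows
    (imgSub8 v hv) (lets8 v y₁ y₂) hg hrel hsub
  rwa [show Enum8.cert.L = 8 from rfl, show Enum8.cert.n = 105 from rfl, closure_lets8] at h

/-- Elements with the relations generate, with the centraliser, a copy of the alternating group. -/
theorem exists_iso8 {G : Type*} [Group G] {f : ℕ → G} {s : G} (h : Emb8 f s) {y₁ y₂ : G}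
    (hs : Sat8 f y₁ y₂) :
    ∃ e : ↥(Subgroup.closure ({f 1, f 2, y₁, y₂} : Set G)) ≃* alternatingGroup (Fin 8),
      ∀ i < 192, ∀ hi, e ⟨f i, hi⟩ = el8 i := by
  classical
  let v : ℕ → G × alternatingGroup (Fin 8) := fun i => (f i, el8 i)
  have hv : ∀ i < 192, ∀ j < 192, v (mul8 i j) = v i * v j := fun i hi j hj =>
    Prod.ext (h.mul i hi j hj) (el8_mul j hj i hi)
  have hsv : Sat8 v (y₁, Y1) (y₂, Y2) := by
    intro w hw
    refine Prod.ext ?_ ?_
    · show MonoidHom.fst G (alternatingGroup (Fin 8)) (gword (lets8 v (y₁, Y1) (y₂, Y2)) w) = 1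
      rw [gword_map, show (fun x => MonoidHom.fst G (alternatingGroup (Fin 8))
          (lets8 v (y₁, Y1) (y₂, Y2) x)) = lets8 f y₁ y₂ from funext fun x => lets8_map _ v _ _ x]
      exact hs w hw
    · show MonoidHom.snd G (alternatingGroup (Fin 8)) (gword (lets8 v (y₁, Y1) (y₂, Y2)) w) = 1
      rw [gword_map, show (fun x => MonoidHom.snd G (alternatingGroup (Fin 8))
          (lets8 v (y₁, Y1) (y₂, Y2) x)) = lets8 el8 Y1 Y2 from funext fun x => lets8_map _ v _ _ x]
      exact sat8_model w hw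
  obtain ⟨hb1, hb2'⟩ := enum8_bound v hv (y₁, Y1) (y₂, Y2) hsv
  set H := Subgroup.closure
    ({v 1, v 2, (y₁, Y1), (y₂, Y2)} : Set (G × alternatingGroup (Fin 8))) with hH
  set D := imgSub8 v hv with hD
  let ψ : Fin 192 → D := fun i => ⟨v i, i, i.2, rfl⟩
  have hψ : Function.Surjective ψ := by
    rintro ⟨_, i, hi, rfl⟩
    exact ⟨⟨i, hi⟩, rfl⟩
  haveI : Finite D := Finite.of_surjective ψ hψ
  haveI : Finite (D ⊓ H : Subgroup _) :=
    Finite.of_injective _ (Subgroup.inclusion_injective inf_le_left)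
  have hDH : Nat.card (D ⊓ H : Subgroup _) ≤ 192 :=
    (Nat.card_le_card_of_injective _ (Subgroup.inclusion_injective inf_le_left)).trans
      ((Nat.card_le_card_of_surjective ψ hψ).trans (by rw [Nat.card_fin]))
  have hmul := Subgroup.relIndex_mul_relIndex ⊥ (D ⊓ H) H bot_le inf_le_right
  rw [Subgroup.relIndex_bot_left, Subgroup.relIndex_bot_left, Subgroup.inf_relIndex_right] at hmul
  have hle : Nat.card H ≤ 20160 := by
    rw [← hmul]
    exact (Nat.mul_le_mul hDH hb1).trans (le_of_eq rfl)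
  haveI : Finite H := Nat.finite_of_card_ne_zero
    (by rw [← hmul]; exact Nat.mul_ne_zero Nat.card_pos.ne' hb2')
  set K := Subgroup.closure ({f 1, f 2, y₁, y₂} : Set G) with hK
  have hfst : H.map (MonoidHom.fst G (alternatingGroup (Fin 8))) = K := by
    rw [hH, MonoidHom.map_closure, Set.image_insert_eq, Set.image_insert_eq, Set.image_insert_eq,
      Set.image_singleton]
    rfl
  let π2 := (MonoidHom.snd G (alternatingGroup (Fin 8))).comp H.subtype
  have h2 : Function.Surjective π2 := by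
    rw [← MonoidHom.range_eq_top, MonoidHom.range_comp, Subgroup.range_subtype,
      hH, MonoidHom.map_closure, Set.image_insert_eq, Set.image_insert_eq, Set.image_insert_eq,
      Set.image_singleton]
    exact closure_el8
  have hb2 : Function.Bijective π2 := (Nat.bijective_iff_surjective_and_card π2).2
    ⟨h2, le_antisymm (by rw [card_alt8]; exact hle) (Nat.card_le_card_of_surjective _ h2)⟩
  let π1 : H →* K := ((MonoidHom.fst G (alternatingGroup (Fin 8))).comp H.subtype).codRestrict K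
    fun x => hfst ▸ Subgroup.mem_map_of_mem _ x.2
  have h1 : Function.Surjective π1 := by
    rintro ⟨y, hy⟩
    rw [← hfst] at hy
    obtain ⟨x, hx, rfl⟩ := hy
    exact ⟨⟨x, hx⟩, rfl⟩
  haveI : IsSimpleGroup (alternatingGroup (Fin 8)) :=
    alternatingGroup.isSimpleGroup (by rw [Nat.card_fin]; norm_num)
  haveI : IsSimpleGroup H := (MulEquiv.ofBijective π2 hb2).isSimpleGroup
  have hmemH : ∀ i < 192, v i ∈ H := by
    intro i
    induction i using Nat.strong_induction_on with
    | _ j ih =>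
      intro hj
      rcases eq_or_ne j 0 with rfl | h0
      · rw [map_zero8 hv]; exact one_mem _
      · obtain ⟨hp, hl, hm⟩ := tree8 hj h0
        have h0j := hm 0 (by norm_num)
        rw [(row8 hj).2.1, (row8 (hp.trans hj)).2.1] at h0j
        rw [h0j, hv _ (hp.trans hj) _ (by omega)]
        refine mul_mem (ih _ hp (hp.trans hj)) (Subgroup.subset_closure ?_)
        rcases hl with e | e <;> rw [e]
        · exact Or.inl rfl
        · exact Or.inr (Or.inl rfl)
  have hinj : Function.Injective π1 := by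
    rw [← MonoidHom.ker_eq_bot_iff]
    refine (IsSimpleGroup.eq_bot_or_eq_top_of_normal π1.ker inferInstance).resolve_right ?_
    intro htopk
    have hu : (⟨v uI8, hmemH _ uI8_lt⟩ : H) ∈ π1.ker := by rw [htopk]; trivial
    have hu' : f uI8 = f 0 := by
      rw [map_zero8 h.mul]
      exact congrArg Subtype.val (MonoidHom.mem_ker.1 hu)
    exact absurd (h.inj _ uI8_lt 0 (by norm_num) hu') (by decide)
  refine ⟨(MulEquiv.ofBijective π1 ⟨hinj, h1⟩).symm.trans (MulEquiv.ofBijective π2 hb2),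
    fun i hi hmem => ?_⟩
  have he : (MulEquiv.ofBijective π1 ⟨hinj, h1⟩) ⟨v i, hmemH i hi⟩ = ⟨f i, hmem⟩ :=
    Subtype.ext rfl
  rw [MulEquiv.trans_apply, ← he, MulEquiv.symm_apply_apply]
  rfl

end CfsgLib.M12Type.Eight
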