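import Cfsg.Agent.M12Type.FuseSat8
import Cfsg.Agent.M12Type.EightGlue8
import Cfsg.Agent.M12Type.Model8A
import Cfsg.Agent.M12Type.Aut8
import Cfsg.Agent.M12Type.Cent8
import Cfsg.Agent.M12Type.ExtraL

/-!
The numbered centraliser from the alternating group of degree 8 with fusion in its extraspecial
subgroup: the possible groups.
-/

set_option autoImplicit false
set_option maxRecDepth 100000

namespace CfsgLib.M12Type.Eight

open CfsgLib.CosetEnum (allBelow)
open CfsgLib.StronglyEmbedded (orderOf_two_iff orderOf_conj)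

theorem qList8_classes :
    (CfsgLib.M12Type.qList8.all fun i => Nat.beq i uI8 ||
      impB (isInv8 i) (Nat.beq (cls8 i) 4 || Nat.beq (cls8 i) 7 || Nat.beq (cls8 i) 8)) = true := by
  decide +kernel

variable {G : Type*} [Group G] {f : ℕ → G} {s : G}

/-- Changing the numbering by an automorphism carries a gluing map to a listed one. -/
theorem Emb8.reglue (h : Emb8 f s) {M F : ℕ} {L L' : List ℕ} (hM : M ∈ auts8) {g : G}
    (hF : F ∈ L) (hp : permOK M L L' = true)
    (hg : ∀ i < 192, inPb8 i = true → g * f i * g⁻¹ = f (look8 F i)) :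
    ∃ F' ∈ L', ∀ i < 192, inPb8 i = true →
      g * f (look8 M i) * g⁻¹ = f (look8 M (look8 F' i)) := by
  obtain ⟨F', hF', hall⟩ := List.any_eq_true.1 (List.all_eq_true.1 hp F hF)
  refine ⟨F', hF', fun i hi hP => ?_⟩
  obtain ⟨k, hk, rfl⟩ := exists_pel8 hi hP
  have := allBelow_spec hall k hk
  rw [Bool.and_eq_true, beq_spec] at this
  rw [hg _ ((aut8_spec hM).2.1 _ (pel8_spec hk).1).1 this.1, this.2]

/-- A fused involution of the extraspecial subgroup gives, after renumbering, fusion of `bI8`. -/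
theorem Emb8.exists_fused_b [Finite G] (h : Emb8 f s)
    (hw : ∃ i ∈ CfsgLib.M12Type.qList8, i < 192 ∧ IsConj s (f i) ∧ f i ≠ s) :
    ∃ f' : ℕ → G, Emb8 f' s ∧ IsConj s (f' bI8) := by
  obtain ⟨i, hiQ, hi, hc, hne⟩ := hw
  obtain ⟨c, hc'⟩ := isConj_iff.1 hc
  obtain ⟨j, hj, hjv, hje⟩ := h.exists_invol (y := f i)
    (by rw [← hc', orderOf_conj]; exact h.orderOf_s) (h.comm_s hi)
  obtain rfl : j = i := h.inj j hj i hi hje
  have := List.all_eq_true.1 qList8_classes j hiQ
  rw [Bool.or_eq_true, beq_spec] at this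
  rcases this with e | e
  · exact absurd (e ▸ h.map_u) hne
  have e' := impB_spec e hjv
  simp only [Bool.or_eq_true, beq_spec] at e'
  obtain ⟨ebc, eba, -⟩ := aut8_classes
  rcases e' with (e' | e') | e'
  · exact ⟨f, h, hc.trans (h.isConj_of_cls hi (.inr (.inl rfl)) e').symm⟩
  · refine ⟨fun k => f (look8 toC k), h.comp_aut (by simp [auts8]), ?_⟩
    show IsConj s (f (look8 toC bI8))
    rw [ebc]
    exact hc.trans (h.isConj_of_cls hi (.inr (.inr (.inl rfl))) e').symm
  · refine ⟨fun k => f (look8 toA k), h.comp_aut (by simp [auts8]), ?_⟩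
    show IsConj s (f (look8 toA bI8))
    rw [eba]
    exact hc.trans (h.isConj_of_cls hi (.inl rfl) e').symm

/-- Fusion of `bI8` gives, after renumbering, a gluing of the first kind. -/
theorem Emb8.exists_glue [Finite G] (h : Emb8 f s) (hb : IsConj s (f bI8)) :
    ∃ (f' : ℕ → G) (g : G) (F : ℕ), Emb8 f' s ∧ Glue8 f' g F := by
  obtain ⟨g, F, hF, hg⟩ := h.exists_swap hb
  rcases List.mem_append.1 hF with hF | hF
  · exact ⟨f, g, F, h, hF, hg⟩
  · obtain ⟨F', hF', hg'⟩ := h.reglue (by simp [auts8]) hF perm_checks.1 hg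
    exact ⟨fun k => f (look8 kindAut k), g, F', h.comp_aut (by simp [auts8]), hF', hg'⟩

/-- The relations give the numbering inside an alternating group of degree 8. -/
theorem Emb8.exists_inA8 (h : Emb8 f s) {y₁ y₂ : G} (hs : Sat8 f y₁ y₂) :
    ∃ L : Subgroup G, InA8 f L := by
  obtain ⟨e, he⟩ := exists_iso8 h hs
  refine ⟨_, ⟨fun i => ?_, e, he⟩⟩
  induction i using Nat.strong_induction_on with
  | _ i ih =>
    intro hi
    rcases eq_or_ne i 0 with rfl | hne
    · rw [h.map_zero]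
      exact one_mem _
    · obtain ⟨hp, hl, hm⟩ := tree8 hi hne
      have hp' : par8 i < 192 := hp.trans hi
      have h0 := hm 0 (by norm_num)
      rw [(row8 hi).2.1, (row8 hp').2.1] at h0
      have hl' : last8 i < 192 := by rcases hl with e' | e' <;> rw [e'] <;> norm_num
      rw [h0, h.mul _ hp' _ hl']
      refine mul_mem (ih _ hp hp') ?_
      rcases hl with e' | e' <;> rw [e'] <;> exact Subgroup.subset_closure (by simp)

/-- The possible groups, given the identification in the case of degree 9. -/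
theorem Emb8.eight_nine_or_normal [Finite G] (h : Emb8 f s)
    (hw : ∃ i ∈ CfsgLib.M12Type.qList8, i < 192 ∧ IsConj s (f i) ∧ f i ≠ s)
    (nine : ∀ (f' : ℕ → G) (L : Subgroup G), Emb8 f' s → InA8 f' L → ¬ IsConj s (f' aI8) →
      Nat.card (cz8 f') = 480 → Nonempty (G ≃* alternatingGroup (Fin 9))) :
    (∃ (N : Subgroup G) (hN : N.Normal), IsMulCommutative N ∧ (∀ n ∈ N, n ^ 2 = 1) ∧
        Nat.card N = 8 ∧
        Nonempty (G ⧸ N ≃* Matrix.ProjectiveSpecialLinearGroup (Fin 3) (ZMod 2))) ∨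
      Nonempty (G ≃* alternatingGroup (Fin 8)) ∨ Nonempty (G ≃* alternatingGroup (Fin 9)) := by
  obtain ⟨f₁, h₁, hb₁⟩ := h.exists_fused_b hw
  obtain ⟨f₂, g, F, h₂, hg⟩ := h₁.exists_glue hb₁
  have fin : ∀ (f' : ℕ → G) (F' : ℕ), Emb8 f' s → Glue8 f' g F' → IsConj s (f' cI8) →
      ¬ IsConj s (f' aI8) →
      Nonempty (G ≃* alternatingGroup (Fin 8)) ∨ Nonempty (G ≃* alternatingGroup (Fin 9)) := by
    intro f' F' h' hg' hc hna
    obtain ⟨y₁, y₂, hsat⟩ := hg'.exists_sat h' hc
    obtain ⟨L, hL⟩ := h'.exists_inA8 hsat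
    rcases card_cent h' hL hna with h96 | h480
    · exact .inl (iso_eight h' hL hna h96)
    · exact .inr (nine f' L h' hL hna h480)
  by_cases ha : IsConj s (f₂ aI8)
  · by_cases hc : IsConj s (f₂ cI8)
    · exact absurd (hg.not_both h₂ ha hc) not_false
    obtain ⟨-, -, -, -, -, -, eac, eca, -⟩ := aut8_classes
    obtain ⟨F', hF', hg'⟩ := h₂.reglue (M := acAut) (by simp [auts8]) hg.mem perm_checks.2 hg.conj
    have hlt := (aut8_spec (M := acAut) (by simp [auts8])).2.1
    refine .inr (fin (fun k => f₂ (look8 acAut k)) F' (h₂.comp_aut (by simp [auts8])) ⟨hF', hg'⟩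
      ?_ ?_)
    · exact ha.trans (h₂.isConj_of_cls (hlt _ const8_lt.2.2.2.1).1 (.inl rfl) eca)
    · exact fun hh => hc (hh.trans
        (h₂.isConj_of_cls (hlt _ const8_lt.2.1).1 (.inr (.inr (.inl rfl))) eac).symm)
  · by_cases hc : IsConj s (f₂ cI8)
    · exact .inr (fin f₂ F h₂ hg hc ha)
    · exact .inl (hg.exists_normal_eight h₂ ha hc)

end CfsgLib.M12Type.Eight
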