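import Cfsg.Agent.M12Type.InA8
import Mathlib.GroupTheory.Perm.Cycle.Type

/-!
Checked facts for the centraliser of order 480 of the second class of involutions: it is modelled in
the pairs of permutations of four and five points, and the pairs of involutions are counted.
-/

set_option autoImplicit false
set_option maxRecDepth 100000

namespace CfsgLib.M12Type.Eight

open CfsgLib.CosetEnum (allBelow)

/-- the images of a permutation -/
def imgsN {n : ℕ} (g : Equiv.Perm (Fin n)) : List ℕ := (List.finRange n).map fun i => (g i : ℕ)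

theorem imgsN_mul {n : ℕ} (g h : Equiv.Perm (Fin n)) :
    imgsN (g * h) = comp8 (imgsN g) (imgsN h) := by
  show (List.finRange n).map _ = ((List.finRange n).map fun i => (h i : ℕ)).map _
  rw [List.map_map]
  refine List.map_congr_left fun i _ => ?_
  show (g (h i) : ℕ) = (imgsN g).getD (h i : ℕ) 0
  rw [List.getD_eq_getElem _ _ (by simp [imgsN])]
  simp [imgsN]

theorem imgsN_injective {n : ℕ} : Function.Injective (imgsN (n := n)) := fun g h e =>
  Equiv.ext fun i => Fin.ext (by
    have := congrArg (fun l => l.getD (i : ℕ) 0) e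
    simp only [imgsN] at this
    rwa [List.getD_eq_getElem _ _ (by simp), List.getD_eq_getElem _ _ (by simp), List.getElem_map,
      List.getElem_map, List.getElem_finRange] at this)

/-- pairs of permutations of four and of five points -/
abbrev P49 : Type := Equiv.Perm (Fin 4) × Equiv.Perm (Fin 5)

/-- images of a pair -/
def code49 (x : P49) : List ℕ × List ℕ := (imgsN x.1, imgsN x.2)

theorem code49_injective : Function.Injective code49 := fun x y e =>
  Prod.ext (imgsN_injective (congrArg Prod.fst e)) (imgsN_injective (congrArg Prod.snd e))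

/-- composition of pairs of images -/
def mulC (a b : List ℕ × List ℕ) : List ℕ × List ℕ := (comp8 a.1 b.1, comp8 a.2 b.2)

theorem code49_mul (x y : P49) : code49 (x * y) = mulC (code49 x) (code49 y) :=
  Prod.ext (imgsN_mul _ _) (imgsN_mul _ _)

/-- `(0 1)(2 3)` on four points -/
def z4 : Equiv.Perm (Fin 4) := Equiv.swap 0 1 * Equiv.swap 2 3

/-- the permutations of four points -/
def all4 : List (Equiv.Perm (Fin 4)) := permsOfList (List.finRange 4)

/-- the permutations of five points -/
def all5 : List (Equiv.Perm (Fin 5)) := permsOfList (List.finRange 5)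

theorem mem_all4 (g : Equiv.Perm (Fin 4)) : g ∈ all4 :=
  mem_permsOfList_of_mem fun x _ => List.mem_finRange x

theorem mem_all5 (g : Equiv.Perm (Fin 5)) : g ∈ all5 :=
  mem_permsOfList_of_mem fun x _ => List.mem_finRange x

/-- the model of the centraliser: pairs of equal sign, the first commuting with `z4` -/
def R49 : List P49 :=
  ((all4.filter fun p => decide (p * z4 = z4 * p ∧ Equiv.Perm.sign p = 1)).product
      (all5.filter fun q => decide (Equiv.Perm.sign q = 1))) ++
    ((all4.filter fun p => decide (p * z4 = z4 * p ∧ ¬ Equiv.Perm.sign p = 1)).product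
      (all5.filter fun q => decide (¬ Equiv.Perm.sign q = 1)))

theorem mem_R49 {x : P49} :
    x ∈ R49 ↔ x.1 * z4 = z4 * x.1 ∧ (Equiv.Perm.sign x.1 = 1 ↔ Equiv.Perm.sign x.2 = 1) := by
  obtain ⟨p, q⟩ := x
  simp only [R49, List.mem_append, List.pair_mem_product, List.mem_filter, mem_all4, mem_all5,
    decide_eq_true_eq, true_and]
  by_cases hp : Equiv.Perm.sign p = 1 <;> simp [hp]

theorem R49_codes : (R49.map code49).length = 480 ∧ (R49.map code49).Nodup := by decide +kernel

/-- the number of moved points -/
def mv49 (x : P49) : ℕ := x.1.support.card + x.2.support.card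

theorem mv49_conj (c x : P49) : mv49 (c * x * c⁻¹) = mv49 x := by
  simp only [mv49, Prod.fst_mul, Prod.snd_mul, Prod.fst_inv, Prod.snd_inv,
    Equiv.Perm.card_support_conj]

/-- the involutions of the model moving `k` points -/
def inv49 (k : ℕ) : List (List ℕ × List ℕ) :=
  (R49.filter fun x => decide (x * x = 1 ∧ mv49 x = k)).map code49

/-- the images of the identity -/
def oneC : List ℕ × List ℕ := code49 1

/-- the images of the model of `aI8` -/
def zC : List ℕ × List ℕ := code49 (z4, 1)

/-- the first twelve powers -/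
def powsC (x : List ℕ × List ℕ) : List (List ℕ × List ℕ) :=
  List.iterate (fun y => mulC y x) oneC 12

theorem ord49 : ∀ x ∈ R49.map code49, ((powsC x).drop 1 ++ [mulC ((powsC x).getD 11 oneC) x]).contains oneC
    = true := by
  decide +kernel

/-- the pairs of involutions of the two kinds with the model of `aI8` among the powers of the
product -/
def pairs49 : List ((List ℕ × List ℕ) × (List ℕ × List ℕ)) :=
  ((inv49 8).product (inv49 4)).filter fun e => (powsC (mulC e.1 e.2)).contains zC

theorem count49 : pairs49.length = 555 ∧ pairs49.Nodup := by decide +kernel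

/-- the first four points of the element numbered `i` -/
noncomputable def r1 (i : ℕ) : Equiv.Perm (Fin 4) :=
  (all4.find? fun p => imgsN p == (cd8 i).take 4).getD 1

/-- the last four points and a fifth one -/
noncomputable def r2 (i : ℕ) : Equiv.Perm (Fin 5) :=
  (all5.find? fun p => imgsN p == ((cd8 i).drop 4).map (fun x => x - 4) ++ [4]).getD 1

/-- first part of the images of a member of the Sylow subgroup -/
def l1 (i : ℕ) : List ℕ := (cd8 i).take 4

/-- the four-group in the perfect part -/
noncomputable def inT8 (i : ℕ) : Bool :=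
  Nat.beq i 0 || Nat.beq i 182 || Nat.beq i 69 || Nat.beq i 172

/-- `a ^ k` in the second table -/
noncomputable def pw8 (a : ℕ) : ℕ → ℕ
  | 0 => 0
  | k + 1 => mul8 (pw8 a k) a

/-- the four-group through `aI8` and `vI8` -/
noncomputable def inV8' (i : ℕ) : Bool :=
  Nat.beq i 0 || Nat.beq i aI8 || Nat.beq i vI8 || Nat.beq i vzI8

theorem d_facts : allBelow (fun i => impB (com8 i aI8)
    (decide (imgsN (r1 i) = l1 i) && decide (r1 i * z4 = z4 * r1 i) &&
      (decide (Equiv.Perm.sign (r1 i) = 1) == com8 i vI8) &&
      anyBelow (fun a => anyBelow (fun b =>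
        inV8' (mul8 (inv8 (mul8 (pw8 fourI8 a) (pw8 oddI8 b))) i) &&
          decide (r2 i = r2 fourI8 ^ a * r2 oddI8 ^ b)) 2) 4 &&
      impB (isInv8 i) (impB (sTy8 i) (decide (mv49 (r1 i, r2 i) = 8)) &&
        impB (zTy8 i) (decide (mv49 (r1 i, r2 i) = 4))) &&
      impB (inV8' i) (impB (decide (r1 i = 1)) (Nat.beq i 0)))) 192 = true := by
  decide +kernel

theorem d_mul : allBelow (fun i => impB (com8 i aI8) (allBelow (fun j => impB (com8 j aI8)
    (decide (l1 (mul8 i j) = comp8 (l1 i) (l1 j)) &&
      impB (inT8 (mul8 (inv8 i) j)) (decide (l1 i = l1 j)))) 192)) 192 = true := by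
  decide +kernel

theorem d_consts : r1 aI8 = z4 ∧ r2 aI8 = 1 ∧ com8 182 aI8 = true ∧ com8 69 aI8 = true ∧
    com8 172 aI8 = true ∧ com8 182 vI8 = true ∧ com8 69 vI8 = true ∧ com8 172 vI8 = true ∧
    mul8 69 182 = 172 ∧ mul8 172 69 = 182 ∧ mul8 172 182 = 69 ∧
    com8 oddI8 vI8 = false ∧ mul8 oddI8 oddI8 = 0 ∧ pw8 fourI8 4 = 0 ∧
    Equiv.Perm.sign (r2 oddI8) = -1 ∧ com8 fourI8 aI8 = true ∧ com8 oddI8 aI8 = true := by
  decide +kernel

/-- Generators of a dihedral subgroup of order eight are conjugate to the standard ones. -/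
theorem dihedral_conj : ∀ α ∈ all5, ∀ β ∈ all5,
    (decide (α ^ 4 = 1) && decide (α ^ 2 ≠ 1) && decide (β * β = 1) &&
      decide (Equiv.Perm.sign β = -1) && decide (β * α * β = α⁻¹)) = true →
    ∃ σ ∈ all5, σ * α = r2 fourI8 * σ ∧ σ * β = r2 oddI8 * σ := by
  decide +kernel

/-- the elementary abelian subgroup of order 16 centralising `aI8` and `vI8` -/
noncomputable def inW16 (i : ℕ) : Bool := com8 i aI8 && com8 i vI8

theorem w16_facts : allBelow (fun i => impB (inW16 i) (inW16 (inv8 i) &&
      allBelow (fun j => impB (inW16 j) (inW16 (mul8 i j) && com8 i j)) 192)) 192 = true ∧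
    ((List.range 192).filter inW16).length = 16 := by
  decide +kernel

/-- the first twelve powers in the second table -/
noncomputable def pows8 (i : ℕ) : List ℕ := List.iterate (fun y => mul8 y i) 0 12

theorem ord8 : allBelow (fun i => ((pows8 i).drop 1 ++ [mul8 ((pows8 i).getD 11 0) i]).contains 0)
    192 = true := by
  decide +kernel

/-- the pairs of involutions of the two types with the central one among the powers of the
product -/
noncomputable def pairs8 : List (ℕ × ℕ) :=
  (((List.range 192).filter fun i => isInv8 i && sTy8 i).product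
    ((List.range 192).filter fun i => isInv8 i && zTy8 i)).filter
      fun e => (pows8 (mul8 e.1 e.2)).contains uI8

theorem count8 : pairs8.length = 156 ∧ pairs8.Nodup := by decide +kernel

end CfsgLib.M12Type.Eight
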