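import Cfsg.Agent.M12Type.Cent8
import Cfsg.Agent.M12Type.NineData
import Cfsg.Agent.BaerSuzuki.Classes
import Mathlib.GroupTheory.Transfer
import Mathlib.GroupTheory.SpecificGroups.Alternating.Simple

/-!
When the centraliser of `aI8` has order 480 the group is the alternating group of degree 9.
-/

set_option autoImplicit false
set_option maxRecDepth 100000

namespace CfsgLib.M12Type.Eight

open CfsgLib.CosetEnum (allBelow)
open CfsgLib.StronglyEmbedded (orderOf_two_iff orderOf_conj)

/-! ### General lemmas -/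

theorem iterate_pow {M : Type*} [Monoid M] {β : Type*} (φ : M → β) (op : β → β → β)
    (hop : ∀ a b, φ (a * b) = op (φ a) (φ b)) (x : M) :
    ∀ (n : ℕ) (a : M), List.iterate (fun y => op y (φ x)) (φ a) n =
      (List.range n).map fun k => φ (a * x ^ k)
  | 0, a => rfl
  | n + 1, a => by
    rw [List.iterate, ← hop, iterate_pow φ op hop x n (a * x), List.range_succ_eq_map, List.map_cons,
      List.map_map, pow_zero, mul_one]
    refine congrArg _ (List.map_congr_left fun k _ => ?_)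
    show φ (a * x * x ^ k) = φ (a * x ^ (k + 1))
    rw [pow_succ', mul_assoc]

/-- Membership in a cyclic group by a short list of powers. -/
theorem mem_zpowers_iff_of_pow {M : Type*} [Group M] [Finite M] {x z : M} {m : ℕ} (hm0 : 0 < m)
    (hm : x ^ m = 1) (hm12 : m ≤ 12) : z ∈ Subgroup.zpowers x ↔ ∃ k < 12, x ^ k = z := by
  constructor
  · rw [← mem_powers_iff_mem_zpowers]
    rintro ⟨n, hn⟩
    refine ⟨n % m, lt_of_lt_of_le (Nat.mod_lt _ hm0) hm12, ?_⟩
    rw [← pow_mod_orderOf, Nat.mod_mod_of_dvd _ (orderOf_dvd_of_pow_eq_one hm), pow_mod_orderOf]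
    exact hn
  · rintro ⟨k, -, rfl⟩
    exact Subgroup.npow_mem_zpowers x k

/-- Both members of a pair with an involution as power of the product centralise it. -/
theorem comm_of_mem_zpowers {M : Type*} [Group M] {a b w : M} (ha : a * a = 1) (hb : b * b = 1)
    (hw : w * w = 1) (hm : w ∈ Subgroup.zpowers (a * b)) : a * w = w * a ∧ b * w = w * b := by
  have hwi : w⁻¹ = w := inv_eq_of_mul_eq_one_right hw
  obtain ⟨n, hn⟩ := hm
  have hn : (a * b) ^ n = w := hn
  have hab : Commute (a * b) w := hn ▸ (Commute.refl (a * b)).zpow_right n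
  have hai : a⁻¹ = a := inv_eq_of_mul_eq_one_right ha
  have hbi : b⁻¹ = b := inv_eq_of_mul_eq_one_right hb
  have h1 : a * w * a⁻¹ = w := by
    rw [← hn, ← conj_zpow, show a * (a * b) * a⁻¹ = (a * b)⁻¹ by
      rw [mul_inv_rev, hai, hbi, ← mul_assoc, ha, one_mul]]
    rw [inv_zpow, hn, hwi]
  have h2 : a * w = w * a := mul_inv_eq_iff_eq_mul.1 h1
  refine ⟨h2, ?_⟩
  calc b * w = a * (a * b * w) := by rw [mul_assoc a b w, ← mul_assoc, ha, one_mul]
    _ = a * (w * (a * b)) := by rw [hab.eq]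
    _ = (a * w) * a * b := by group
    _ = w * (a * a) * b := by rw [h2]; group
    _ = w * b := by rw [ha, mul_one]

theorem d_spec {i : ℕ} (hi : i < 192) (hc : com8 i aI8 = true) :
    imgsN (r1 i) = l1 i ∧ r1 i * z4 = z4 * r1 i ∧
    (Equiv.Perm.sign (r1 i) = 1 ↔ com8 i vI8 = true) ∧
    (∃ a < 4, ∃ b < 2, inV8 (mul8 (inv8 (mul8 (pw8 fourI8 a) (pw8 oddI8 b))) i) = true ∧
      r2 i = r2 fourI8 ^ a * r2 oddI8 ^ b) ∧
    (isInv8 i = true → (sTy8 i = true → mv49 (r1 i, r2 i) = 8) ∧
      (zTy8 i = true → mv49 (r1 i, r2 i) = 4)) ∧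
    (inV8 i = true → r1 i = 1 → i = 0) := by
  have := impB_spec (allBelow_spec d_facts i hi) hc
  simp only [Bool.and_eq_true, decide_eq_true_eq, beq_iff_eq] at this
  obtain ⟨⟨⟨⟨⟨h1, h2⟩, h3⟩, h4⟩, h5⟩, h6⟩ := this
  refine ⟨h1, h2, ?_, ?_, fun hv => ?_, fun hv e => ?_⟩
  · rw [← h3, decide_eq_true_eq]
  · obtain ⟨a, ha, h'⟩ := anyBelow_spec h4
    obtain ⟨b, hb, h''⟩ := anyBelow_spec h'
    rw [Bool.and_eq_true, decide_eq_true_eq] at h''
    exact ⟨a, ha, b, hb, h''.1, h''.2⟩
  · have h' := impB_spec h5 hv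
    rw [Bool.and_eq_true] at h'
    exact ⟨fun hs => of_decide_eq_true (impB_spec h'.1 hs),
      fun hs => of_decide_eq_true (impB_spec h'.2 hs)⟩
  · exact beq_spec.1 (impB_spec (impB_spec h6 hv) (decide_eq_true e))

/-! ### The centraliser of `aI8` -/

variable {G : Type*} [Group G] {f : ℕ → G} {s : G} {L : Subgroup G}

/-- the part of the centraliser fixing `vI8` -/
def kerV (f : ℕ → G) : Subgroup (cz8 f) where
  carrier := {c | (c : G) * f vI8 = f vI8 * (c : G)}
  one_mem' := by show ((1 : cz8 f) : G) * _ = _ * ((1 : cz8 f) : G); simp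
  mul_mem' := fun {a b} ha hb => by
    show (a : G) * b * f vI8 = f vI8 * ((a : G) * b)
    exact (Commute.mul_left ha hb).eq
  inv_mem' := fun {a} ha => by
    show (a : G)⁻¹ * f vI8 = f vI8 * (a : G)⁻¹
    exact (Commute.inv_left ha).eq

theorem mem_kerV {c : cz8 f} : c ∈ kerV f ↔ (c : G) * f vI8 = f vI8 * (c : G) := Iff.rfl

theorem Emb8.mem_kerV_iff (h : Emb8 f s) {i : ℕ} (hi : i < 192) (hc : com8 i aI8 = true) :
    (⟨f i, h.mem_cz8 hi hc⟩ : cz8 f) ∈ kerV f ↔ com8 i vI8 = true :=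
  mem_kerV.trans (h.com_iff hi const8_lt'.1).symm

variable [Finite G] (h : Emb8 f s) (hL : InA8 f L) (hna : ¬ IsConj s (f aI8))
include h hL hna

theorem kerV_index : (kerV f).index = 2 := by
  obtain ⟨-, -, hO, -⟩ := const8_lt'
  have ho : com8 oddI8 aI8 = true := cent8_data.1
  rw [Subgroup.index_eq_two_iff]
  refine ⟨⟨f oddI8, h.mem_cz8 hO ho⟩, fun b => ?_⟩
  have hvv : f vzI8 ≠ f vI8 := fun e =>
    absurd (h.inj _ const8_lt'.2.1 _ const8_lt'.1 e) (by decide)
  have hcom : ∀ c : cz8 f, c ∈ kerV f ↔ (c : G) * f vI8 * (c : G)⁻¹ = f vI8 := fun c =>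
    mem_kerV.trans mul_inv_eq_iff_eq_mul.symm
  have hmv : ∀ c : cz8 f, c ∉ kerV f → (c : G) * f vI8 * (c : G)⁻¹ = f vzI8 := fun c hc =>
    (conj_v h hL hna c.2).resolve_left fun e => hc ((hcom c).2 e)
  have hon : (⟨f oddI8, h.mem_cz8 hO ho⟩ : cz8 f) ∉ kerV f := fun e => by
    have := (h.mem_kerV_iff hO ho).1 e
    rw [d_consts.2.2.2.2.2.2.2.2.2.2.2.1] at this
    exact Bool.noConfusion this
  set o : cz8 f := ⟨f oddI8, h.mem_cz8 hO ho⟩
  by_cases hb : b ∈ kerV f
  · exact .inr ⟨hb, fun e => hon (((kerV f).mul_mem_cancel_left hb).1 e)⟩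
  · refine .inl ⟨(hcom _).2 ?_, hb⟩
    have ez : (b : G) * f aI8 * (b : G)⁻¹ = f aI8 :=
      mul_inv_eq_iff_eq_mul.2 (mem_cz8_iff.1 b.2)
    have evz : f vzI8 = f vI8 * f aI8 := by
      rw [← h.mul _ const8_lt'.1 _ const8_lt.2.1, cent8_consts.1]
    calc ((b * o : cz8 f) : G) * f vI8 * ((b * o : cz8 f) : G)⁻¹
        = (b : G) * ((o : G) * f vI8 * (o : G)⁻¹) * (b : G)⁻¹ := by
          rw [Subgroup.coe_mul]; group
      _ = (b : G) * f vI8 * (b : G)⁻¹ * ((b : G) * f aI8 * (b : G)⁻¹) := by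
          rw [hmv o hon, evz]; group
      _ = f vzI8 * f aI8 := by rw [hmv b hb, ez]
      _ = f vI8 := by rw [evz, mul_assoc, h.a_sq, mul_one]

/-- The part fixing `vI8` goes to the even permutations. -/
theorem sign_quot {φ : cz8 f →* Equiv.Perm (Fin 5)} (hφ : Function.Surjective φ)
    (hker : ∀ c : cz8 f, φ c = 1 ↔ (c : G) ∈ ({1, f aI8, f vI8, f vzI8} : Set G)) (c : cz8 f) :
    Equiv.Perm.sign (φ c) = 1 ↔ c ∈ kerV f := by
  obtain ⟨hvz, -, -, -, -, -, -, -, -, -⟩ := cent8_consts
  have hle : φ.ker ≤ kerV f := by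
    intro x hx
    have hm := (hker x).1 (MonoidHom.mem_ker.1 hx)
    have hva : f aI8 * f vI8 = f vI8 * f aI8 :=
      ((h.com_iff const8_lt'.1 const8_lt.2.1).1 cent8_consts.2.2.2.2.2.2.1).symm
    rw [mem_kerV]
    rcases hm with e | e | e | e
    · rw [e, one_mul, mul_one]
    · rw [e, hva]
    · rw [e]
    · rw [Set.mem_singleton_iff.1 e, ← hvz, h.mul _ const8_lt'.1 _ const8_lt.2.1, mul_assoc, hva]
  have hidx : ((kerV f).map φ).index = 2 := by
    rw [Subgroup.index_map_eq _ hφ hle, kerV_index h hL hna]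
  have halt := Equiv.Perm.eq_alternatingGroup_of_index_eq_two hidx
  conv_rhs => rw [← Subgroup.comap_map_eq_self hle, Subgroup.mem_comap, halt]
  exact Equiv.Perm.mem_alternatingGroup.symm

section Perfect

/-- the commutator subgroup of the part fixing `vI8` -/
abbrev perf (f : ℕ → G) : Subgroup (cz8 f) := ⁅kerV f, kerV f⁆

omit [Finite G] h hL hna in
theorem perf_le : perf f ≤ kerV f := Subgroup.commutator_le_self _

theorem perf_normal : (perf f).Normal := by
  haveI := Subgroup.normal_of_index_eq_two (kerV_index h hL hna)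
  infer_instance

theorem perf_inter (h480 : Nat.card (cz8 f) = 480) {x : cz8 f} (hx : x ∈ perf f)
    (hv : (x : G) ∈ ({1, f aI8, f vI8, f vzI8} : Set G)) : x = 1 := by
  classical
  have hK : Nat.card (kerV f) = 240 := by
    have := (kerV f).index_mul_card
    rw [kerV_index h hL hna, h480] at this
    omega
  let W : Subgroup (kerV f) :=
    { carrier := {y | ∃ i < 192, inW16 i = true ∧ f i = ((y : cz8 f) : G)}
      one_mem' := ⟨0, by norm_num, by decide +kernel, h.map_zero⟩
      mul_mem' := fun {a b} ⟨i, hi, h1, e1⟩ ⟨j, hj, h2, e2⟩ => by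
        have := impB_spec (allBelow_spec w16_facts.1 i hi) h1
        rw [Bool.and_eq_true] at this
        have h' := impB_spec (allBelow_spec this.2 j hj) h2
        rw [Bool.and_eq_true] at h'
        exact ⟨mul8 i j, mul8_lt hi hj, h'.1, by rw [h.mul i hi j hj, e1, e2]; rfl⟩
      inv_mem' := fun {a} ⟨i, hi, h1, e1⟩ => by
        have := impB_spec (allBelow_spec w16_facts.1 i hi) h1
        rw [Bool.and_eq_true] at this
        exact ⟨inv8 i, inv8_lt hi, this.1, by rw [h.map_inv hi, e1]; rfl⟩ }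
  have hWc : Nat.card W = 16 := by
    have hS : ∀ i, i ∈ ((List.range 192).filter inW16).toFinset ↔ i < 192 ∧ inW16 i = true :=
      fun i => by simp
    refine (Nat.card_eq_of_bijective (fun i : ((List.range 192).filter inW16).toFinset =>
      (⟨⟨⟨f i.1, h.mem_cz8 ((hS _).1 i.2).1 (by
          have := ((hS _).1 i.2).2
          rw [inW16, Bool.and_eq_true] at this
          exact this.1)⟩, mem_kerV.2 ((h.com_iff ((hS _).1 i.2).1 const8_lt'.1).1 (by
          have := ((hS _).1 i.2).2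
          rw [inW16, Bool.and_eq_true] at this
          exact this.2))⟩, i.1, ((hS _).1 i.2).1, ((hS _).1 i.2).2, rfl⟩ : W))
      ⟨fun a b e => ?_, fun y => ?_⟩).symm.trans ?_
    · exact Subtype.ext (h.inj _ ((hS _).1 a.2).1 _ ((hS _).1 b.2).1
        (congrArg (fun w : W => (((w : kerV f) : cz8 f) : G)) e))
    · obtain ⟨i, hi, hiW, e⟩ := y.2
      exact ⟨⟨i, (hS i).2 ⟨hi, hiW⟩⟩, Subtype.ext (Subtype.ext (Subtype.ext e))⟩
    · rw [Nat.card_eq_finsetCard,
        List.toFinset_card_of_nodup (List.nodup_range.filter _), w16_facts.2]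
  have hWi : W.index = 15 := by
    have := W.index_mul_card
    rw [hWc, hK] at this
    omega
  letI : CommGroup W :=
    { (inferInstance : Group W) with
      mul_comm := by
        rintro ⟨a, i, hi, hiW, e1⟩ ⟨b, j, hj, hjW, e2⟩
        have := impB_spec (allBelow_spec w16_facts.1 i hi) hiW
        rw [Bool.and_eq_true] at this
        have h' := impB_spec (allBelow_spec this.2 j hj) hjW
        rw [Bool.and_eq_true] at h'
        have h'' := (h.com_iff hi hj).1 h'.2
        rw [e1, e2] at h''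
        exact Subtype.ext (Subtype.ext (Subtype.ext h'')) }
  obtain ⟨i, hi, hiV, hie⟩ : ∃ i < 192, inV8 i = true ∧ f i = (x : G) := h.mem_four_iff.2 hv
  have hiW : inW16 i = true := by
    have hd : allBelow (fun i => impB (inV8 i) (inW16 i)) 192 = true := by decide +kernel
    exact impB_spec (allBelow_spec hd i hi) hiV
  have hxK : x ∈ kerV f := perf_le hx
  set y : kerV f := ⟨x, hxK⟩ with hy
  have hcen : ∀ g₀ : kerV f, g₀ * y = y * g₀ := by
    intro g₀
    refine Subtype.ext (Subtype.ext ?_)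
    show ((g₀ : cz8 f) : G) * (x : G) = (x : G) * ((g₀ : cz8 f) : G)
    have hga := mem_cz8_iff.1 (g₀ : cz8 f).2
    have hgv := mem_kerV.1 g₀.2
    rcases hv with e | e | e | e
    · rw [e, one_mul, mul_one]
    · rw [e, hga]
    · rw [e, hgv]
    · rw [Set.mem_singleton_iff.1 e, ← cent8_consts.1, h.mul _ const8_lt'.1 _ const8_lt.2.1,
        ← mul_assoc, hgv, mul_assoc, hga, mul_assoc]
  have hyW : y ∈ W := ⟨i, hi, hiW, hie⟩
  have key : ∀ (k : ℕ) (g₀ : kerV f), g₀⁻¹ * y ^ k * g₀ ∈ W → g₀⁻¹ * y ^ k * g₀ = y ^ k :=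
    fun k g₀ _ => by
    rw [mul_assoc, ((show Commute g₀ y from hcen g₀).pow_right k).symm.eq, inv_mul_cancel_left]
  have hcomm : y ∈ commutator (kerV f) := by
    have hm : x ∈ (commutator (kerV f)).map (kerV f).subtype := by
      rw [Subgroup.map_subtype_commutator]; exact hx
    obtain ⟨y', hy', e⟩ := hm
    rwa [show y = y' from Subtype.ext e.symm]
  have ht : MonoidHom.transfer (MonoidHom.id W) y = 1 :=
    Abelianization.commutator_subset_ker _ hcomm
  rw [MonoidHom.transfer_eq_pow _ _ key] at ht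
  have h15 : y ^ 15 = 1 := by
    have := congrArg Subtype.val ht
    rw [← hWi]
    exact this
  have hy2 : y * y = 1 := by
    refine Subtype.ext (Subtype.ext ?_)
    show (x : G) * (x : G) = 1
    have hd : allBelow (fun i => impB (inV8 i) (Nat.beq (mul8 i i) 0)) 192 = true := by
      decide +kernel
    rw [← hie, ← h.mul i hi i hi, beq_spec.1 (impB_spec (allBelow_spec hd i hi) hiV), h.map_zero]
  rw [show (15 : ℕ) = 7 * 2 + 1 from rfl, pow_succ, mul_comm 7 2, pow_mul, pow_two, hy2, one_pow,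
    one_mul] at h15
  exact congrArg Subtype.val h15

end Perfect

/-- The centraliser as pairs of permutations of four and five points. -/
theorem exists_model (h480 : Nat.card (cz8 f) = 480) :
    ∃ θ : cz8 f →* P49, Function.Injective θ ∧ (∀ c, θ c ∈ R49) ∧
      (∀ x ∈ R49, ∃ c, θ c = x) ∧
      ∀ i (hi : i < 192) (hc : com8 i aI8 = true),
        θ ⟨f i, h.mem_cz8 hi hc⟩ = (r1 i, r2 i) := by
  classical
  obtain ⟨φ, hφ, hker⟩ := exists_quot h hL hna h480
  obtain ⟨hu, ha, -⟩ := const8_lt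
  obtain ⟨-, -, hO, hF, -⟩ := const8_lt'
  obtain ⟨hr1a, hr2a, c182, c69, c172, v182, v69, v172, e1, e2, e3, hov, hoo, hf4, hsg, cF, cO⟩ :=
    d_consts
  have l182 : 182 < 192 := by norm_num
  have l69 : 69 < 192 := by norm_num
  have l172 : 172 < 192 := by norm_num
  haveI hPn := perf_normal h hL hna
  let emb : ∀ i, i < 192 → com8 i aI8 = true → cz8 f := fun i hi hc => ⟨f i, h.mem_cz8 hi hc⟩
  have hkerV : ∀ c : cz8 f, φ c = 1 ↔ ∃ i < 192, inV8 i = true ∧ f i = (c : G) := fun c =>
    (hker c).trans h.mem_four_iff.symm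
  have hVD : allBelow (fun i => impB (inV8 i) (com8 i aI8)) 192 = true := by decide +kernel
  have hmulc : ∀ {i j : ℕ}, i < 192 → j < 192 → com8 i aI8 = true → com8 j aI8 = true →
      com8 (mul8 i j) aI8 = true := fun hi hj h1 h2 => by
    rw [h.com_iff (mul8_lt hi hj) ha, h.mul _ hi _ hj]
    exact (Commute.mul_left ((h.com_iff hi ha).1 h1) ((h.com_iff hj ha).1 h2)).eq
  have hinvc : ∀ {i : ℕ}, i < 192 → com8 i aI8 = true → com8 (inv8 i) aI8 = true := fun hi h1 => by
    rw [h.com_iff (inv8_lt hi) ha, h.map_inv hi]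
    exact (Commute.inv_left ((h.com_iff hi ha).1 h1)).eq
  -- the four-group inside the commutator subgroup
  obtain ⟨l, hlL, -, -, hl⟩ := hL.conj (Equiv.swap 5 6 * Equiv.swap 6 7) (by decide)
  have hlC : l ∈ cz8 f :=
    mem_cz8_iff.2 (mul_inv_eq_iff_eq_mul.1 (hl _ ha _ ha (by decide +kernel)))
  have hlK : (⟨l, hlC⟩ : cz8 f) ∈ kerV f :=
    mem_kerV.2 (mul_inv_eq_iff_eq_mul.1 (hl _ const8_lt'.1 _ const8_lt'.1 (by decide +kernel)))
  have hcomT : ∀ {i j k : ℕ} (hi : i < 192) (hic : com8 i aI8 = true) (hiv : com8 i vI8 = true)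
      (hj : j < 192) (hk : k < 192) (hkc : com8 k aI8 = true),
      movB (imgs (Equiv.swap 5 6 * Equiv.swap 6 7)) i j = true → mul8 j i = k → mul8 i i = 0 →
      emb k hk hkc ∈ perf f := by
    intro i j k hi hic hiv hj hk hkc hm he hii
    have := Subgroup.commutator_mem_commutator (H₁ := kerV f) (H₂ := kerV f) hlK
      ((h.mem_kerV_iff hi hic).2 hiv)
    convert this using 1
    refine Subtype.ext ?_
    show f k = l * f i * l⁻¹ * (f i)⁻¹
    rw [hl _ hi _ hj hm, inv_eq_of_mul_eq_one_right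
      (show f i * f i = 1 by rw [← h.mul i hi i hi, hii, h.map_zero]), ← h.mul j hj i hi, he]
  have hT : ∀ i (hi : i < 192) (hc : com8 i aI8 = true), inT8 i = true →
      emb i hi hc ∈ perf f := by
    intro i hi hc hiT
    simp only [inT8, Bool.or_eq_true, beq_spec] at hiT
    rcases hiT with ((rfl | rfl) | rfl) | rfl
    · convert (perf f).one_mem using 1
      exact Subtype.ext h.map_zero
    · exact hcomT l69 c69 v69 l172 l182 hc (by decide +kernel) e2 (by decide +kernel)
    · exact hcomT l172 c172 v172 l182 l69 hc (by decide +kernel) (by decide +kernel)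
        (by decide +kernel)
    · exact hcomT l182 c182 v182 l69 l172 hc (by decide +kernel) e1 (by decide +kernel)
  -- the image of the commutator subgroup
  have halt : (kerV f).map φ = alternatingGroup (Fin 5) := by
    ext p
    rw [Equiv.Perm.mem_alternatingGroup]
    constructor
    · rintro ⟨c, hc, rfl⟩
      exact (sign_quot h hL hna hφ hker c).2 hc
    · intro hp
      obtain ⟨c, rfl⟩ := hφ p
      exact ⟨c, (sign_quot h hL hna hφ hker c).1 hp, rfl⟩
  have hmap : (perf f).map φ = alternatingGroup (Fin 5) := by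
    rw [perf, Subgroup.map_commutator, halt]
    refine le_antisymm (Subgroup.commutator_le_self _) ?_
    haveI : IsSimpleGroup (alternatingGroup (Fin 5)) :=
      alternatingGroup.isSimpleGroup (by rw [Nat.card_fin])
    set A := alternatingGroup (Fin 5)
    have hn : ((⁅A, A⁆).subgroupOf A).Normal := inferInstance
    rcases hn.eq_bot_or_eq_top with e | e
    · exfalso
      set p : Equiv.Perm (Fin 5) := Equiv.swap 0 1 * Equiv.swap 1 2
      set q : Equiv.Perm (Fin 5) := Equiv.swap 2 3 * Equiv.swap 3 4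
      have hp : p ∈ A := Equiv.Perm.mem_alternatingGroup.2 (by decide)
      have hq : q ∈ A := Equiv.Perm.mem_alternatingGroup.2 (by decide)
      have h1 : (⟨p * q * p⁻¹ * q⁻¹, mul_mem (mul_mem (mul_mem hp hq) (inv_mem hp))
          (inv_mem hq)⟩ : A) ∈ (⁅A, A⁆).subgroupOf A := by
        rw [Subgroup.mem_subgroupOf]
        exact Subgroup.commutator_mem_commutator hp hq
      rw [e, Subgroup.mem_bot] at h1
      have := congrArg Subtype.val h1
      revert this
      simp only [p, q]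
      decide +kernel
    · exact Subgroup.subgroupOf_eq_top.1 e
  have hinjP : ∀ x ∈ perf f, φ x = 1 → x = 1 := fun x hx e =>
    perf_inter h hL hna h480 hx ((hker x).1 e)
  have hcardP : Nat.card (perf f) = 60 := by
    let ψ : perf f → (perf f).map φ := fun x => ⟨φ x, x, x.2, rfl⟩
    have hψ : Function.Bijective ψ := by
      refine ⟨fun x y e => Subtype.ext (mul_inv_eq_one.1 (hinjP _
        (mul_mem x.2 (inv_mem y.2)) ?_)), ?_⟩
      · rw [map_mul, map_inv, mul_inv_eq_one]
        exact congrArg Subtype.val e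
      · rintro ⟨_, x, hx, rfl⟩
        exact ⟨⟨x, hx⟩, rfl⟩
    rw [Nat.card_eq_of_bijective ψ hψ, hmap, nat_card_alternatingGroup, Nat.card_fin]
    rfl
  set D := cz8 f ⊓ Subgroup.centralizer ({s} : Set G)
  set P := D.subgroupOf (cz8 f) with hPdef
  have hP32 : Nat.card P = 32 := by
    rw [Nat.card_congr (Subgroup.subgroupOfEquivOfLe inf_le_left).toEquiv]
    exact h.card_inf
  have hmemP : ∀ i (hi : i < 192) (hc : com8 i aI8 = true), emb i hi hc ∈ P := fun i hi hc => by
    rw [Subgroup.mem_subgroupOf]; exact h.mem_inf hi hc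
  have hsmall : ∀ i (hi : i < 192) (hc : com8 i aI8 = true), emb i hi hc ∈ perf f →
      inT8 i = true := by
    intro i hi hc hip
    set X := P ⊓ perf f
    have hd : Nat.card X ∣ 4 := by
      have h1 : Nat.card X ∣ 32 := hP32 ▸ Subgroup.card_dvd_of_le inf_le_left
      have h2 : Nat.card X ∣ 60 := hcardP ▸ Subgroup.card_dvd_of_le inf_le_right
      exact Nat.dvd_gcd h1 h2
    let TL : Finset ℕ := {0, 182, 69, 172}
    have hTL : ∀ k ∈ TL, k < 192 ∧ com8 k aI8 = true ∧ inT8 k = true := by decide +kernel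
    let ψ : TL → X := fun k => ⟨emb k.1 (hTL _ k.2).1 (hTL _ k.2).2.1,
      hmemP k.1 (hTL _ k.2).1 (hTL _ k.2).2.1,
      hT k.1 (hTL _ k.2).1 (hTL _ k.2).2.1 (hTL _ k.2).2.2⟩
    have hψi : Function.Injective ψ := fun a b e => Subtype.ext (h.inj _ (hTL _ a.2).1 _
      (hTL _ b.2).1 (congrArg (fun w : X => ((w : cz8 f) : G)) e))
    have hb : Function.Bijective ψ := (Nat.bijective_iff_injective_and_card ψ).2 ⟨hψi, by
      refine le_antisymm (Nat.card_le_card_of_injective ψ hψi) (le_trans (Nat.le_of_dvd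
        (by norm_num) hd) (le_of_eq ?_))
      rw [Nat.card_eq_finsetCard]
      decide +kernel⟩
    obtain ⟨k, hk⟩ := hb.2 ⟨emb i hi hc, hmemP i hi hc, hip⟩
    have e := h.inj _ (hTL _ k.2).1 _ hi (congrArg (fun w : X => ((w : cz8 f) : G)) hk)
    exact e ▸ (hTL _ k.2).2.2
  -- every element is in the product
  have hcover : ∀ c : cz8 f, ∃ i, ∃ (hi : i < 192) (hc : com8 i aI8 = true),
      (emb i hi hc)⁻¹ * c ∈ perf f := by
    intro c
    let π := QuotientGroup.mk' (perf f)
    have hq : Nat.card (cz8 f ⧸ perf f) = 8 := by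
      have := Subgroup.card_eq_card_quotient_mul_card_subgroup (perf f)
      rw [h480, hcardP] at this
      omega
    have hrange : (π.comp P.subtype).range = ⊤ := by
      apply Subgroup.eq_top_of_card_eq
      have h1 := Subgroup.card_eq_card_quotient_mul_card_subgroup (π.comp P.subtype).ker
      rw [Nat.card_congr (QuotientGroup.quotientKerEquivRange (π.comp P.subtype)).toEquiv,
        hP32] at h1
      have h2 : Nat.card (π.comp P.subtype).ker ≤ 4 := by
        let TL : Finset ℕ := {0, 182, 69, 172}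
        have hTL : ∀ k, inT8 k = true → k ∈ TL := fun k hk => by
          simp only [inT8, Bool.or_eq_true, beq_spec] at hk
          rcases hk with ((rfl | rfl) | rfl) | rfl <;> decide
        have hmem : ∀ x : (π.comp P.subtype).ker, ∃ k ∈ TL, f k = ((x : P) : cz8 f) := by
          intro x
          obtain ⟨k, hk, hkc, hke⟩ := h.of_inf (Subgroup.mem_subgroupOf.1 (x : P).2)
          refine ⟨k, hTL k (hsmall k hk hkc ?_), hke⟩
          have hx : π ((x : P) : cz8 f) = 1 := MonoidHom.mem_ker.1 x.2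
          rw [show emb k hk hkc = ((x : P) : cz8 f) from Subtype.ext hke]
          exact (QuotientGroup.eq_one_iff _).1 hx
        choose k hk hke using hmem
        refine (Nat.card_le_card_of_injective (fun x => (⟨k x, hk x⟩ : TL)) fun a b e => ?_).trans
          (le_of_eq (by rw [Nat.card_eq_finsetCard]; decide +kernel))
        refine Subtype.ext (Subtype.ext (Subtype.ext ?_))
        rw [← hke a, ← hke b, show k a = k b from congrArg Subtype.val e]
      have h3 : Nat.card (π.comp P.subtype).range ≤ 8 := hq ▸ Subgroup.card_le_card_group _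
      rw [hq]
      nlinarith
    obtain ⟨y, hy⟩ := (hrange ▸ Subgroup.mem_top (π c) : π c ∈ (π.comp P.subtype).range)
    obtain ⟨k, hk, hkc, hke⟩ := h.of_inf (Subgroup.mem_subgroupOf.1 y.2)
    refine ⟨k, hk, hkc, ?_⟩
    rw [show emb k hk hkc = (y : cz8 f) from Subtype.ext hke, ← QuotientGroup.eq]
    exact hy
  choose idx hidx hidxc hidxm using hcover
  -- the first part
  have hl1 : ∀ {i j : ℕ}, i < 192 → j < 192 → com8 i aI8 = true → com8 j aI8 = true →
      r1 (mul8 i j) = r1 i * r1 j ∧ (inT8 (mul8 (inv8 i) j) = true → r1 i = r1 j) := by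
    intro i j hi hj h1 h2
    have := impB_spec (allBelow_spec (impB_spec (allBelow_spec d_mul i hi) h1) j hj) h2
    rw [Bool.and_eq_true, decide_eq_true_eq] at this
    refine ⟨imgsN_injective ?_, fun ht => imgsN_injective ?_⟩
    · rw [imgsN_mul, (d_spec (mul8_lt hi hj) (hmulc hi hj h1 h2)).1, this.1, (d_spec hi h1).1,
        (d_spec hj h2).1]
    · rw [(d_spec hi h1).1, (d_spec hj h2).1]
      exact of_decide_eq_true (impB_spec this.2 ht)
  have hwd : ∀ (c : cz8 f) (j : ℕ) (hj : j < 192) (hjc : com8 j aI8 = true),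
      (emb j hj hjc)⁻¹ * c ∈ perf f → r1 (idx c) = r1 j := by
    intro c j hj hjc hm
    refine (hl1 (hidx c) hj (hidxc c) hjc).2 (hsmall _ (mul8_lt (inv8_lt (hidx c)) hj)
      (hmulc (inv8_lt (hidx c)) hj (hinvc (hidx c) (hidxc c)) hjc) ?_)
    convert mul_mem (hidxm c) (inv_mem hm) using 1
    refine Subtype.ext ?_
    show f (mul8 (inv8 (idx c)) j) = (f (idx c))⁻¹ * (c : G) * ((f j)⁻¹ * (c : G))⁻¹
    rw [h.mul _ (inv8_lt (hidx c)) _ hj, h.map_inv (hidx c)]
    group
  let θ1 : cz8 f →* Equiv.Perm (Fin 4) := MonoidHom.mk' (fun c => r1 (idx c)) fun c d => by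
    show r1 (idx (c * d)) = r1 (idx c) * r1 (idx d)
    rw [← (hl1 (hidx c) (hidx d) (hidxc c) (hidxc d)).1]
    refine hwd _ _ (mul8_lt (hidx c) (hidx d))
      (hmulc (hidx c) (hidx d) (hidxc c) (hidxc d)) ?_
    set C' := emb _ (hidx c) (hidxc c)
    set D' := emb _ (hidx d) (hidxc d)
    have hmul : emb _ (mul8_lt (hidx c) (hidx d)) (hmulc (hidx c) (hidx d) (hidxc c) (hidxc d)) =
        C' * D' := Subtype.ext (h.mul _ (hidx c) _ (hidx d))
    rw [hmul, show (C' * D')⁻¹ * (c * d) = D'⁻¹ * (C'⁻¹ * c) * D'⁻¹⁻¹ * (D'⁻¹ * d) by group]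
    exact mul_mem (hPn.conj_mem _ (hidxm c) _) (hidxm d)
  have hθ1 : ∀ i (hi : i < 192) (hc : com8 i aI8 = true), θ1 (emb i hi hc) = r1 i :=
    fun i hi hc => hwd _ i hi hc (by rw [inv_mul_cancel]; exact one_mem _)
  -- the second part
  set α := φ (emb fourI8 hF cF)
  set β := φ (emb oddI8 hO cO)
  have hpow : ∀ (a : ℕ) {i : ℕ} (hi : i < 192) (hc : com8 i aI8 = true),
      ∃ (h1 : pw8 i a < 192) (h2 : com8 (pw8 i a) aI8 = true),
        emb _ h1 h2 = emb i hi hc ^ a := by
    intro a i hi hc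
    induction a with
    | zero => exact ⟨by norm_num [pw8], show com8 0 aI8 = true by decide +kernel,
        Subtype.ext (show f 0 = _ by rw [pow_zero, Subgroup.coe_one]; exact h.map_zero)⟩
    | succ a ih =>
      obtain ⟨h1, h2, e⟩ := ih
      refine ⟨mul8_lt h1 hi, hmulc h1 hi h2 hc, ?_⟩
      rw [pow_succ, ← e]
      exact Subtype.ext (h.mul _ h1 _ hi)
  have hα4 : α ^ 4 = 1 := by
    rw [← map_pow]
    obtain ⟨h1, h2, e⟩ := hpow 4 hF cF
    rw [← e, hkerV]
    exact ⟨pw8 fourI8 4, h1, by rw [hf4]; decide +kernel, rfl⟩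
  have hα2 : α ^ 2 ≠ 1 := by
    rw [← map_pow]
    obtain ⟨h1, h2, e⟩ := hpow 2 hF cF
    rw [← e, ne_eq, hkerV]
    rintro ⟨i, hi, hiv, hie⟩
    rw [h.inj _ hi _ h1 hie] at hiv
    revert hiv
    decide +kernel
  have hββ : β * β = 1 := by
    rw [← map_mul, hkerV]
    exact ⟨0, by norm_num, by decide +kernel, by
      rw [Subgroup.coe_mul, ← hoo]
      exact h.mul _ hO _ hO⟩
  have hβs : Equiv.Perm.sign β = -1 := by
    rcases Int.units_eq_one_or (Equiv.Perm.sign β) with e | e
    · have := (h.mem_kerV_iff hO cO).1 ((sign_quot h hL hna hφ hker _).1 e)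
      rw [hov] at this
      exact Bool.noConfusion this
    · exact e
  have hrel : β * α * β = α⁻¹ := by
    rw [← mul_eq_one_iff_eq_inv, ← map_mul, ← map_mul, ← map_mul, hkerV]
    refine ⟨mul8 (mul8 (mul8 oddI8 fourI8) oddI8) fourI8,
      mul8_lt (mul8_lt (mul8_lt hO hF) hO) hF, by decide +kernel, ?_⟩
    rw [h.mul _ (mul8_lt (mul8_lt hO hF) hO) _ hF, h.mul _ (mul8_lt hO hF) _ hO,
      h.mul _ hO _ hF]
    rfl
  obtain ⟨σ, -, hσa, hσb⟩ := dihedral_conj α (mem_all5 _) β (mem_all5 _)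
    (by simp [hα4, hα2, hββ, hβs, hrel])
  let θ2 : cz8 f →* Equiv.Perm (Fin 5) := (MulAut.conj σ).toMonoidHom.comp φ
  have hθ2v : ∀ c, θ2 c = σ * φ c * σ⁻¹ := fun c => rfl
  have hθ2 : ∀ i (hi : i < 192) (hc : com8 i aI8 = true), θ2 (emb i hi hc) = r2 i := by
    intro i hi hc
    obtain ⟨-, -, -, ⟨a, -, b, -, hV, hr⟩, -, -⟩ := d_spec hi hc
    obtain ⟨a1, a2, ea⟩ := hpow a hF cF
    obtain ⟨b1, b2, eb⟩ := hpow b hO cO
    have hw := mul8_lt a1 b1
    have he : θ2 (emb i hi hc) = θ2 (emb fourI8 hF cF ^ a * emb oddI8 hO cO ^ b) := by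
      rw [hθ2v, hθ2v]
      congr 2
      rw [← inv_mul_eq_one, ← map_inv, ← map_mul, hkerV]
      refine ⟨inv8 (mul8 (inv8 (mul8 (pw8 fourI8 a) (pw8 oddI8 b))) i),
        inv8_lt (mul8_lt (inv8_lt hw) hi), ?_, ?_⟩
      · have hd : allBelow (fun i => impB (inV8 i) (inV8 (inv8 i))) 192 = true := by decide +kernel
        exact impB_spec (allBelow_spec hd _ (mul8_lt (inv8_lt hw) hi)) hV
      · rw [h.map_inv (mul8_lt (inv8_lt hw) hi), h.mul _ (inv8_lt hw) _ hi, h.map_inv hw,
          h.mul _ a1 _ b1, mul_inv_rev, inv_inv, ← ea, ← eb]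
        rfl
    rw [he, map_mul, map_pow, map_pow, hθ2v, hθ2v, hr,
      show σ * α * σ⁻¹ = r2 fourI8 by rw [hσa, mul_inv_cancel_right],
      show σ * β * σ⁻¹ = r2 oddI8 by rw [hσb, mul_inv_cancel_right]]
  let θ : cz8 f →* P49 := θ1.prod θ2
  have hθ : ∀ i (hi : i < 192) (hc : com8 i aI8 = true), θ (emb i hi hc) = (r1 i, r2 i) :=
    fun i hi hc => Prod.ext (hθ1 i hi hc) (hθ2 i hi hc)
  have hinj : Function.Injective θ := by
    rw [← MonoidHom.ker_eq_bot_iff, Subgroup.eq_bot_iff_forall]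
    intro c hc
    have hc2 : θ2 c = 1 := congrArg Prod.snd (MonoidHom.mem_ker.1 hc)
    have hφc : φ c = 1 := by
      rw [hθ2v, conj_eq_one_iff] at hc2
      exact hc2
    obtain ⟨i, hi, hiv, hie⟩ := (hkerV c).1 hφc
    have hic := impB_spec (allBelow_spec hVD i hi) hiv
    have e : c = emb i hi hic := Subtype.ext hie.symm
    have hc1 : r1 i = 1 := by
      rw [← hθ1 i hi hic, ← e]
      exact congrArg Prod.fst (MonoidHom.mem_ker.1 hc)
    have h0 := (d_spec hi hic).2.2.2.2.2 hiv hc1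
    subst h0
    rw [e]
    exact Subtype.ext h.map_zero
  have hmem : ∀ c, θ c ∈ R49 := by
    intro c
    rw [mem_R49]
    obtain ⟨-, d2, d3, -⟩ := d_spec (hidx c) (hidxc c)
    refine ⟨d2, ?_⟩
    show Equiv.Perm.sign (r1 (idx c)) = 1 ↔ Equiv.Perm.sign (θ2 c) = 1
    rw [d3, hθ2v, Equiv.Perm.sign_mul, Equiv.Perm.sign_mul, Equiv.Perm.sign_inv,
      mul_comm (Equiv.Perm.sign σ), mul_assoc, Int.units_mul_self, mul_one,
      sign_quot h hL hna hφ hker c, ← h.mem_kerV_iff (hidx c) (hidxc c)]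
    have hm := perf_le (hidxm c)
    exact ⟨fun hk => by
        have hk' : emb _ (hidx c) (hidxc c) ∈ kerV f := hk
        have := mul_mem hk' hm
        rwa [mul_inv_cancel_left] at this,
      fun hk => by simpa using mul_mem hk (inv_mem hm)⟩
  refine ⟨θ, hinj, hmem, fun x hx => ?_, hθ⟩
  have hb : Function.Bijective (fun c => (⟨θ c, List.mem_toFinset.2 (hmem c)⟩ : R49.toFinset)) :=
    (Nat.bijective_iff_injective_and_card _).2
      ⟨fun a b e => hinj (congrArg Subtype.val e), by
        rw [h480, Nat.card_eq_finsetCard, List.toFinset_card_of_nodup (R49_codes.2.of_map _),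
          ← List.length_map (f := code49), R49_codes.1]⟩
  obtain ⟨c, hc⟩ := hb.2 ⟨x, List.mem_toFinset.2 hx⟩
  exact ⟨c, congrArg Subtype.val hc⟩

/-- Every involution is conjugate to `s` or to `aI8`. -/
theorem two_classes (y : G) (hy : orderOf y = 2) : IsConj s y ∨ IsConj (f aI8) y := by
  obtain ⟨i, hi, hv, -, hc⟩ := h.exists_conj_invol hy
  rcases type_cases hi hv with ht | ht
  · exact .inl ((hL.isConj_s h hi ht).trans hc.symm)
  · exact .inr ((hL.isConj_a h hi ht).trans hc.symm)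

/-- The types of the numbered involutions are their classes. -/
theorem type_iff {i : ℕ} (hi : i < 192) :
    (IsConj s (f i) ↔ (isInv8 i && sTy8 i) = true) ∧
      (IsConj (f aI8) (f i) ↔ (isInv8 i && zTy8 i) = true) := by
  have hinv : ∀ b : G, orderOf b = 2 → IsConj b (f i) → isInv8 i = true := by
    intro b hb hc
    obtain ⟨c, hc⟩ := isConj_iff.1 hc
    obtain ⟨j, hj, hv, e⟩ := h.exists_invol (y := f i) (by rw [← hc, orderOf_conj, hb]) (h.comm_s hi)
    rwa [h.inj j hj i hi e] at hv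
  refine ⟨⟨fun hc => ?_, fun hv => ?_⟩, ⟨fun hc => ?_, fun hv => ?_⟩⟩
  · have hv := hinv s h.orderOf_s hc
    rw [hv, Bool.true_and]
    exact (type_cases hi hv).resolve_right fun hz => hL.not_conj_s h hna hi hz hc
  · rw [Bool.and_eq_true] at hv
    exact hL.isConj_s h hi hv.2
  · have hv := hinv _ (h.orderOf_invol const8_lt.2.1 const8_inv.2.1) hc
    rw [hv, Bool.true_and]
    exact (type_cases hi hv).resolve_left fun hs =>
      hna ((hL.isConj_s h hi hs).trans hc.symm)
  · rw [Bool.and_eq_true] at hv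
    exact hL.isConj_a h hi hv.2

theorem count_s : Nat.card {p : G × G // IsConj s p.1 ∧ IsConj (f aI8) p.2 ∧
    s ∈ Subgroup.zpowers (p.1 * p.2)} = 156 := by
  classical
  have hmem : ∀ {e : ℕ × ℕ}, e ∈ pairs8 ↔ e.1 < 192 ∧ e.2 < 192 ∧
      (isInv8 e.1 && sTy8 e.1) = true ∧ (isInv8 e.2 && zTy8 e.2) = true ∧
      (pows8 (mul8 e.1 e.2)).contains uI8 = true := by
    rintro ⟨i, j⟩
    simp only [pairs8, List.mem_filter, List.pair_mem_product, List.mem_range]
    tauto
  have hpow : ∀ {i : ℕ}, i < 192 → ((pows8 i).contains uI8 = true ↔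
      s ∈ Subgroup.zpowers (f i)) := by
    intro i hi
    let emb : ℕ → Prop := fun k => k < 192
    have hlist : ∀ (n a : ℕ), a < 192 → (List.iterate (fun y => mul8 y i) a n).map f =
        (List.range n).map fun k => f a * f i ^ k := by
      intro n
      induction n with
      | zero => intro a _; rfl
      | succ n ih =>
        intro a ha
        rw [List.iterate, List.map_cons, ih _ (mul8_lt ha hi), h.mul _ ha _ hi,
          List.range_succ_eq_map, List.map_cons, List.map_map, pow_zero, mul_one]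
        refine congrArg _ (List.map_congr_left fun k _ => ?_)
        show f a * f i * f i ^ k = f a * f i ^ (k + 1)
        rw [pow_succ', mul_assoc]
    have hlt : ∀ (n a : ℕ), a < 192 → ∀ x ∈ List.iterate (fun y => mul8 y i) a n, x < 192 := by
      intro n
      induction n with
      | zero => intro a _ x hx; simp [List.iterate] at hx
      | succ n ih =>
        intro a ha x hx
        rcases List.mem_cons.1 hx with rfl | hx
        · exact ha
        · exact ih _ (mul8_lt ha hi) x hx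
    have hmap := hlist 12 0 (by norm_num)
    simp only [h.map_zero, one_mul] at hmap
    obtain ⟨m, hm0, hm12, hm⟩ : ∃ m, 0 < m ∧ m ≤ 12 ∧ f i ^ m = 1 := by
      have ho := List.contains_iff_mem.1 (allBelow_spec ord8 i hi)
      rw [List.mem_append] at ho
      rcases ho with ho | ho
      · have h0 : f 0 ∈ ((pows8 i).drop 1).map f := List.mem_map_of_mem ho
        rw [List.map_drop, pows8, hmap, ← List.map_drop, List.mem_map] at h0
        obtain ⟨k, hk, hke⟩ := h0
        rw [List.range_eq_range', List.drop_range', List.mem_range'_1] at hk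
        exact ⟨k, by omega, by omega, hke.trans h.map_zero⟩
      · rw [List.mem_singleton] at ho
        refine ⟨12, by norm_num, le_rfl, ?_⟩
        have hlen : 11 < (pows8 i).length := by simp [pows8]
        have hmem11 : (pows8 i).getD 11 0 < 192 := by
          rw [List.getD_eq_getElem _ _ hlen]
          exact hlt 12 0 (by norm_num) _ (List.getElem_mem hlen)
        have h11 : f ((pows8 i).getD 11 0) = f i ^ 11 := by
          rw [List.getD_eq_getElem _ _ hlen, ← List.getElem_map f (h := by simpa using hlen)]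
          rw [List.getElem_of_eq (show (pows8 i).map f = _ from hmap)]
          simp
        rw [show (12 : ℕ) = 11 + 1 from rfl, pow_succ, ← h11, ← h.mul _ hmem11 _ hi, ← ho,
          h.map_zero]
    rw [mem_zpowers_iff_of_pow hm0 hm hm12, List.contains_iff_mem]
    constructor
    · intro hu
      have : f uI8 ∈ (pows8 i).map f := List.mem_map_of_mem hu
      rw [pows8, hmap, List.mem_map] at this
      obtain ⟨k, hk, hke⟩ := this
      exact ⟨k, List.mem_range.1 hk, hke.trans h.map_u⟩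
    · rintro ⟨k, hk, hke⟩
      have : f i ^ k ∈ (pows8 i).map f := by
        rw [pows8, hmap]
        exact List.mem_map.2 ⟨k, List.mem_range.2 hk, rfl⟩
      obtain ⟨x, hx, hxe⟩ := List.mem_map.1 this
      rwa [h.inj _ (hlt 12 0 (by norm_num) x hx) _ const8_lt.1
        (hxe.trans (hke.trans h.map_u.symm))] at hx
  let φ : pairs8.toFinset → {p : G × G // IsConj s p.1 ∧ IsConj (f aI8) p.2 ∧
      s ∈ Subgroup.zpowers (p.1 * p.2)} := fun e => ⟨(f e.1.1, f e.1.2), by
    obtain ⟨h1, h2, h3, h4, h5⟩ := hmem.1 (List.mem_toFinset.1 e.2)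
    refine ⟨(type_iff h hL hna h1).1.2 h3, (type_iff h hL hna h2).2.2 h4, ?_⟩
    rw [← h.mul _ h1 _ h2]
    exact (hpow (mul8_lt h1 h2)).1 h5⟩
  have hφ : Function.Bijective φ := by
    constructor
    · intro a b e
      obtain ⟨a1, a2, -⟩ := hmem.1 (List.mem_toFinset.1 a.2)
      obtain ⟨b1, b2, -⟩ := hmem.1 (List.mem_toFinset.1 b.2)
      have e' := congrArg Subtype.val e
      exact Subtype.ext (Prod.ext (h.inj _ a1 _ b1 (congrArg Prod.fst e'))
        (h.inj _ a2 _ b2 (congrArg Prod.snd e')))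
    · rintro ⟨⟨a, b⟩, ha, hb, hab⟩
      have hsq : ∀ {x y : G}, orderOf x = 2 → IsConj x y → y * y = 1 := fun {x y} hx hc => by
        obtain ⟨c, rfl⟩ := isConj_iff.1 hc
        exact (orderOf_two_iff.1 (by rw [orderOf_conj, hx])).1
      obtain ⟨ca, cb⟩ := comm_of_mem_zpowers (hsq h.orderOf_s ha)
        (hsq (h.orderOf_invol const8_lt.2.1 const8_inv.2.1) hb)
        (orderOf_two_iff.1 h.orderOf_s).1 hab
      obtain ⟨i, hi, rfl⟩ := h.surj a ca
      obtain ⟨j, hj, rfl⟩ := h.surj b cb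
      refine ⟨⟨(i, j), List.mem_toFinset.2 (hmem.2 ⟨hi, hj, (type_iff h hL hna hi).1.1 ha,
        (type_iff h hL hna hj).2.1 hb, ?_⟩)⟩, rfl⟩
      refine (hpow (mul8_lt hi hj)).2 ?_
      rw [h.mul _ hi _ hj]
      exact hab
  rw [← Nat.card_eq_of_bijective φ hφ, Nat.card_eq_fintype_card, Fintype.card_coe,
    List.toFinset_card_of_nodup count8.2, count8.1]

theorem count_a (h480 : Nat.card (cz8 f) = 480) :
    Nat.card {p : G × G // IsConj s p.1 ∧ IsConj (f aI8) p.2 ∧
      f aI8 ∈ Subgroup.zpowers (p.1 * p.2)} = 555 := by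
  classical
  obtain ⟨θ, hinj, hmem, hsurj, hθ⟩ := exists_model h hL hna h480
  obtain ⟨-, ha, -⟩ := const8_lt
  have hzv : θ ⟨f aI8, h.mem_cz8 ha cent8_consts.2.2.2.2.2.2.2.2.2.1⟩ = (z4, 1) := by
    rw [hθ _ ha cent8_consts.2.2.2.2.2.2.2.2.2.1, d_consts.1, d_consts.2.1]
  set zc : cz8 f := ⟨f aI8, h.mem_cz8 ha cent8_consts.2.2.2.2.2.2.2.2.2.1⟩
  -- the type of an involution is the number of moved points
  have htype : ∀ y : cz8 f, y * y = 1 → y ≠ 1 →
      (IsConj s (y : G) ∧ mv49 (θ y) = 8) ∨ (IsConj (f aI8) (y : G) ∧ mv49 (θ y) = 4) := by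
    intro y hy hy1
    have hy2 : orderOf (y : G) = 2 :=
      orderOf_two_iff.2 ⟨congrArg Subtype.val hy, fun e => hy1 (Subtype.ext e)⟩
    have hp : IsPGroup 2 (Subgroup.zpowers (y : G)) := by
      haveI : Fact (Nat.Prime 2) := ⟨Nat.prime_two⟩
      exact IsPGroup.of_card (n := 1) (by rw [Nat.card_zpowers, hy2, pow_one])
    obtain ⟨k, hk, hkm⟩ := exists_conj_le_of_self h.isPGroup_inf inf_le_left
      (fun n hn hnorm => self_inf h hL hna hn hnorm) hp (Subgroup.zpowers_le.2 y.2)
    obtain ⟨i, hi, hc, hie⟩ := h.of_inf (hkm _ (Subgroup.mem_zpowers _))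
    obtain ⟨j, hj, hjv, hje⟩ := h.exists_invol (y := f i)
      (by rw [hie, orderOf_conj, hy2]) (h.comm_s hi)
    rw [h.inj _ hj _ hi hje] at hjv
    have hconj : IsConj (y : G) (f i) := isConj_iff.mpr ⟨k, hie.symm⟩
    have hθy : mv49 (θ y) = mv49 (r1 i, r2 i) := by
      rw [← hθ i hi hc, show (⟨f i, h.mem_cz8 hi hc⟩ : cz8 f) = ⟨k, hk⟩ * y * ⟨k, hk⟩⁻¹ from
        Subtype.ext hie, map_mul, map_mul, map_inv, mv49_conj]
    obtain ⟨hs8, hz4⟩ := (d_spec hi hc).2.2.2.2.1 hjv
    rcases type_cases hi hjv with ht | ht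
    · exact .inl ⟨(hL.isConj_s h hi ht).trans hconj.symm, hθy.trans (hs8 ht)⟩
    · exact .inr ⟨(hL.isConj_a h hi ht).trans hconj.symm, hθy.trans (hz4 ht)⟩
  have hinv49 : ∀ (n : ℕ) (q : List ℕ × List ℕ),
      q ∈ inv49 n ↔ ∃ y : cz8 f, y * y = 1 ∧ mv49 (θ y) = n ∧ code49 (θ y) = q := by
    intro n q
    simp only [inv49, List.mem_map, List.mem_filter, decide_eq_true_eq]
    constructor
    · rintro ⟨x, ⟨hx, hxx, hxn⟩, rfl⟩
      obtain ⟨y, rfl⟩ := hsurj x hx
      exact ⟨y, hinj (by rw [map_mul, hxx, map_one]), hxn, rfl⟩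
    · rintro ⟨y, hy, hn, rfl⟩
      exact ⟨θ y, ⟨hmem y, by rw [← map_mul, hy, map_one], hn⟩, rfl⟩
  have hpow : ∀ x : cz8 f, (powsC (code49 (θ x))).contains zC = true ↔
      zc ∈ Subgroup.zpowers x := by
    intro x
    have hlist : powsC (code49 (θ x)) = (List.range 12).map fun k => code49 (θ x ^ k) := by
      rw [powsC, oneC, iterate_pow code49 mulC code49_mul (θ x) 12 1]
      simp only [one_mul]
    obtain ⟨m, hm0, hm12, hm⟩ : ∃ m, 0 < m ∧ m ≤ 12 ∧ x ^ m = 1 := by
      have ho := List.contains_iff_mem.1 (ord49 _ (List.mem_map_of_mem (hmem x)))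
      rw [List.mem_append] at ho
      rcases ho with ho | ho
      · rw [hlist, ← List.map_drop, List.mem_map] at ho
        obtain ⟨k, hk, hke⟩ := ho
        rw [List.range_eq_range', List.drop_range', List.mem_range'_1] at hk
        refine ⟨k, by omega, by omega, hinj ?_⟩
        rw [map_pow, map_one]
        exact code49_injective hke
      · rw [List.mem_singleton, hlist, List.getD_eq_getElem _ _ (by simp), List.getElem_map,
          List.getElem_range, ← code49_mul, ← pow_succ] at ho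
        refine ⟨12, by norm_num, le_rfl, hinj ?_⟩
        rw [map_pow, map_one]
        exact (code49_injective ho).symm
    rw [mem_zpowers_iff_of_pow hm0 hm hm12, List.contains_iff_mem, hlist, List.mem_map]
    constructor
    · rintro ⟨k, hk, hke⟩
      exact ⟨k, List.mem_range.1 hk, hinj (by rw [map_pow, hzv]; exact code49_injective hke)⟩
    · rintro ⟨k, hk, hke⟩
      exact ⟨k, List.mem_range.2 hk, by rw [← map_pow, hke, hzv]; rfl⟩
  have hne1 : ∀ {y : cz8 f} {n : ℕ}, 0 < n → mv49 (θ y) = n → y ≠ 1 := by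
    rintro y n hn e rfl
    rw [map_one, show mv49 1 = 0 by decide +kernel] at e
    omega
  have hs2 := h.orderOf_s
  have ha2 := h.orderOf_invol ha const8_inv.2.1
  have hsq : ∀ {x y : G}, orderOf x = 2 → IsConj x y → y * y = 1 ∧ y ≠ 1 := fun {x y} hx hc => by
    obtain ⟨c, rfl⟩ := isConj_iff.1 hc
    exact orderOf_two_iff.1 (by rw [orderOf_conj, hx])
  let S := {p : G × G // IsConj s p.1 ∧ IsConj (f aI8) p.2 ∧ f aI8 ∈ Subgroup.zpowers (p.1 * p.2)}
  have hC : ∀ p : S, p.1.1 ∈ cz8 f ∧ p.1.2 ∈ cz8 f := fun p => by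
    obtain ⟨c1, c2⟩ := comm_of_mem_zpowers (hsq hs2 p.2.1).1 (hsq ha2 p.2.2.1).1 h.a_sq p.2.2.2
    exact ⟨mem_cz8_iff.2 c1, mem_cz8_iff.2 c2⟩
  let Φ : S → pairs49.toFinset := fun p =>
    ⟨(code49 (θ ⟨p.1.1, (hC p).1⟩), code49 (θ ⟨p.1.2, (hC p).2⟩)), List.mem_toFinset.2 (by
      obtain ⟨h1, h2, h3⟩ := p.2
      have s1 := hsq hs2 h1
      have s2 := hsq ha2 h2
      have t1 : mv49 (θ ⟨p.1.1, (hC p).1⟩) = 8 :=
        ((htype ⟨p.1.1, (hC p).1⟩ (Subtype.ext s1.1) fun e => s1.2 (congrArg Subtype.val e))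
          ).elim (fun e => e.2) fun e => absurd (h1.trans e.1.symm) hna
      have t2 : mv49 (θ ⟨p.1.2, (hC p).2⟩) = 4 :=
        ((htype ⟨p.1.2, (hC p).2⟩ (Subtype.ext s2.1) fun e => s2.2 (congrArg Subtype.val e))
          ).elim (fun e => absurd (e.1.trans h2.symm) hna) fun e => e.2
      simp only [pairs49, List.mem_filter, List.pair_mem_product, hinv49]
      refine ⟨⟨⟨_, Subtype.ext s1.1, t1, rfl⟩, _, Subtype.ext s2.1, t2, rfl⟩, ?_⟩
      rw [← code49_mul, ← map_mul, hpow]
      obtain ⟨n, hn⟩ := h3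
      exact ⟨n, Subtype.ext (by rw [SubgroupClass.coe_zpow]; exact hn)⟩)⟩
  have hΦ : Function.Bijective Φ := by
    constructor
    · intro p q e
      have e' := congrArg Subtype.val e
      exact Subtype.ext (Prod.ext
        (congrArg Subtype.val (hinj (code49_injective (congrArg Prod.fst e'))))
        (congrArg Subtype.val (hinj (code49_injective (congrArg Prod.snd e')))))
    · rintro ⟨⟨q1, q2⟩, hq⟩
      rw [List.mem_toFinset] at hq
      simp only [pairs49, List.mem_filter, List.pair_mem_product, hinv49] at hq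
      obtain ⟨⟨⟨y1, hy1, hm1, rfl⟩, y2, hy2, hm2, rfl⟩, hz⟩ := hq
      rw [← code49_mul, ← map_mul, hpow] at hz
      obtain ⟨n, hn⟩ := hz
      have c1 : IsConj s (y1 : G) :=
        (htype y1 hy1 (hne1 (by norm_num) hm1)).elim (fun e => e.1) fun e => by omega
      have c2 : IsConj (f aI8) (y2 : G) :=
        (htype y2 hy2 (hne1 (by norm_num) hm2)).elim (fun e => by omega) fun e => e.1
      refine ⟨⟨((y1 : G), (y2 : G)), c1, c2, n, ?_⟩, Subtype.ext rfl⟩
      have := congrArg (fun w : cz8 f => (w : G)) hn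
      simp only [SubgroupClass.coe_zpow, Subgroup.coe_mul] at this
      exact this
  rw [Nat.card_eq_of_bijective Φ hΦ, Nat.card_eq_fintype_card, Fintype.card_coe,
    List.toFinset_card_of_nodup count49.2, count49.1]

/-- The large case is the alternating group of degree 9. -/
theorem iso_nine (h480 : Nat.card (cz8 f) = 480) :
    Nonempty (G ≃* alternatingGroup (Fin 9)) := by
  classical
  obtain ⟨hu, ha, -⟩ := const8_lt
  have ha2 := h.orderOf_invol ha const8_inv.2.1
  have hG : Nat.card G = 181440 := by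
    have hCz : Nat.card (Subgroup.centralizer ({f aI8} : Set G)) = 480 := h480
    rw [BaerSuzuki.order_formula h.orderOf_s ha2 hna (two_classes h hL hna), hCz,
      count_s h hL hna, h.card_centralizer, count_a h hL hna h480]
  obtain ⟨e, -⟩ := hL.iso
  have hLc : Nat.card L = 20160 := by
    rw [Nat.card_congr e.toEquiv, nat_card_alternatingGroup, Nat.card_fin]
    rfl
  have hLi : L.index = 9 := by
    have := L.index_mul_card
    rw [hLc, hG] at this
    omega
  haveI : IsSimpleGroup (alternatingGroup (Fin 8)) :=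
    alternatingGroup.isSimpleGroup (by rw [Nat.card_fin]; norm_num)
  haveI : IsSimpleGroup L := e.isSimpleGroup
  -- `L` is not normal
  have hLn : ¬ L.Normal := by
    intro hn
    haveI : Fact (Nat.Prime 2) := ⟨Nat.prime_two⟩
    obtain ⟨T, hT⟩ := h.exists_sylow_eq
    have hTL : (T : Subgroup G) ≤ L := by
      rw [hT]
      rintro y ⟨i, hi, -, rfl⟩
      exact hL.mem i hi
    -- the class of `aI8` lies in `L` and is one class there
    have hrep : ∀ y ∈ L, IsConj (f aI8) y → ∃ n ∈ L, n * f aI8 * n⁻¹ = y := by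
      intro y hy hyc
      have hy2 : orderOf y = 2 := by
        obtain ⟨c, rfl⟩ := isConj_iff.mp hyc
        rw [orderOf_conj, ha2]
      have hp : IsPGroup 2 (Subgroup.zpowers (⟨y, hy⟩ : L)) :=
        IsPGroup.of_card (n := 1) (by rw [Nat.card_zpowers, ← Subgroup.orderOf_coe, hy2, pow_one])
      obtain ⟨U, hU⟩ := hp.exists_le_sylow
      obtain ⟨c, hc⟩ := MulAction.exists_smul_eq L U (T.subtype hTL)
      have hm : c * ⟨y, hy⟩ * c⁻¹ ∈ ((T.subtype hTL : Sylow 2 L) : Subgroup L) := by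
        rw [← hc]
        exact Subgroup.mem_map.mpr ⟨⟨y, hy⟩, hU (Subgroup.mem_zpowers _), rfl⟩
      rw [Sylow.coe_subtype, Subgroup.mem_subgroupOf, hT] at hm
      obtain ⟨i, hi, -, hie⟩ := hm
      have hci : IsConj (f aI8) (f i) := hyc.trans (isConj_iff.mpr ⟨(c : G), by
        rw [hie]; simp only [Subgroup.coe_mul, Subgroup.coe_inv]⟩)
      have hv := (type_iff h hL hna hi).2.1 hci
      rw [Bool.and_eq_true] at hv
      obtain ⟨n, hn, hn'⟩ := hL.exists_a h hi hv.2
      refine ⟨(c : G)⁻¹ * n, mul_mem (inv_mem c.2) hn, ?_⟩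
      calc (c : G)⁻¹ * n * f aI8 * ((c : G)⁻¹ * n)⁻¹
          = (c : G)⁻¹ * (n * f aI8 * n⁻¹) * (c : G) := by group
        _ = y := by
          rw [hn', hie]
          simp only [Subgroup.coe_mul, Subgroup.coe_inv]
          group
    have haL : f aI8 ∈ L := hL.mem _ ha
    have hGc : Nat.card (MulAction.orbit (ConjAct G) (f aI8)) = 378 := by
      have h1 := (MulAction.stabilizer (ConjAct G) (f aI8)).index_mul_card
      rw [MulAction.index_stabilizer, ← Nat.card_coe_set_eq,
        ← Subgroup.nat_card_centralizer_nat_card_stabilizer,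
        Nat.card_congr (ConjAct.ofConjAct (G := G)).toEquiv, hG] at h1
      rw [show Nat.card (Subgroup.centralizer ({f aI8} : Set G)) = 480 from h480] at h1
      omega
    have hsame : (MulAction.orbit (ConjAct G) (f aI8) : Set G) =
        Subtype.val '' (MulAction.orbit (ConjAct L) (⟨f aI8, haL⟩ : L)) := by
      ext y
      constructor
      · intro hy
        have hyc : IsConj (f aI8) y := (ConjAct.mem_orbit_conjAct.1 hy).symm
        obtain ⟨c, hce⟩ := isConj_iff.mp hyc
        have hyL : y ∈ L := hce ▸ hn.conj_mem _ haL c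
        obtain ⟨n, hn', hne⟩ := hrep y hyL hyc
        exact ⟨⟨y, hyL⟩, ConjAct.mem_orbit_conjAct.2 (isConj_iff.mpr ⟨⟨n, hn'⟩, Subtype.ext hne⟩).symm,
          rfl⟩
      · rintro ⟨w, hw, rfl⟩
        obtain ⟨n, hne⟩ := isConj_iff.mp (ConjAct.mem_orbit_conjAct.1 hw).symm
        exact ConjAct.mem_orbit_conjAct.2
          (isConj_iff.mpr ⟨(n : G), congrArg Subtype.val hne⟩).symm
    have hdvd : Nat.card (MulAction.orbit (ConjAct L) (⟨f aI8, haL⟩ : L)) ∣ 20160 := by
      rw [Nat.card_coe_set_eq, ← MulAction.index_stabilizer]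
      exact hLc ▸ Nat.card_congr (ConjAct.ofConjAct (G := L)).toEquiv ▸ Subgroup.index_dvd_card _
    rw [← Nat.card_image_of_injective Subtype.val_injective, ← hsame, hGc] at hdvd
    norm_num at hdvd
  have hker : L.normalCore = ⊥ := by
    have hn : (L.normalCore.subgroupOf L).Normal := inferInstance
    rcases hn.eq_bot_or_eq_top with e' | e'
    · rw [Subgroup.subgroupOf_eq_bot, disjoint_iff, inf_eq_left.2 L.normalCore_le] at e'
      exact e'
    · exact absurd (le_antisymm L.normalCore_le (Subgroup.subgroupOf_eq_top.1 e') ▸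
        L.normalCore_normal) hLn
  haveI : Finite (G ⧸ L) := inferInstance
  haveI : Fintype (G ⧸ L) := Fintype.ofFinite _
  have h9 : Nat.card (G ⧸ L) = 9 := hLi
  let ε : (G ⧸ L) ≃ Fin 9 := Finite.equivFinOfCardEq h9
  let ψ : G →* Equiv.Perm (Fin 9) :=
    ε.permCongrHom.toMonoidHom.comp (MulAction.toPermHom G (G ⧸ L))
  have hψ : Function.Injective ψ := by
    refine (Equiv.permCongrHom ε).injective.comp ?_
    rw [← MonoidHom.ker_eq_bot_iff, ← Subgroup.normalCore_eq_ker, hker]
  have hidx : ψ.range.index = 2 := by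
    have h1 := ψ.range.index_mul_card
    rw [Nat.card_congr (MonoidHom.ofInjective hψ).symm.toEquiv, hG, Nat.card_perm,
      Nat.card_fin] at h1
    rw [show Nat.factorial 9 = 362880 from rfl] at h1
    omega
  exact ⟨(MonoidHom.ofInjective hψ).trans
    (MulEquiv.subgroupCongr (Equiv.Perm.eq_alternatingGroup_of_index_eq_two hidx))⟩

/-- The second class of involutions determines the alternating group of degree 8 or 9. -/
theorem iso_eight_or_nine_of_inA8 :
    Nonempty (G ≃* alternatingGroup (Fin 8)) ∨ Nonempty (G ≃* alternatingGroup (Fin 9)) :=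
  (card_cent h hL hna).imp (iso_eight h hL hna) (iso_nine h hL hna)

end CfsgLib.M12Type.Eight
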