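import Cfsg.Agent.M12Type.Data
import Cfsg.Agent.CosetEnum.Upper
import Mathlib

/-!
An embedding of the numbered group of order 192 as an involution centraliser, and the relations
to be verified for a glueing involution and an element of order two of the second centraliser.
-/

set_option autoImplicit false

namespace CfsgLib.M12Type

open CfsgLib.CosetEnum (gword)

/-- `f` numbers the centraliser of `s`, compatibly with the table. -/
structure Emb {G : Type*} [Group G] (f : ℕ → G) (s : G) : Prop where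
  mul : ∀ i < 192, ∀ j < 192, f (mulI i j) = f i * f j
  inj : ∀ i < 192, ∀ j < 192, f i = f j → i = j
  surj : ∀ h : G, h * s = s * h → ∃ i < 192, f i = h
  map_u : f uI = s

/-- The letters: the two generators of the centraliser, `g`, `t`, and their inverses. -/
def lets {G : Type*} [Group G] (f : ℕ → G) (g t : G) (k : ℕ) : G :=
  ([f 1, (f 1)⁻¹, f 2, (f 2)⁻¹, g, g⁻¹, t, t⁻¹][k]?).getD 1

/-- The relators common to both fusion choices. -/
def baseRels : List (List ℕ) :=
  [[2, 2, 2], [0, 2, 1, 2, 0, 2, 1, 2], [0, 3, 0, 3, 0, 3, 0, 3], [0, 0, 2, 0, 0, 2, 0, 0, 2], [4, 4], [4, 0, 3, 4, 3, 0, 0, 2], [4, 0, 0, 2, 0, 4, 0, 0, 2, 0], [4, 0, 0, 0, 2, 0, 2, 4, 3, 1, 3, 1, 1, 1], [4, 0, 0, 4, 0, 0, 4, 0, 0, 3, 1, 3, 1, 1, 1], [6, 6], [6, 0, 0, 0, 2, 0, 2, 6, 3, 1, 3, 1, 1, 1], [6, 0, 0, 0, 3, 0, 3, 6, 2, 1, 2, 1, 1, 1], [6, 4, 3, 1, 3, 1, 6, 0, 2, 0, 2, 5], [6, 1, 3, 0, 3, 6, 1, 3, 0, 3, 6, 1, 3, 0, 3]]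

/-- The relator of the true fusion choice. -/
def goodRel : List ℕ := [3, 0, 0, 0, 3, 0, 3, 6, 2, 0, 0, 7, 2, 1, 2, 1, 1, 1, 1, 1]

/-- The relator of the collapsing fusion choice. -/
def badRel : List ℕ := [3, 0, 0, 0, 3, 0, 3, 6, 2, 1, 1, 7, 2, 1, 2, 1]

/-- The fusion choices differ by the element conjugating `w`. -/
def goodI : ℕ := 3

def badI : ℕ := 49

/-- `Emb`, with the gluing involution and the element `t`, satisfies the relations. -/
def Sat {G : Type*} [Group G] (f : ℕ → G) (g t : G) (r : List ℕ) : Prop :=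
  ∀ w ∈ r :: baseRels, gword (lets f g t) w = 1

end CfsgLib.M12Type
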