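import Cfsg.Agent.M12Type.Model8
import Cfsg.Agent.CosetEnum.Upper

/-!
Constants for the centraliser of order 192 in the alternating group of degree 8, and the relations
satisfied by two commuting elements of order three normalising the elementary subgroup of order 16.
-/

set_option autoImplicit false
set_option maxRecDepth 100000

namespace CfsgLib.M12Type.Eight

open CfsgLib.CosetEnum (gword)

/-- `(0 1)(2 3)`: the class of the second kind of involutions -/
def aI8 : ℕ := 53

/-- `(0 2)(1 3)(4 6)(5 7)`: in the normal subgroup of order eight -/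
def bI8 : ℕ := 6

/-- `(0 3)(1 2)(4 6)(5 7)`: in the other normal subgroup of order eight -/
def cI8 : ℕ := 83

/-- `(4 6)(5 7)`: outside, of the second kind -/
def o2I8 : ℕ := 69

/-- `(0 1)(2 3)(4 6)(5 7)`: outside, of the first kind -/
def o3I8 : ℕ := 185

/-- the elementary abelian subgroup of order 16 -/
def wList8 : List ℕ := [0, 6, 51, 53, 58, 65, 69, 83, 100, 136, 162, 172, 173, 179, 182, 185]

/-- its normaliser, of order 64 -/
def sList8 : List ℕ := [0, 2, 6, 8, 13, 17, 21, 26, 28, 32, 33, 35, 39, 43, 47, 51, 53, 57, 58, 62, 63, 65, 68, 69, 71, 75, 79, 82, 83, 84, 88, 91, 97, 98, 100, 104, 108, 113, 114, 116, 118, 125, 126, 127, 134, 136, 141, 143, 146, 152, 156, 160, 161, 162, 166, 167, 170, 172, 173, 176, 179, 182, 185, 189]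

/-- generators of the centraliser of `bI8` -/
def pb1 : ℕ := 2

def pb2 : ℕ := 28

def pb3 : ℕ := 53

/-- the two elements of a complement of `wList8` in `sList8` -/
def kP8 : ℕ := 28

def kQ8 : ℕ := 17

/-- the action of the first element of order three on the elementary subgroup -/
def t1Map : ℕ := 0x640000450000530000000000b9b60000000000000000003a00000000000000000000000000000000000000000000000000b30000000000000000000000000000000000000000000000000000000000000000000000ad000000000000000000000000000000008800000000000000000000000000ac000000060000000000003500000000a20041000000000000000000000000000000000000000000000000000000000000000000000000000000000000000033000000000000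

/-- the action of the second element of order three on the elementary subgroup -/
def t2Map : ℕ := 0x88000045000006000000000053b60000000000000000003500000000000000000000000000000000000000000000000000410000000000000000000000000000000000000000000000000000000000000000000000b3000000000000000000000000000000003300000000000000000000000000ac000000b9000000000000a2000000003a00ad000000000000000000000000000000000000000000000000000000000000000000000000000000000000000064000000000000

/-- the first element of order three, on the subgroup of order eight through `cI8` -/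
def e1Map : ℕ := 0x5300000000000000000000000000000000000000000000000000007f000000000000000000000000000000b300000000000000001500000000000000000000000000000000000000000000000000000000000000000000000000000000000000880000000000000000000000000000000000000000000000000000000000000000000000000000000000000000000000000000000000000000000000000098000000110000000000000000000000000000000000

/-- the second element of order three, on the subgroup of order eight through `bI8` -/
def e2Map : ℕ := 0x6000000000000000000000000000000000000000000000000000000000000000000000000000000000000000000000000000000000000000000000000000000000000000000000000000000000000b300005800000000000000002100000000000000000000000000000000000000000000000000000000000000000000000000000000000000000000000000000000000061000000001c00000000000000000000000000000000000000000064000000000000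

/-- The letters: the two generators of the centraliser, the two elements of order three, and
their inverses. -/
def lets8 {G : Type*} [Group G] (f : ℕ → G) (y₁ y₂ : G) (k : ℕ) : G :=
  ([f 1, (f 1)⁻¹, f 2, (f 2)⁻¹, y₁, y₁⁻¹, y₂, y₂⁻¹][k]?).getD 1

/-- The relators. -/
def rels8 : List (List ℕ) :=
  [[2, 2, 0, 2, 2, 2, 2, 1, 3, 3], [2, 2, 0, 2, 0, 0, 0, 3, 1, 3, 3], [0, 0, 2, 2, 2, 0, 0, 3, 1, 3, 1, 3], [2, 0, 0, 2, 0, 0, 2, 1, 3, 3, 3, 1], [2, 0, 0, 2, 2, 0, 2, 1, 3, 3, 1, 1], [4, 4, 4], [6, 6, 6], [4, 6, 5, 7], [4, 2, 2, 5, 3, 1, 3, 3, 1, 1], [4, 0, 0, 2, 2, 0, 2, 5, 1, 3, 3, 1, 1, 3], [4, 0, 2, 0, 0, 2, 0, 5, 1, 3, 1, 3, 1, 1, 3, 1, 1], [4, 0, 2, 2, 0, 0, 2, 5, 1, 3, 1, 1, 3, 1], [6, 2, 2, 7, 1, 3, 3, 1, 3, 3, 1], [6, 0, 0, 2, 2, 0, 2, 7, 1, 1, 3, 1, 1, 3, 1, 3, 1], [6, 0, 2, 0, 0, 2, 0, 7, 3, 1, 1, 3, 3, 1], [6, 0, 2, 2, 0, 0, 2, 7, 1, 3, 1, 3, 1, 1, 3, 1, 1], [0, 0, 2, 2, 0, 4, 1, 3, 3, 1, 1, 4], [0, 2, 0, 2, 4, 3, 1, 3, 1, 5], [0, 0, 2, 2, 0, 6, 1, 3, 3, 1, 1, 7], [0, 2, 0, 2, 6, 3, 1, 3, 1, 6], [4, 0, 2, 0, 2, 5, 3, 1, 3, 1], [0, 0, 4,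 0, 0, 4, 0, 0, 4, 0, 0, 4, 0, 0, 4, 0, 0, 4, 0, 0, 4], [6, 0, 2, 2, 0, 0, 7, 3, 3, 1, 1, 3, 3, 1], [0, 0, 6, 0, 0, 6, 0, 0, 6, 0, 0, 6, 0, 0, 6, 0, 0, 6, 0, 0, 6], [0, 0, 2, 4, 0, 0, 2, 4, 0, 0, 2, 4, 0, 0, 2, 4], [2, 0, 6, 2, 0, 6, 2, 0, 6, 2, 0, 6]]

/-- The two elements satisfy the relations. -/
def Sat8 {G : Type*} [Group G] (f : ℕ → G) (y₁ y₂ : G) : Prop :=
  ∀ w ∈ rels8, gword (lets8 f y₁ y₂) w = 1

/-- The first element of order three in the model, as images. -/
def mY1 : List ℕ := [0, 3, 1, 2, 5, 7, 6, 4]

/-- The second element of order three in the model, as images. -/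
def mY2 : List ℕ := [0, 2, 3, 1, 5, 7, 6, 4]

end CfsgLib.M12Type.Eight
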