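import Cfsg.Agent.M12Type.Facts
import Mathlib

/-!
The choice of the fifth letter in the symmetric group of degree five.
-/

set_option autoImplicit false
set_option maxRecDepth 100000

namespace CfsgLib.M12Type.Five

open CfsgLib.CosetEnum (allBelow)

/-- the code of a permutation -/
def code (p : Equiv.Perm (Fin 5)) : ℕ :=
  (p 0 : ℕ) + ((p 1 : ℕ) <<< 3) + ((p 2 : ℕ) <<< 6) + ((p 3 : ℕ) <<< 9) + ((p 4 : ℕ) <<< 12)

/-- a digit -/
def ap (a i : ℕ) : ℕ := (a >>> (3 * i)) % 8

/-- the product of two codes -/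
def mulC (a b : ℕ) : ℕ :=
  ap a (ap b 0) + ((ap a (ap b 1)) <<< 3) + ((ap a (ap b 2)) <<< 6) + ((ap a (ap b 3)) <<< 9) +
    ((ap a (ap b 4)) <<< 12)

/-- the code of the identity -/
def oneC : ℕ := 18056

/-- the `k`th code -/
def celem (k : ℕ) : ℕ := (0x29c109c045c205c141c221c02d410d4065430541614321404cc20cc068c308c260c340c14c422c4168432842644344402a310a30463206314232223031311130853405318134213050b210b088b408b280b440b15032303188342832843444302e210e20662306216223222031a111a085a405a181a421a070a310a08ca40ca380a460a1702330218c242c23842464204e120e106a130a1262134210519211908994099281944190711311108d140d1381146112701350128c144c13881468114e022e016a032a0266034601518231818984298285844581710331018d042d0385046502708350828c844c838884688 >>> (16 * k)) % 65536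

theorem code_one : code 1 = oneC := by decide +kernel

theorem ap_code (p : Equiv.Perm (Fin 5)) (i : Fin 5) : ap (code p) i = p i := by
  have h : ∀ a b c d e : Fin 5, ∀ i : Fin 5,
      ap ((a : ℕ) + ((b : ℕ) <<< 3) + ((c : ℕ) <<< 6) + ((d : ℕ) <<< 9) + ((e : ℕ) <<< 12)) i =
        (![a, b, c, d, e] i : ℕ) := by decide +kernel
  rw [code, h]
  congr 1
  fin_cases i <;> rfl

theorem code_mul (p q : Equiv.Perm (Fin 5)) : code (p * q) = mulC (code p) (code q) := by
  simp only [mulC]
  rw [show ap (code q) 0 = q 0 from ap_code q 0, show ap (code q) 1 = q 1 from ap_code q 1,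
    show ap (code q) 2 = q 2 from ap_code q 2, show ap (code q) 3 = q 3 from ap_code q 3,
    show ap (code q) 4 = q 4 from ap_code q 4, ap_code, ap_code, ap_code, ap_code, ap_code]
  rfl

theorem code_injective : Function.Injective code := fun p q h =>
  Equiv.ext fun i => Fin.ext (by rw [← ap_code p i, ← ap_code q i, h])

theorem exists_celem (p : Equiv.Perm (Fin 5)) : ∃ k < 120, celem k = code p := by
  have h : ∀ p : Equiv.Perm (Fin 5), anyBelow (fun k => Nat.beq (celem k) (code p)) 120 = true := by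
    decide +kernel
  obtain ⟨k, hk, e⟩ := anyBelow_spec (h p)
  exact ⟨k, hk, beq_spec.1 e⟩

theorem exists_perm {k : ℕ} (hk : k < 120) : ∃ p : Equiv.Perm (Fin 5), code p = celem k := by
  by_contra hno
  have hsub : (Finset.univ.image code) ⊆ ((Finset.range 120).erase k).image celem := by
    intro c hc
    obtain ⟨p, -, rfl⟩ := Finset.mem_image.1 hc
    obtain ⟨l, hl, e⟩ := exists_celem p
    exact Finset.mem_image.2 ⟨l, Finset.mem_erase.2 ⟨fun h => hno ⟨p, h ▸ e.symm⟩,
      Finset.mem_range.2 hl⟩, e⟩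
  have h1 := (Finset.card_le_card hsub).trans Finset.card_image_le
  rw [Finset.card_image_of_injective _ code_injective, Finset.card_univ, Fintype.card_perm,
    Fintype.card_fin, Finset.card_erase_of_mem (Finset.mem_range.2 hk), Finset.card_range,
    show Nat.factorial 5 = 120 from rfl] at h1
  omega

/-- equality of products of codes with an implicit product -/
noncomputable def eqB (a b : ℕ) : Bool := Nat.beq a b

/-- conjugate to `s` -/
noncomputable def cjB (s y : ℕ) : Bool :=
  anyBelow (fun c => eqB (mulC (celem c) s) (mulC y (celem c))) 120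

/-- the conditions on the fifth letter -/
noncomputable def tOK (r q ta t : ℕ) : Bool :=
  eqB (mulC t t) oneC && eqB (mulC t r) (mulC r t) && eqB (mulC t q) (mulC q t) &&
    cjB (mulC q ta) (mulC q t) &&
    eqB (mulC (mulC t (mulC q ta)) t) (mulC (mulC ta (mulC q t)) ta) &&
    eqB (mulC (mulC (mulC (mulC (mulC (mulC r ta) t) (mulC (mulC r ta) t)) (mulC (mulC r ta) t))
      (mulC (mulC r ta) t)) (mulC (mulC r ta) t)) oneC &&
    !(eqB (mulC (mulC r ta) t) oneC)

/-- the conjugates of the centre commuting with the second transposition -/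
noncomputable def threeOK (r q ta t : ℕ) : Bool :=
  allBelow (fun y => impB (eqB (mulC (celem y) ta) (mulC ta (celem y)) && cjB (mulC q ta) (celem y))
    (eqB (celem y) (mulC q ta) ||
      eqB (mulC (celem y) (mulC q (mulC (mulC r (mulC q ta)) (mulC r r))))
        (mulC (mulC q (mulC (mulC r (mulC q ta)) (mulC r r))) (mulC q t)) ||
      eqB (mulC (celem y) (mulC ta (mulC (mulC r (mulC q ta)) (mulC r r))))
        (mulC (mulC ta (mulC (mulC r (mulC q ta)) (mulC r r))) (mulC q t)))) 120

/-- the hypotheses on the three given letters -/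
noncomputable def hypOK (r q ta : ℕ) : Bool :=
  !(eqB (mulC (mulC r (mulC q ta)) (mulC r r)) (mulC q ta)) &&
    eqB (mulC (mulC (mulC r (mulC q ta)) (mulC r r)) (mulC q ta))
      (mulC (mulC q ta) (mulC (mulC r (mulC q ta)) (mulC r r))) &&
    !(eqB (mulC (mulC (mulC r (mulC q ta)) (mulC r r)) q)
      (mulC q (mulC (mulC r (mulC q ta)) (mulC r r)))) &&
    !(cjB (mulC q ta) q) && !(cjB (mulC q ta) ta)

/-- everything, for a given element of order three -/
noncomputable def rowOK (i : ℕ) : Bool :=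
  impB (eqB (mulC (mulC (celem i) (celem i)) (celem i)) oneC && !(eqB (celem i) oneC))
    (allBelow (fun j => impB (eqB (mulC (celem j) (celem j)) oneC && !(eqB (celem j) oneC) &&
      eqB (mulC (mulC (mulC (celem j) (celem i)) (celem j)) (celem i)) oneC)
      (allBelow (fun k => impB (eqB (mulC (celem k) (celem k)) oneC && !(eqB (celem k) oneC) &&
        eqB (mulC (celem j) (celem k)) (mulC (celem k) (celem j)) && !(eqB (celem k) (celem j)) &&
        hypOK (celem i) (celem j) (celem k))
        (anyBelow (fun l => tOK (celem i) (celem j) (celem k) (celem l) &&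
          threeOK (celem i) (celem j) (celem k) (celem l)) 120)) 120)) 120)

theorem rows : allBelow rowOK 120 = true := by decide +kernel

/-- The choice of the fifth letter. -/
theorem exists_t (r q ta x : Equiv.Perm (Fin 5)) (hr : r * r * r = 1) (hr1 : r ≠ 1)
    (hq : q * q = 1) (hq1 : q ≠ 1) (hqr : q * r * q * r = 1) (hta : ta * ta = 1) (hta1 : ta ≠ 1)
    (hqt : q * ta = ta * q) (hne : ta ≠ q) (hx : x = r * (q * ta) * (r * r))
    (hxs : x ≠ q * ta) (hcs : x * (q * ta) = q * ta * x) (hxq : x * q ≠ q * x)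
    (hq' : ∀ c : Equiv.Perm (Fin 5), c * (q * ta) ≠ q * c)
    (ht' : ∀ c : Equiv.Perm (Fin 5), c * (q * ta) ≠ ta * c) :
    ∃ t, t * t = 1 ∧ t * r = r * t ∧ t * q = q * t ∧
      (∃ c : Equiv.Perm (Fin 5), c * (q * ta) = q * t * c) ∧
      t * (q * ta) * t = ta * (q * t) * ta ∧
      r * ta * t * (r * ta * t) * (r * ta * t) * (r * ta * t) * (r * ta * t) = 1 ∧
      r * ta * t ≠ 1 ∧
      ∀ y, y * ta = ta * y → (∃ c : Equiv.Perm (Fin 5), c * (q * ta) = y * c) →
        y = q * ta ∨ y * (q * x) = q * x * (q * t) ∨ y * (ta * x) = ta * x * (q * t) := by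
  obtain ⟨i, hi, ei⟩ := exists_celem r
  obtain ⟨j, hj, ej⟩ := exists_celem q
  obtain ⟨k, hk, ek⟩ := exists_celem ta
  have hcj : ∀ y, cjB (code (q * ta)) (code y) = true ↔
      ∃ c : Equiv.Perm (Fin 5), c * (q * ta) = y * c := fun y => by
    constructor
    · intro h
      obtain ⟨c, hc, e⟩ := anyBelow_spec h
      obtain ⟨p, hp⟩ := exists_perm hc
      refine ⟨p, code_injective ?_⟩
      rw [code_mul p, code_mul y, hp]
      exact beq_spec.1 e
    · rintro ⟨c, hc⟩
      obtain ⟨l, hl, el⟩ := exists_celem c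
      have hh : eqB (mulC (celem l) (code (q * ta))) (mulC (code y) (celem l)) = true :=
        beq_spec.2 (by rw [el, ← code_mul, ← code_mul, hc])
      suffices ∀ n, l < n → anyBelow
          (fun c => eqB (mulC (celem c) (code (q * ta))) (mulC (code y) (celem c))) n = true from
        this 120 hl
      intro n hn
      induction n with
      | zero => omega
      | succ n ih =>
        rw [anyBelow, Bool.or_eq_true]
        rcases Nat.lt_succ_iff_lt_or_eq.1 hn with h' | h'
        · exact .inr (ih h')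
        · exact .inl (h' ▸ hh)
  have hE : ∀ a b : Equiv.Perm (Fin 5), eqB (code a) (code b) = true ↔ a = b := fun a b =>
    beq_spec.trans code_injective.eq_iff
  have hN : ∀ a b : Equiv.Perm (Fin 5), eqB (code a) (code b) = false ↔ a ≠ b := fun a b => by
    rw [← Bool.not_eq_true, hE]
  have h := impB_spec (allBelow_spec rows i hi) (by
    simp only [ei, ← code_one, ← code_mul, Bool.and_eq_true, Bool.not_eq_true', hE, hN]
    exact ⟨hr, hr1⟩)
  have h := impB_spec (allBelow_spec h j hj) (by
    simp only [ei, ej, ← code_one, ← code_mul, Bool.and_eq_true, Bool.not_eq_true', hE, hN]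
    exact ⟨⟨hq, hq1⟩, hqr⟩)
  have h := impB_spec (allBelow_spec h k hk) (by
    simp only [hypOK, ei, ej, ek, ← code_one, ← code_mul, Bool.and_eq_true, Bool.not_eq_true', hE,
      hN, ← hx]
    refine ⟨⟨⟨⟨hta, hta1⟩, hqt⟩, hne⟩, ⟨⟨⟨hxs, hcs⟩, hxq⟩, ?_⟩, ?_⟩
    · exact Bool.eq_false_iff.2 fun h => let ⟨c, hc⟩ := (hcj q).1 h; hq' c hc
    · exact Bool.eq_false_iff.2 fun h => let ⟨c, hc⟩ := (hcj ta).1 h; ht' c hc)
  obtain ⟨l, hl, ht⟩ := anyBelow_spec h
  obtain ⟨t, et⟩ := exists_perm hl
  simp only [tOK, threeOK, ei, ej, ek, ← et, ← code_one, ← code_mul, Bool.and_eq_true,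
    Bool.not_eq_true', hE, hN] at ht
  obtain ⟨⟨⟨⟨⟨⟨⟨h1, h2⟩, h3⟩, h4⟩, h5⟩, h6⟩, h7⟩, h8⟩ := ht
  refine ⟨t, h1, h2, h3, (hcj _).1 h4, h5, h6, h7, fun y hy hc => ?_⟩
  obtain ⟨m, hm, em⟩ := exists_celem y
  have := impB_spec (allBelow_spec h8 m hm) (by
    simp only [em, ← code_mul, Bool.and_eq_true, hE]
    exact ⟨hy, (hcj y).2 hc⟩)
  simp only [em, ← code_mul, Bool.or_eq_true, hE, or_assoc, ← hx] at this
  exact this

end CfsgLib.M12Type.Five
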