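import Cfsg.Agent.M12Type.Relations
import Cfsg.Agent.M12Type.Five
import Cfsg.Agent.CentralizerD8.HalfFused
import Mathlib

/-!
The centraliser of the second class of involutions.
-/

set_option autoImplicit false

namespace CfsgLib.M12Type

open CfsgLib.StronglyEmbedded (orderOf_two_iff orderOf_conj)

variable {G : Type*} [Group G] {f : ℕ → G} {s g : G}

theorem rho_facts : rhoI < 192 ∧ cjI rhoI uI = uI ∧ cjI rhoI xI = xuI ∧ cjI rhoI zI = zI ∧
    stdI xuI = xuI ∧ inP (mulI aI qI) = true ∧
    mulI (mulI qI zI) qI = mulI qI (mulI zI qI) ∧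
    inP (mulI (invI aI) qI) = true ∧
    mulI (mulI (stdI (mulI (invI aI) qI)) zI) (mulI aI qI) < 192 ∧
    inP (mulI (stdI (mulI (invI aI) qI)) (mulI (mulI zI aI) qI)) = true ∧
    mulI aI (stdI (mulI (stdI (mulI (invI aI) qI)) (mulI (mulI zI aI) qI))) = invI rhoI := by
  decide +kernel

theorem cz_facts :
    mulI qI tauI = uI ∧ mulI tauI qI = uI ∧ commI qI zI = true ∧ commI tauI zI = true ∧
    clsI qI = 10 ∧ clsI tauI = 10 ∧ clsI (mulI qI zI) = 10 ∧ clsI (mulI tauI zI) = 10 ∧
    isInv qI = true ∧ isInv tauI = true ∧ isInv (mulI qI zI) = true ∧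
    isInv (mulI tauI zI) = true ∧ qI ≠ tauI ∧ mulI qI zI ≠ tauI ∧ qI ≠ zI ∧ tauI ≠ zI ∧
    mulI qI xI ≠ mulI xI qI ∧ mulI qI xI ≠ mulI (mulI xI qI) zI ∧
    mulI qI xI = goodI ∧ (mulI tauI xI = badI ∧ goodI = aI ∧ badI < 192) ∧
    mulI tauI zI = cjI (invI 2) zI ∧ cjI (invI 2) qI = zI ∧ mulI aI aI = uI ∧
    commI aI zI = true := by
  decide +kernel

theorem Glue.conj' (hg : Glue f g) {i : ℕ} (hi : i < 192) (hP : inP i = true) :
    g * f i = f (stdI i) * g := by
  calc g * f i = g * f i * (g * g) := by rw [hg.gg, mul_one]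
    _ = _ := by rw [← mul_assoc, hg.conj i hi hP]

variable (h : Emb f s) (hg : Glue f g)
include h hg

theorem Glue.gs : g * s * g = f xI := by
  rw [← h.map_u, hg.conj _ const_facts.1 (by decide +kernel), std_facts.2.1]

theorem Glue.gz : g * f zI = f zI * g := by
  rw [hg.conj' const_facts.2.2.2.1 (by decide +kernel), std_facts.2.2.2.2.1]

theorem Glue.rho_z : g * f rhoI * f zI = f zI * (g * f rhoI) := by
  have hr := rho_facts.1
  have hz := const_facts.2.2.2.1
  have e : f rhoI * f zI = f zI * f rhoI := by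
    have := h.map_cj hr hz
    rw [rho_facts.2.2.2.1] at this
    exact mul_inv_eq_iff_eq_mul.1 this.symm
  rw [mul_assoc, e, ← mul_assoc, hg.gz h, mul_assoc]

theorem Glue.rho_s : g * f rhoI * s * (g * f rhoI)⁻¹ = f xI := by
  have e : f rhoI * s * (f rhoI)⁻¹ = s := by rw [h.comm_s rho_facts.1, mul_inv_cancel_right]
  calc g * f rhoI * s * (g * f rhoI)⁻¹ = g * (f rhoI * s * (f rhoI)⁻¹) * g⁻¹ := by group
    _ = f xI := by rw [e, inv_eq_of_mul_eq_one_right hg.gg, hg.gs h]

theorem Glue.rho_x : g * f rhoI * f xI * (g * f rhoI)⁻¹ = f xuI := by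
  have e : f rhoI * f xI * (f rhoI)⁻¹ = f xuI := by
    rw [← h.map_cj rho_facts.1 const_facts.2.1, rho_facts.2.2.1]
  calc g * f rhoI * f xI * (g * f rhoI)⁻¹ = g * (f rhoI * f xI * (f rhoI)⁻¹) * g⁻¹ := by group
    _ = g * f xuI * g := by rw [e, inv_eq_of_mul_eq_one_right hg.gg]
    _ = f xuI := by rw [hg.conj _ const_facts.2.2.1 (by decide +kernel), std_facts.2.2.2.1]

theorem Glue.rho_cube : g * f rhoI * (g * f rhoI) * (g * f rhoI) = 1 := by
  have hz := const_facts.2.2.2.1
  have ha := const_facts.2.2.2.2.1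
  have hz2 : f zI * f zI = 1 := (orderOf_two_iff.1
    (h.orderOf_invol hz const_facts.2.2.2.2.2.2.2.2.2.2.2.2.2.2.1)).1
  have hza : f zI * f aI = f aI * f zI :=
    ((h.commI_iff ha hz).1 cz_facts.2.2.2.2.2.2.2.2.2.2.2.2.2.2.2.2.2.2.2.2.2.2.2).symm
  have e : g * f rhoI = f zI * (g * f aI) := by
    rw [rhoI, h.mul _ hz _ ha, ← mul_assoc, hg.gz h, mul_assoc]
  have hc : g * f aI * f zI = f zI * (g * f aI) := by
    rw [mul_assoc, ← hza, ← mul_assoc, hg.gz h, mul_assoc]
  rw [e]
  calc f zI * (g * f aI) * (f zI * (g * f aI)) * (f zI * (g * f aI))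
      = (f zI * (g * f aI)) ^ 3 := by rw [pow_succ, pow_two]
    _ = f zI ^ 3 * (g * f aI) ^ 3 := (show Commute (f zI) (g * f aI) from hc.symm).mul_pow 3
    _ = 1 := by rw [pow_succ, pow_two, hz2, one_mul, pow_succ, pow_two, hg.cube, hz2]

theorem Glue.rho_q : f qI * (g * f rhoI) * f qI * (g * f rhoI) = 1 := by
  obtain ⟨hr, -, -, -, -, -, -, hp, -, hX, hY⟩ := rho_facts
  have ha := const_facts.2.2.2.2.1
  have hz := const_facts.2.2.2.1
  have hq := const_facts.2.2.2.2.2.2.1
  have hp' := mul_lt (inv_lt ha) hq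
  obtain ⟨l, hl, hle⟩ := exists_pelem hp' hp
  have hs : stdI (mulI (invI aI) qI) < 192 := hle ▸ (std_spec hl).1
  have hX' := mul_lt hs (mul_lt (mul_lt hz ha) hq)
  have e1 : f qI = f aI * f (mulI (invI aI) qI) := by
    rw [h.mul _ (inv_lt ha) _ hq, h.map_inv ha, mul_inv_cancel_left]
  have hginv : g⁻¹ = g := inv_eq_of_mul_eq_one_right hg.gg
  obtain ⟨l', hl', hle'⟩ := exists_pelem hX' hX
  have hsX : stdI (mulI (stdI (mulI (invI aI) qI)) (mulI (mulI zI aI) qI)) < 192 :=
    hle' ▸ (std_spec hl').1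
  have e2 : f qI * (g * f rhoI) * f qI =
      f (mulI aI (stdI (mulI (stdI (mulI (invI aI) qI)) (mulI (mulI zI aI) qI)))) * g := by
    calc f qI * (g * f rhoI) * f qI
        = f aI * (f (mulI (invI aI) qI) * g) * f rhoI * f qI := by rw [e1]; group
      _ = f aI * (g * f (stdI (mulI (invI aI) qI))) * f rhoI * f qI := by
          congr 3
          have := hg.conj _ hp' hp
          calc f (mulI (invI aI) qI) * g = (g * g) * f (mulI (invI aI) qI) * g := by
                rw [hg.gg, one_mul]
            _ = g * (g * f (mulI (invI aI) qI) * g) := by group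
            _ = _ := by rw [this]
      _ = f aI * (g * (f (stdI (mulI (invI aI) qI)) * (f (mulI zI aI) * f qI))) := by
          rw [rhoI]; group
      _ = f aI * (g * f (mulI (stdI (mulI (invI aI) qI)) (mulI (mulI zI aI) qI))) := by
          rw [← h.mul _ (mul_lt hz ha) _ hq, ← h.mul _ hs _ (mul_lt (mul_lt hz ha) hq)]
      _ = _ := by rw [hg.conj' hX' hX, h.mul _ ha _ hsX, mul_assoc]
  rw [e2, hY, h.map_inv hr]
  calc (f rhoI)⁻¹ * g * (g * f rhoI) = (f rhoI)⁻¹ * (g * g) * f rhoI := by group
    _ = 1 := by rw [hg.gg, mul_one, inv_mul_cancel]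

omit hg in
/-- Involutions commuting with `z` outside class 10 are the three of the four-group. -/
theorem Emb.s_type_list {i : ℕ} (hi : i < 192) (hv : isInv i = true) (hc : commI i zI = true)
    (h10 : clsI i ≠ 10) : i = uI ∨ i = xI ∨ i = xuI := by
  have hd : CfsgLib.CosetEnum.allBelow (fun i => impB (isInv i && commI i zI && !(Nat.beq (clsI i) 10))
      (Nat.beq i uI || Nat.beq i xI || Nat.beq i xuI)) 192 = true := by decide +kernel
  have := impB_spec (allBelow_spec hd i hi) (by simp [hv, hc, beq_false_spec, h10])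
  simpa [Bool.or_eq_true, beq_spec, or_assoc] using this

omit hg in
theorem Emb.not_conj_s_z : ¬ IsConj s (f zI) :=
  h.not_conj_ten const_facts.2.2.2.1 const_facts.2.2.2.2.2.2.2.2.2.2.2.2.2.2.1
    const_facts.2.2.2.2.2.2.2.2.2.2.2.1

variable [Finite G]

omit hg in
/-- An element commuting with `z` conjugate to `s` is not conjugate to `s` after multiplying by
`z`. -/
theorem Emb.not_conj_mul_z {y : G} (hy : IsConj s y) (hyz : y * f zI = f zI * y) :
    ¬ IsConj s (y * f zI) := by
  obtain ⟨c, hc⟩ := isConj_iff.mp hy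
  have hz := const_facts.2.2.2.1
  obtain ⟨i, hi, hv, hie⟩ := h.exists_invol (y := c⁻¹ * f zI * c)
    (by simpa using (orderOf_conj c⁻¹ (f zI)).trans
          (h.orderOf_invol hz const_facts.2.2.2.2.2.2.2.2.2.2.2.2.2.2.1)) (by
      rw [← hc] at hyz
      calc c⁻¹ * f zI * c * s = c⁻¹ * (f zI * (c * s * c⁻¹)) * c := by group
        _ = c⁻¹ * (c * s * c⁻¹ * f zI) * c := by rw [hyz]
        _ = _ := by group)
  have hiz : IsConj (f zI) (f i) := isConj_iff.mpr ⟨c⁻¹, by rw [hie]; group⟩
  intro hcj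
  have h2 : IsConj s (f (mulI uI i)) := hcj.trans (isConj_iff.mpr ⟨c⁻¹, by
    rw [h.mul _ const_facts.1 _ hi, h.map_u, hie, ← hc]; group⟩)
  have h10 : clsI i = 10 := by
    rcases inv_classes hi hv with e | e | e | e
    · exact absurd (hiz.symm.trans (IsConj.refl _)) fun _ => h.not_conj_s_z (by
        rw [e, h.map_u] at hiz; exact hiz.symm)
    · exact e
    · exfalso
      -- class 11 is fused to `s` or its members square to conjugates of `z`
      have hx := h2
      have hd : CfsgLib.CosetEnum.allBelow (fun i => impB (Nat.beq (clsI i) 11)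
          (Nat.beq (clsI (mulI uI i)) 11)) 192 = true := by decide +kernel
      have he := beq_spec.1 (impB_spec (allBelow_spec hd i hi) (beq_spec.2 e))
      exact h.not_conj_s_z ((hx.trans ((h.isConj_of_cls (mul_lt const_facts.1 hi)
        const_facts.2.2.2.2.2.1 he (.inr (.inl rfl))).symm.trans
          (h.isConj_of_cls hi const_facts.2.2.2.2.2.1 e (.inr (.inl rfl))))).trans hiz.symm)
    · exfalso
      have hd : CfsgLib.CosetEnum.allBelow (fun i => impB (Nat.beq (clsI i) 12)
          (Nat.beq (clsI (mulI uI i)) 12)) 192 = true := by decide +kernel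
      have he := beq_spec.1 (impB_spec (allBelow_spec hd i hi) (beq_spec.2 e))
      exact h.not_conj_s_z ((h2.trans ((h.isConj_of_cls (mul_lt const_facts.1 hi)
        const_facts.2.1 he (.inr (.inr rfl))).symm.trans
          (h.isConj_of_cls hi const_facts.2.1 e (.inr (.inr rfl))))).trans hiz.symm)
  exact h.not_conj_ten (mul_lt const_facts.1 hi) (by
    have hd : CfsgLib.CosetEnum.allBelow (fun i => impB (Nat.beq (clsI i) 10)
      (isInv (mulI uI i))) 192 = true := by decide +kernel
    exact impB_spec (allBelow_spec hd i hi) (beq_spec.2 h10)) (ten_mul_u hi h10).1 h2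

/-- The facts about the centraliser of `z`. -/
structure CZ {G : Type*} [Group G] (f : ℕ → G) (s g : G) : Prop where
  alt : (Nat.card (Subgroup.centralizer ({f zI} : Set G)) = 240 ∧
      ∃ t, Fifth f g t ∧ (FusAt f t goodI ∨ FusAt f t badI) ∧
        Subgroup.centralizer ({f zI} : Set G) ≤ Subgroup.closure {f 1, f 2, g, t}) ∨
    (Nat.card (Subgroup.centralizer ({f zI} : Set G)) = 48 ∧
      ∀ y : G, IsConj s y → y * f zI = f zI * y → y = s ∨ y = f xI ∨ y = f xuI)

theorem Emb.mem_closure (i : ℕ) (hi : i < 192) (t : G) :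
    f i ∈ Subgroup.closure ({f 1, f 2, g, t} : Set G) := by
  have hw : CfsgLib.CosetEnum.allBelow (fun i => Nat.beq i 0 ||
      (Nat.blt (parI i) i && Nat.beq (mulI (parI i) (lastI i)) i &&
        (Nat.beq (lastI i) 1 || Nat.beq (lastI i) 2))) 192 = true := by decide +kernel
  induction i using Nat.strong_induction_on with
  | _ i ih =>
  have hrow := allBelow_spec hw i hi
  simp only [Bool.or_eq_true, Bool.and_eq_true, beq_spec, blt_spec] at hrow
  rcases hrow with rfl | ⟨⟨hp, e⟩, hl⟩
  · rw [h.map_zero]; exact one_mem _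
  · rw [← e]
    rcases hl with hl | hl <;> rw [hl, h.mul _ (by omega) _ (by norm_num)] <;>
      exact mul_mem (ih _ hp (by omega)) (Subgroup.subset_closure (by simp))

set_option maxHeartbeats 1000000 in
theorem Glue.cz : CZ f s g := by
  classical
  haveI : Fact (Nat.Prime 2) := ⟨Nat.prime_two⟩
  obtain ⟨hu, hx, hxu, hz, ha, -, hq, hta, -⟩ := const_facts
  obtain ⟨qtau, tauq, hqz, htz, q10, t10, qz10, tz10, qv, tv, qzv, tzv, qnt, qznt, qnz, tnz, qx1, qx2,
    qxg, ⟨txb, gda, hbad⟩, zp, Bq, aa, haz⟩ := cz_facts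
  set C := Subgroup.centralizer ({f zI} : Set G) with hC
  have memC : ∀ {y : G}, y * f zI = f zI * y → y ∈ C := fun hy =>
    Subgroup.mem_centralizer_singleton_iff.mpr hy
  have ofC : ∀ y : C, (y : G) * f zI = f zI * (y : G) := fun y =>
    Subgroup.mem_centralizer_singleton_iff.mp y.2
  have hz2 : orderOf (f zI) = 2 := h.orderOf_invol hz const_facts.2.2.2.2.2.2.2.2.2.2.2.2.2.2.1
  obtain ⟨zz, zne⟩ := orderOf_two_iff.1 hz2
  let zc : C := ⟨f zI, memC rfl⟩
  have hzcen : zc ∈ Subgroup.center C :=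
    Subgroup.mem_center_iff.2 fun y => Subtype.ext (ofC y)
  haveI hN : (Subgroup.zpowers zc).Normal := by
    refine ⟨fun n hn c => ?_⟩
    have : n ∈ Subgroup.center C := Subgroup.zpowers_le.2 hzcen hn
    rwa [Subgroup.mem_center_iff.1 this c, mul_inv_cancel_right]
  set N := Subgroup.zpowers zc with hNdef
  set π := QuotientGroup.mk' N with hπ
  have hker : ∀ a b : C, π a = π b → (b : G) = a ∨ (b : G) = a * f zI := by
    intro a b e
    have : a⁻¹ * b ∈ N := by
      rwa [hπ, QuotientGroup.mk'_apply, QuotientGroup.mk'_apply, QuotientGroup.eq] at e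
    obtain ⟨n, hn⟩ := Subgroup.mem_zpowers_iff.1 this
    have h2 : zc ^ (2 : ℤ) = 1 := by
      rw [zpow_two]; exact Subtype.ext zz
    rcases Int.even_or_odd n with ⟨k, hk⟩ | ⟨k, hk⟩
    · left
      rw [hk, ← two_mul, zpow_mul, h2, one_zpow] at hn
      exact congrArg Subtype.val (inv_mul_eq_one.1 hn.symm).symm
    · right
      rw [hk, zpow_add, zpow_mul, h2, one_zpow, one_mul, zpow_one] at hn
      have := congrArg Subtype.val hn
      simp only [Subgroup.coe_mul, Subgroup.coe_inv, zc] at this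
      rw [this, mul_inv_cancel_left]
  have hlift : ∀ a b : C, π a = π b → IsConj s (a : G) → IsConj s (b : G) → a = b := by
    intro a b e ca cb
    rcases hker a b e with e' | e'
    · exact Subtype.ext e'.symm
    · exact absurd (e' ▸ cb) (h.not_conj_mul_z ca (ofC a))
  have memi : ∀ {i : ℕ}, i < 192 → commI i zI = true → f i ∈ C := fun hi hc =>
    memC ((h.commI_iff hi hz).1 hc)
  have huz : commI uI zI = true := by decide +kernel
  have hxz : commI xI zI = true := const_facts.2.2.2.2.2.2.2.2.2.2.2.2.2.2.2.2.2.2.1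
  let sc : C := ⟨f uI, memi hu huz⟩
  let xc : C := ⟨f xI, memi hx hxz⟩
  let ac : C := ⟨f aI, memi ha haz⟩
  let qc : C := ⟨f qI, memi hq hqz⟩
  let tc : C := ⟨f tauI, memi hta htz⟩
  let rc : C := ⟨g * f rhoI, memC (hg.rho_z h)⟩
  have scs : IsConj s (sc : G) := by show IsConj s (f uI); rw [h.map_u]
  have hrs : rc * sc * rc⁻¹ = xc := Subtype.ext (by
    show g * f rhoI * f uI * (g * f rhoI)⁻¹ = f xI
    rw [h.map_u]; exact hg.rho_s h)
  -- conjugates of the image of `s` lift to conjugates
  have hten : ∀ (i : ℕ) (hi : i < 192) (hc : commI i zI = true), isInv i = true → clsI i = 10 →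
      isInv (mulI i zI) = true → clsI (mulI i zI) = 10 →
      ∀ c : C ⧸ N, c * π sc ≠ π ⟨f i, memi hi hc⟩ * c := by
    intro i hi hc hv h10 hv' h10' c e
    obtain ⟨c', rfl⟩ := QuotientGroup.mk'_surjective N c
    have e' : π ⟨f i, memi hi hc⟩ = π (c' * sc * c'⁻¹) := by
      rw [map_mul, map_mul, map_inv, e, mul_inv_cancel_right]
    have hcj : IsConj s ((c' * sc * c'⁻¹ : C) : G) := isConj_iff.mpr ⟨(c' : G), by
      simp [sc, h.map_u]⟩
    rcases hker _ _ e' with e2 | e2
    · rw [e2] at hcj; exact h.not_conj_ten hi hv h10 hcj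
    · rw [e2] at hcj
      rw [show f i * f zI = f (mulI i zI) from (h.mul i hi zI hz).symm] at hcj
      exact h.not_conj_ten (mul_lt hi hz) hv' h10' hcj
  -- the centraliser of the image of `s`
  have hcent : ∀ y : C, π y * π sc = π sc * π y → ∃ i < 192, commI i zI = true ∧ f i = y := by
    intro y hy
    have e : π sc = π (y * sc * y⁻¹) := by rw [map_mul, map_mul, map_inv, hy, mul_inv_cancel_right]
    have := hlift _ _ e scs (isConj_iff.mpr ⟨(y : G), by simp [sc, h.map_u]⟩)
    have e2 : (y : G) * s = s * (y : G) := by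
      have e3 := congrArg Subtype.val this
      simp only [Subgroup.coe_mul, Subgroup.coe_inv, sc, h.map_u] at e3
      exact mul_inv_eq_iff_eq_mul.1 e3.symm
    obtain ⟨i, hi, e4⟩ := h.surj _ e2
    exact ⟨i, hi, (h.commI_iff hi hz).2 (by rw [e4]; exact ofC y), e4⟩
  set α := π sc with hα
  set reps := (List.range 192).filter fun i => commI i zI && Nat.blt i (mulI i zI) with hreps
  have hrlen : reps.toFinset.card = 8 := by
    rw [List.toFinset_card_of_nodup (List.nodup_range.filter _)]
    decide +kernel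
  have hrep : ∀ {i : ℕ}, i ∈ reps.toFinset → i < 192 ∧ commI i zI = true ∧ i < mulI i zI := by
    intro i hi
    rw [List.mem_toFinset, hreps, List.mem_filter, List.mem_range, Bool.and_eq_true, blt_spec] at hi
    exact hi
  have hcard8 : Nat.card (Subgroup.centralizer ({α} : Set (C ⧸ N))) = 8 := by
    refine (Nat.card_eq_of_bijective (fun i : reps.toFinset => (⟨π ⟨f i.1, memi (hrep i.2).1
      (hrep i.2).2.1⟩, Subgroup.mem_centralizer_singleton_iff.mpr (by
        rw [hα, ← map_mul, ← map_mul]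
        congr 1
        exact Subtype.ext (by
          show f i.1 * f uI = f uI * f i.1
          rw [h.map_u]; exact h.comm_s (hrep i.2).1))⟩ :
      Subgroup.centralizer ({α} : Set (C ⧸ N)))) ⟨fun i j e => ?_, fun y => ?_⟩).symm.trans
      (by rw [Nat.card_eq_finsetCard, hrlen])
    · obtain ⟨hi1, hi2, hi3⟩ := hrep i.2
      obtain ⟨hj1, hj2, hj3⟩ := hrep j.2
      rcases hker _ _ (congrArg Subtype.val e) with e' | e'
      · exact Subtype.ext (h.inj _ hi1 _ hj1 e'.symm)
      · exfalso
        have e2 : (j : ℕ) = mulI i zI := h.inj _ hj1 _ (mul_lt hi1 hz) (by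
          rw [h.mul _ hi1 _ hz]; exact e')
        have e3 : mulI j zI = i := h.inj _ (mul_lt hj1 hz) _ hi1 (by
          rw [h.mul _ hj1 _ hz, e2, h.mul _ hi1 _ hz, mul_assoc, zz, mul_one])
        omega
    · obtain ⟨y', hy'⟩ := QuotientGroup.mk'_surjective N y.1
      have hy := Subgroup.mem_centralizer_singleton_iff.mp y.2
      rw [← hy'] at hy
      obtain ⟨i, hi, hiz, hie⟩ := hcent y' hy
      by_cases hlt : i < mulI i zI
      · refine ⟨⟨i, by rw [List.mem_toFinset, hreps, List.mem_filter, List.mem_range,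
          Bool.and_eq_true, blt_spec]; exact ⟨hi, hiz, hlt⟩⟩, Subtype.ext ?_⟩
        show π ⟨f i, _⟩ = y.1
        rw [← hy']
        exact congrArg π (Subtype.ext hie)
      · have hd : CfsgLib.CosetEnum.allBelow (fun i => impB (commI i zI)
            (commI (mulI i zI) zI && (Nat.blt i (mulI i zI) ||
              Nat.blt (mulI i zI) (mulI (mulI i zI) zI)))) 192 = true := by decide +kernel
        have hd' := impB_spec (allBelow_spec hd i hi) hiz
        simp only [Bool.and_eq_true, Bool.or_eq_true, blt_spec] at hd'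
        refine ⟨⟨mulI i zI, by rw [List.mem_toFinset, hreps, List.mem_filter, List.mem_range,
          Bool.and_eq_true, blt_spec]; exact ⟨mul_lt hi hz, hd'.1, hd'.2.resolve_left hlt⟩⟩,
          Subtype.ext ?_⟩
        show π ⟨f (mulI i zI), _⟩ = y.1
        rw [← hy', hπ, QuotientGroup.mk'_apply, QuotientGroup.mk'_apply, QuotientGroup.eq]
        refine Subgroup.mem_zpowers_iff.2 ⟨1, ?_⟩
        rw [zpow_one]
        refine Subtype.ext ?_
        simp only [Subgroup.coe_mul, Subgroup.coe_inv, h.mul _ hi _ hz, hie, zc]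
        calc f zI = ((y' : G) * f zI)⁻¹ * ((y' : G) * f zI) * f zI := by group
          _ = ((y' : G) * f zI)⁻¹ * ((y' : G) * (f zI * f zI)) := by group
          _ = _ := by rw [zz, mul_one]
  have hbI : mulI xI (invI aI) < 192 := mul_lt hx (inv_lt ha)
  have hbz : commI (mulI xI (invI aI)) zI = true := by decide +kernel
  let bc : C := ⟨f (mulI xI (invI aI)), memi hbI hbz⟩
  have hba : bc * ac = xc := Subtype.ext (by
    show f (mulI xI (invI aI)) * f aI = f xI
    rw [h.mul _ hx _ (inv_lt ha), h.map_inv ha, inv_mul_cancel_right])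
  have hαne : α ≠ 1 := by
    intro e
    rcases hker sc 1 (by rw [map_one, ← hα, e]) with e' | e'
    · exact (orderOf_two_iff.1 (h.orderOf_invol hu const_facts.2.2.2.2.2.2.2.2.1)).2 e'.symm
    · have e2 : mulI uI zI = 0 := h.inj _ (mul_lt hu hz) 0 (by norm_num) (by
        rw [h.mul _ hu _ hz, h.map_zero]; exact e'.symm)
      revert e2
      decide +kernel
  have hss : sc * sc = 1 := Subtype.ext
    (orderOf_two_iff.1 (h.orderOf_invol hu const_facts.2.2.2.2.2.2.2.2.1)).1
  have hacac : ac * ac = sc := Subtype.ext (by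
    show f aI * f aI = f uI; rw [← h.mul _ ha _ ha, aa])
  have hD : CfsgLib.CentralizerD8.Data α (π ac) (π bc) := by
    have hb2 : bc * bc = 1 := Subtype.ext (by
      show f (mulI xI (invI aI)) * f (mulI xI (invI aI)) = 1
      rw [← h.mul _ hbI _ hbI, show mulI (mulI xI (invI aI)) (mulI xI (invI aI)) = 0 by
        decide +kernel, h.map_zero])
    have hbinv : bc * ac * bc⁻¹ = ac⁻¹ := Subtype.ext (by
      show f (mulI xI (invI aI)) * f aI * (f (mulI xI (invI aI)))⁻¹ = (f aI)⁻¹
      rw [← h.map_cj hbI ha, show cjI (mulI xI (invI aI)) aI = invI aI by decide +kernel,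
        h.map_inv ha])
    refine ⟨hαne, by rw [hα, ← map_mul, hss, map_one], by rw [hα, ← map_mul, hacac],
      by rw [← map_mul, hb2, map_one],
      by rw [← map_inv, ← map_mul, ← map_mul, hbinv, map_inv], ?_, ?_, hcard8⟩
    · intro hmem
      obtain ⟨n, hn⟩ := Subgroup.mem_zpowers_iff.1 hmem
      have e1 : π bc * π ac * (π bc)⁻¹ = π ac := by
        rw [← hn, ← zpow_add_one, ← zpow_neg, ← zpow_add]; simp
      rw [← map_inv, ← map_mul, ← map_mul, hbinv, map_inv] at e1
      apply hαne
      rw [hα, ← hacac, map_mul]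
      nth_rewrite 1 [← e1]
      exact inv_mul_cancel _
    · rw [Subgroup.mem_centralizer_singleton_iff, hα, ← map_mul, ← map_mul]
      exact congrArg π (Subtype.ext (by
        show f (mulI xI (invI aI)) * f uI = f uI * f (mulI xI (invI aI))
        rw [h.map_u]; exact h.comm_s hbI))
  have h1 : ¬ IsConj α (π bc) := by
    intro hc
    obtain ⟨c, hc⟩ := isConj_iff.mp hc
    refine hten _ hbI hbz (by decide +kernel) (by decide +kernel) (by decide +kernel)
      (by decide +kernel) c ?_
    rw [← hc]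
    group
  have h2 : IsConj α (π bc * π ac) := by
    rw [← map_mul, hba, ← hrs, map_mul, map_mul, map_inv]
    exact isConj_iff.mpr ⟨π rc, rfl⟩
  have hcardC : Nat.card C = Nat.card (C ⧸ N) * 2 := by
    rw [Subgroup.card_eq_card_quotient_mul_card_subgroup N, hNdef, Nat.card_zpowers,
      orderOf_two_iff.2 ⟨Subtype.ext zz, fun e => zne (congrArg Subtype.val e)⟩]
  -- involutions of `C` conjugate to `s`
  have hxx : π rc * α * (π rc)⁻¹ = π xc := by rw [hα, ← map_inv, ← map_mul, ← map_mul, hrs]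
  have hrxu : rc * xc * rc⁻¹ = ⟨f xuI, memi hxu (by decide +kernel)⟩ :=
    Subtype.ext (hg.rho_x h)
  have htype : ∀ y : C, IsConj s (y : G) → ∃ c : C ⧸ N, c * α = π y * c := by
    intro y hy
    obtain ⟨d, hd⟩ := isConj_iff.mp hy
    have hy2 : orderOf (y : G) = 2 := by rw [← hd, orderOf_conj, h.orderOf_s]
    have hp : IsPGroup 2 (Subgroup.zpowers (π y)) := by
      have hd2 : orderOf (π y) ∣ 2 := by
        apply orderOf_dvd_of_pow_eq_one
        rw [← map_pow, pow_two, show y * y = 1 from Subtype.ext (orderOf_two_iff.1 hy2).1, map_one]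
      rcases (Nat.dvd_prime Nat.prime_two).1 hd2 with e | e
      · exact IsPGroup.of_card (n := 0) (by rw [Nat.card_zpowers, e, pow_zero])
      · exact IsPGroup.of_card (n := 1) (by rw [Nat.card_zpowers, e, pow_one])
    obtain ⟨T, hT⟩ := hD.exists_sylow
    obtain ⟨U, hU⟩ := hp.exists_le_sylow
    obtain ⟨c, hc⟩ := MulAction.exists_smul_eq (C ⧸ N) U T
    have hm : c * π y * c⁻¹ ∈ (T : Subgroup (C ⧸ N)) := by
      rw [← hc]
      exact Subgroup.mem_map.mpr ⟨π y, hU (Subgroup.mem_zpowers _), rfl⟩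
    rw [hT, Subgroup.mem_centralizer_singleton_iff] at hm
    obtain ⟨c', rfl⟩ := QuotientGroup.mk'_surjective N c
    rw [← map_inv, ← map_mul, ← map_mul] at hm
    obtain ⟨i, hi, hiz, hie⟩ := hcent _ hm
    have hci : IsConj s (f i) := hy.trans (isConj_iff.mpr ⟨(c' : G), by rw [hie]; simp⟩)
    have hv : isInv i = true := by
      obtain ⟨j, hj, hjv, hje⟩ := h.exists_invol (y := f i) (by
        rw [hie]; simpa using (orderOf_conj (c' : G) (y : G)).trans hy2) (h.comm_s hi)
      rwa [h.inj j hj i hi hje] at hjv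
    have hcj : ∀ e : C ⧸ N, e * α * e⁻¹ = π c' * π y * (π c')⁻¹ →
        ∃ c : C ⧸ N, c * α = π y * c := fun e he => ⟨(π c')⁻¹ * e, by
      calc (π c')⁻¹ * e * α = (π c')⁻¹ * (e * α * e⁻¹) * e := by group
        _ = π y * ((π c')⁻¹ * e) := by rw [he]; group⟩
    have hval : π c' * π y * (π c')⁻¹ = π ⟨f i, memi hi hiz⟩ := by
      rw [← map_inv, ← map_mul, ← map_mul]
      exact congrArg π (Subtype.ext hie.symm)
    rcases Emb.s_type_list h hi hv hiz fun e => h.not_conj_ten hi hv e hci with rfl | rfl | rfl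
    · exact hcj 1 (by rw [one_mul, inv_one, mul_one, hval])
    · exact hcj (π rc) (by rw [hxx, hval])
    · exact hcj (π rc * π rc) (by
        calc π rc * π rc * α * (π rc * π rc)⁻¹ = π rc * (π rc * α * (π rc)⁻¹) * (π rc)⁻¹ := by group
          _ = _ := by rw [hxx, hval, ← map_inv, ← map_mul, ← map_mul, hrxu])
  rcases hD.half_fused h1 h2 with ⟨⟨e4⟩⟩ | ⟨⟨e5⟩⟩
  · -- the symmetric group of degree four
    have hc24 : Nat.card (C ⧸ N) = 24 := by
      rw [Nat.card_congr e4.toEquiv, Nat.card_perm, Nat.card_fin]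
      rfl
    refine ⟨.inr ⟨by rw [hcardC, hc24], fun y hy hyz => ?_⟩⟩
    have hcl : ∀ c : C ⧸ N, c * α * c⁻¹ = α ∨ c * α * c⁻¹ = π xc ∨
        c * α * c⁻¹ = π ⟨f xuI, memi hxu (by decide +kernel)⟩ := by
      -- the class has three members
      haveI := Fintype.ofFinite (C ⧸ N)
      set S3 : Finset (C ⧸ N) := Finset.univ.image fun c => c * α * c⁻¹ with hS3
      have hcard3 : S3.card = 3 := by
        have hst : Nat.card (MulAction.stabilizer (ConjAct (C ⧸ N)) α) = 8 := by
          rw [← Subgroup.nat_card_centralizer_nat_card_stabilizer]; exact hcard8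
        have horb' : (MulAction.orbit (ConjAct (C ⧸ N)) α) = ↑S3 := by
          ext y
          simp only [hS3, Finset.coe_image, Finset.coe_univ, Set.image_univ, Set.mem_range,
            MulAction.mem_orbit_iff]
          constructor
          · rintro ⟨c, rfl⟩; exact ⟨ConjAct.ofConjAct c, by rw [ConjAct.smul_def]⟩
          · rintro ⟨c, rfl⟩
            exact ⟨ConjAct.toConjAct c, by rw [ConjAct.smul_def, ConjAct.ofConjAct_toConjAct]⟩
        have hidx := Subgroup.card_mul_index (MulAction.stabilizer (ConjAct (C ⧸ N)) α)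
        rw [hst, MulAction.index_stabilizer, horb', Set.ncard_coe_finset,
          show Nat.card (ConjAct (C ⧸ N)) = 24 from
            (Nat.card_congr ConjAct.toConjAct.toEquiv.symm).trans hc24] at hidx
        omega
      have hne : ∀ {i j : ℕ} (hi : i < 192) (hj : j < 192) (hiz : commI i zI = true)
          (hjz : commI j zI = true), i ≠ j → mulI i zI ≠ j →
          π (⟨f i, memi hi hiz⟩ : C) ≠ π ⟨f j, memi hj hjz⟩ := by
        intro i j hi hj hiz hjz h1 h2 e
        rcases hker _ _ e with e' | e'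
        · exact h1 (h.inj i hi j hj e'.symm)
        · exact h2 (h.inj _ (mul_lt hi hz) j hj (by rw [h.mul i hi zI hz]; exact e'.symm))
      have hsub : ({α, π xc, π ⟨f xuI, memi hxu (by decide +kernel)⟩} : Finset (C ⧸ N)) ⊆ S3 := by
        intro y hy
        simp only [Finset.mem_insert, Finset.mem_singleton] at hy
        simp only [hS3, Finset.mem_image, Finset.mem_univ, true_and]
        rcases hy with rfl | rfl | rfl
        · exact ⟨1, by group⟩
        · exact ⟨π rc, hxx⟩
        · exact ⟨π rc * π rc, by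
            calc π rc * π rc * α * (π rc * π rc)⁻¹ = π rc * (π rc * α * (π rc)⁻¹) * (π rc)⁻¹ := by
                  group
              _ = _ := by rw [hxx, ← map_inv, ← map_mul, ← map_mul, hrxu]⟩
      have heq : ({α, π xc, π ⟨f xuI, memi hxu (by decide +kernel)⟩} : Finset (C ⧸ N)) = S3 := by
        refine Finset.eq_of_subset_of_card_le hsub ?_
        rw [hcard3, Finset.card_eq_three.2 ⟨_, _, _, ?_, ?_, ?_, rfl⟩]
        · exact hne hu hx huz hxz (by decide +kernel) (by decide +kernel)
        · exact hne hu hxu huz (by decide +kernel) (by decide +kernel) (by decide +kernel)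
        · exact hne hx hxu hxz (by decide +kernel) (by decide +kernel) (by decide +kernel)
      intro c
      have : c * α * c⁻¹ ∈ S3 := Finset.mem_image.2 ⟨c, Finset.mem_univ _, rfl⟩
      rw [← heq] at this
      simpa using this
    obtain ⟨c, hc⟩ := htype ⟨y, memC hyz⟩ hy
    have hc' : π (⟨y, memC hyz⟩ : C) = c * α * c⁻¹ := by rw [hc, mul_inv_cancel_right]
    have hxs : IsConj s (f xI) := isConj_iff.mpr ⟨_, hg.rho_s h⟩
    rcases hcl c with e | e | e <;> rw [e] at hc'
    · left
      have := congrArg Subtype.val (hlift _ _ hc' hy scs)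
      rwa [show (sc : G) = s from h.map_u] at this
    · exact .inr (.inl (congrArg Subtype.val (hlift _ _ hc' hy hxs)))
    · exact .inr (.inr (congrArg Subtype.val (hlift _ _ hc' hy
        (hxs.trans (isConj_iff.mpr ⟨_, hg.rho_x h⟩)))))
  -- the symmetric group of degree five
  let e := e5
  let P : C → Equiv.Perm (Fin 5) := fun y => e (π y)
  have Pmul : ∀ a b : C, P (a * b) = P a * P b := fun a b => by simp [P]
  have Pinj : ∀ a b : C, P a = P b → π a = π b := fun a b h => e.injective h
  have Pone : P 1 = 1 := by simp [P]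
  have hr3 : rc * rc * rc = 1 := Subtype.ext (hg.rho_cube h)
  have hq2 : qc * qc = 1 := Subtype.ext (by
    show f qI * f qI = 1
    rw [← h.mul _ hq _ hq, (isInv_spec.1 qv).1, h.map_zero])
  have ht2 : tc * tc = 1 := Subtype.ext (by
    show f tauI * f tauI = 1
    rw [← h.mul _ hta _ hta, (isInv_spec.1 tv).1, h.map_zero])
  have hqts : qc * tc = sc := Subtype.ext (by
    show f qI * f tauI = f uI; rw [← h.mul _ hq _ hta, qtau])
  have htqs : tc * qc = sc := Subtype.ext (by
    show f tauI * f qI = f uI; rw [← h.mul _ hta _ hq, tauq])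
  have hne1 : ∀ (i : ℕ) (hi : i < 192) (hc : commI i zI = true), i ≠ 0 → mulI i zI ≠ 0 →
      P ⟨f i, memi hi hc⟩ ≠ 1 := by
    intro i hi hc h0 h1 e
    rw [← Pone] at e
    rcases hker _ _ (Pinj _ _ e) with e' | e'
    · exact h0 (h.inj i hi 0 (by norm_num) (by rw [h.map_zero]; exact e'.symm))
    · exact h1 (h.inj _ (mul_lt hi hz) 0 (by norm_num) (by
        rw [h.mul i hi zI hz, h.map_zero]; exact e'.symm))
  have hrinv : rc⁻¹ = rc * rc := inv_eq_of_mul_eq_one_right (by rw [← mul_assoc, hr3])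
  have hcjP : ∀ (i : ℕ) (hi : i < 192) (hc : commI i zI = true), isInv i = true → clsI i = 10 →
      isInv (mulI i zI) = true → clsI (mulI i zI) = 10 →
      ∀ c : Equiv.Perm (Fin 5), c * P sc ≠ P ⟨f i, memi hi hc⟩ * c := by
    intro i hi hc a b a' b' c e'
    obtain ⟨c', rfl⟩ := e.surjective c
    simp only [P, ← map_mul] at e'
    exact hten i hi hc a b a' b' c' (e.injective e')
  have hr1 : P rc ≠ 1 := by
    intro e'
    have e1 : π rc = π 1 := Pinj _ _ (e'.trans Pone.symm)
    have : π xc = α := by rw [← hxx, e1, map_one]; group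
    rcases hker _ _ this with e2 | e2
    · have := h.inj uI hu xI hx e2
      revert this; decide +kernel
    · have := h.inj uI hu _ (mul_lt hx hz) (by rw [h.mul _ hx _ hz]; exact e2)
      revert this; decide +kernel
  obtain ⟨t, tt, tr, tq, tcj, tst, t5, t5n, tthree⟩ := Five.exists_t (P rc) (P qc) (P tc) (P xc)
    (by rw [← Pmul, ← Pmul, hr3, Pone]) hr1
    (by rw [← Pmul, hq2, Pone]) (hne1 qI hq hqz (isInv_spec.1 qv).2 (isInv_spec.1 qzv).2)
    (by
      have hqr : qc * rc * qc * rc = 1 := Subtype.ext (hg.rho_q h)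
      rw [← Pmul, ← Pmul, ← Pmul, hqr, Pone])
    (by rw [← Pmul, ht2, Pone]) (hne1 tauI hta htz (isInv_spec.1 tv).2 (isInv_spec.1 tzv).2)
    (by rw [← Pmul, ← Pmul, hqts, htqs])
    (by
      intro e'
      rcases hker _ _ (Pinj _ _ e'.symm) with e2 | e2
      · exact qnt (h.inj _ hq _ hta e2.symm)
      · exact qznt (h.inj _ (mul_lt hq hz) _ hta (by rw [h.mul _ hq _ hz]; exact e2.symm)))
    (by rw [← Pmul qc, hqts, ← Pmul rc rc, ← Pmul, ← Pmul, ← hrinv, hrs])
    (by
      rw [← Pmul, hqts]
      intro e'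
      rcases hker _ _ (Pinj _ _ e') with e2 | e2
      · have := h.inj uI hu xI hx e2
        revert this; decide +kernel
      · have := h.inj uI hu _ (mul_lt hx hz) (by rw [h.mul _ hx _ hz]; exact e2)
        revert this; decide +kernel)
    (by
      rw [← Pmul qc, hqts, ← Pmul, ← Pmul]
      exact congrArg P (Subtype.ext (by
        show f xI * f uI = f uI * f xI; rw [h.map_u]; exact h.comm_s hx)))
    (by
      rw [← Pmul, ← Pmul]
      intro e'
      rcases hker _ _ (Pinj _ _ e') with e2 | e2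
      · exact qx1 ((h.commute_iff hq hx).1 e2)
      · exact qx2 (h.inj _ (mul_lt hq hx) _ (mul_lt (mul_lt hx hq) hz) (by
          rw [h.mul _ hq _ hx, h.mul _ (mul_lt hx hq) _ hz, h.mul _ hx _ hq]; exact e2)))
    (by rw [← Pmul, hqts]; exact hcjP qI hq hqz qv q10 qzv qz10)
    (by rw [← Pmul, hqts]; exact hcjP tauI hta htz tv t10 tzv tz10)
  obtain ⟨c, hc⟩ := tcj
  rw [← Pmul, hqts] at hc
  obtain ⟨c', rfl⟩ : ∃ c', P c' = c := by
    obtain ⟨c1, hc1⟩ := e.surjective c
    obtain ⟨c2, hc2⟩ := QuotientGroup.mk'_surjective N c1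
    exact ⟨c2, by simp only [P, hπ, hc2, hc1]⟩
  obtain ⟨w, hw⟩ : ∃ w : C, w = c' * sc * c'⁻¹ := ⟨_, rfl⟩
  have hws : IsConj s (w : G) := isConj_iff.mpr ⟨(c' : G), by simp [hw, sc, h.map_u]⟩
  have hPw : P w = P qc * t := by
    have hci : P c'⁻¹ = (P c')⁻¹ := by simp [P]
    rw [hw, Pmul, Pmul, hci, hc, mul_inv_cancel_right]
  obtain ⟨T, hT⟩ : ∃ T : C, T = qc * w := ⟨_, rfl⟩
  have hPT : P T = t := by
    rw [hT, Pmul, hPw, ← mul_assoc, ← Pmul, hq2, Pone, one_mul]
  have hqw : qc * w = w * qc := by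
    have e' : π w = π (qc * w * qc⁻¹) := Pinj _ _ (by
      have hqi : qc⁻¹ = qc := inv_eq_of_mul_eq_one_right hq2
      rw [hqi, Pmul, Pmul, hPw, mul_assoc, mul_assoc (P qc) t, tq, ← mul_assoc (P qc) (P qc) t,
        ← Pmul qc qc, hq2, Pone, one_mul])
    have := hlift _ _ e' hws (hws.trans (isConj_iff.mpr ⟨(qc : G), by simp⟩))
    nth_rewrite 2 [this]
    rw [inv_mul_cancel_right]
  have hww : w * w = 1 := Subtype.ext (by
    obtain ⟨d, hd⟩ := isConj_iff.mp hws
    show (w : G) * (w : G) = 1
    rw [← hd]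
    exact (orderOf_two_iff.1 ((orderOf_conj d s).trans h.orderOf_s)).1)
  have hTq : T * qc = qc * T := by rw [hT, mul_assoc, ← hqw]
  have hTT : T * T = 1 := by
    calc T * T = qc * (w * qc) * w := by rw [hT]; group
      _ = qc * qc * (w * w) := by rw [← hqw]; group
      _ = 1 := by rw [hq2, hww, one_mul]
  have hTinv : T⁻¹ = T := inv_eq_of_mul_eq_one_right hTT
  have hTr : T * rc = rc * T := by
    have e' : π rc = π (T * rc * T) := Pinj _ _ (by
      rw [Pmul, Pmul, hPT, tr, mul_assoc, tt, mul_one])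
    rcases hker _ _ e' with e2 | e2
    · have e3 : T * rc * T = rc := Subtype.ext e2
      calc T * rc = T * rc * (T * T) := by rw [hTT, mul_one]
        _ = T * rc * T * T := by group
        _ = rc * T := by rw [e3]
    · exfalso
      have e3 : T * rc * T = rc * zc := Subtype.ext e2
      have hzr : zc * rc = rc * zc := (Subgroup.mem_center_iff.1 hzcen rc).symm
      have hzcz : zc * zc = 1 := Subtype.ext zz
      have h1' : (T * rc * T) * (T * rc * T) * (T * rc * T) = 1 := by
        calc (T * rc * T) * (T * rc * T) * (T * rc * T)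
            = T * rc * (T * T) * rc * (T * T) * rc * T := by group
          _ = T * (rc * rc * rc) * T := by rw [hTT]; group
          _ = 1 := by rw [hr3, mul_one, hTT]
      rw [e3] at h1'
      refine zne (congrArg Subtype.val (?_ : zc = 1))
      calc zc = (rc * rc * rc) * (zc * (zc * zc)) := by rw [hr3, hzcz, one_mul, mul_one]
        _ = rc * rc * (rc * zc) * (zc * zc) := by group
        _ = rc * rc * (zc * rc) * (zc * zc) := by rw [hzr]
        _ = rc * (rc * zc) * (rc * zc) * zc := by group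
        _ = rc * (zc * rc) * (rc * zc) * zc := by rw [hzr]
        _ = rc * zc * rc * (rc * zc) * zc := by group
        _ = rc * zc * rc * (zc * rc) * zc := by rw [hzr]
        _ = rc * zc * (rc * zc) * (rc * zc) := by group
        _ = 1 := h1'
  have hsT : T * sc * T = tc * w * tc := by
    have e' : π (T * sc * T) = π (tc * w * tc) := Pinj _ _ (by
      rw [Pmul, Pmul, Pmul, Pmul, hPT, hPw, ← hqts, Pmul]; exact tst)
    refine hlift _ _ e' (scs.trans (isConj_iff.mpr ⟨(T : G), ?_⟩))
      (hws.trans (isConj_iff.mpr ⟨(tc : G), ?_⟩))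
    · conv_rhs => rw [show T * sc * T = T * sc * T⁻¹ by rw [hTinv]]
      simp
    · conv_rhs => rw [show tc * w * tc = tc * w * tc⁻¹ by rw [inv_eq_of_mul_eq_one_right ht2]]
      simp
  have hTtau : T * tc * T = tc * T * tc := by
    have hwT : w = qc * T := by rw [hT, ← mul_assoc, hq2, one_mul]
    rw [hwT, ← hqts] at hsT
    have e1 : qc * (T * tc * T) = qc * (tc * T * tc) := by
      calc qc * (T * tc * T) = qc * T * tc * T := by group
        _ = T * (qc * tc) * T := by rw [← hTq]; group
        _ = tc * qc * T * tc := by rw [hsT]; group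
        _ = qc * tc * T * tc := by rw [htqs, hqts]
        _ = qc * (tc * T * tc) := by group
    exact mul_left_cancel e1
  have hFifth : Fifth f g (T : G) :=
    ⟨congrArg Subtype.val hTT, ofC T, congrArg Subtype.val hTq,
      congrArg Subtype.val hTr, congrArg Subtype.val hTtau⟩
  have h2 : (2 : ℕ) < 192 := by norm_num
  refine ⟨.inl ⟨by rw [hcardC, Nat.card_congr e5.toEquiv, Nat.card_perm, Nat.card_fin]; rfl,
    (T : G), hFifth, ?_, ?_⟩⟩
  · -- the fusion choice
    set w' : G := (f 2)⁻¹ * (w : G) * f 2 with hw'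
    have hqB : (f 2)⁻¹ * f qI * f 2 = f zI := by
      rw [← Bq, h.map_cj (inv_lt h2) hq, h.map_inv h2, inv_inv]
    have hzB : (f 2)⁻¹ * f zI * f 2 = f tauI * f zI := by
      rw [← h.mul _ hta _ hz, zp, h.map_cj (inv_lt h2) hz, h.map_inv h2, inv_inv]
    have hwq : f qI * (w : G) = (w : G) * f qI := congrArg Subtype.val hqw
    have hw'z : w' * f zI = f zI * w' := by
      rw [hw', ← hqB]
      calc (f 2)⁻¹ * (w : G) * f 2 * ((f 2)⁻¹ * f qI * f 2) = (f 2)⁻¹ * ((w : G) * f qI) * f 2 := by
            group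
        _ = (f 2)⁻¹ * (f qI * (w : G)) * f 2 := by rw [hwq]
        _ = _ := by group
    have hw'p : w' * (f tauI * f zI) = f tauI * f zI * w' := by
      rw [hw', ← hzB]
      calc (f 2)⁻¹ * (w : G) * f 2 * ((f 2)⁻¹ * f zI * f 2) = (f 2)⁻¹ * ((w : G) * f zI) * f 2 := by
            group
        _ = (f 2)⁻¹ * (f zI * (w : G)) * f 2 := by rw [ofC w]
        _ = _ := by group
    have hw's : IsConj s w' := hws.trans (isConj_iff.mpr ⟨(f 2)⁻¹, by rw [hw']; group⟩)
    let W' : C := ⟨w', memC hw'z⟩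
    obtain ⟨c2, hc2⟩ := htype W' hw's
    have hPW : ∃ c : Equiv.Perm (Fin 5), c * (P qc * P tc) = P W' * c := ⟨e c2, by
      rw [← Pmul, hqts]; simp only [P, ← map_mul, ← hc2]; rfl⟩
    have hcom : P W' * P tc = P tc * P W' := by
      have e0 : W' * (tc * zc) = tc * zc * W' := Subtype.ext hw'p
      have := congrArg P e0
      have hPz : P zc = 1 := by
        have hπz : π zc = 1 := by
          rw [hπ, QuotientGroup.mk'_apply, QuotientGroup.eq_one_iff]
          exact Subgroup.mem_zpowers zc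
        simp [P, hπz]
      simpa [Pmul, hPz] using this
    have hTG : f qI * (T : G) = (w : G) := by
      have : qc * T = w := by rw [hT, ← mul_assoc, hq2, one_mul]
      exact congrArg Subtype.val this
    have hconjm : ∀ (k : ℕ) (hk : k < 192) (hkz : commI k zI = true),
        P W' * P ⟨f k, memi hk hkz⟩ = P ⟨f k, memi hk hkz⟩ * (P qc * t) → FusAt f (T : G) k := by
      intro k hk hkz e'
      set K : C := ⟨f k, memi hk hkz⟩
      have hKi : P K⁻¹ = (P K)⁻¹ := by simp [P]
      have e1 : π W' = π (K * w * K⁻¹) := Pinj _ _ (by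
        rw [Pmul, Pmul, hKi, hPw, ← e', mul_inv_cancel_right])
      have := congrArg Subtype.val
        (hlift _ _ e1 hw's (hws.trans (isConj_iff.mpr ⟨(K : G), by simp⟩)))
      show (f 2)⁻¹ * (f qI * (T : G)) * f 2 = f k * (f qI * (T : G)) * (f k)⁻¹
      rw [hTG]
      simpa [W', K, hw'] using this
    rcases tthree (P W') hcom hPW with e' | e' | e'
    · exfalso
      have : π W' = π (qc * tc) := Pinj _ _ (by rw [e', Pmul])
      have e2 := congrArg Subtype.val (hlift _ _ this hw's (by rw [hqts]; exact scs))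
      rw [hqts] at e2
      simp only [W', sc, h.map_u, hw'] at e2
      have hwS : (w : G) = s := by
        calc (w : G) = f 2 * ((f 2)⁻¹ * (w : G) * f 2) * (f 2)⁻¹ := by group
          _ = s := by rw [e2, h.comm_s h2, mul_inv_cancel_right]
      have hTt : T = tc := by
        rw [hT, show w = sc from Subtype.ext (hwS.trans h.map_u.symm), ← hqts, ← mul_assoc, hq2,
          one_mul]
      apply hr1
      have e3 : t = P tc := by rw [← hPT, hTt]
      rw [e3, mul_assoc (P rc), ← Pmul tc tc, ht2, Pone, mul_one] at t5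
      have e4 : P rc * P rc * P rc = 1 := by rw [← Pmul, ← Pmul, hr3, Pone]
      have e5' : P rc * P rc = 1 := by rwa [e4, one_mul] at t5
      calc P rc = P rc * (P rc * P rc) := by rw [e5', mul_one]
        _ = 1 := by rw [← mul_assoc, e4]
    · left
      have hgc : commI goodI zI = true := gda ▸ haz
      refine hconjm goodI (gda ▸ ha) hgc ?_
      have : (⟨f goodI, memi (gda ▸ ha) hgc⟩ : C) = qc * xc := Subtype.ext (by
        show f goodI = f qI * f xI; rw [← h.mul _ hq _ hx, qxg])
      rw [this, Pmul]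
      exact e'
    · right
      have hbc : commI badI zI = true := by decide +kernel
      refine hconjm badI hbad hbc ?_
      have : (⟨f badI, memi hbad hbc⟩ : C) = tc * xc := Subtype.ext (by
        show f badI = f tauI * f xI; rw [← h.mul _ hta _ hx, txb])
      rw [this, Pmul]
      exact e'
  · -- generation
    set H := Subgroup.closure ({f 1, f 2, g, (T : G)} : Set G)
    have hzH : f zI ∈ H := Emb.mem_closure h hg zI hz _
    set K : Subgroup (C ⧸ N) := (H.subgroupOf C).map π with hK
    have hmemK : ∀ y : C, (y : G) ∈ H → π y ∈ K := fun y hy =>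
      Subgroup.mem_map.2 ⟨y, hy, rfl⟩
    set K5 : Subgroup (Equiv.Perm (Fin 5)) := K.map e.toMonoidHom with hK5
    have hP5 : ∀ y : C, (y : G) ∈ H → P y ∈ K5 := fun y hy =>
      Subgroup.mem_map.2 ⟨π y, hmemK y hy, rfl⟩
    have hmi : ∀ {i : ℕ}, i < 192 → f i ∈ H := fun hi => Emb.mem_closure h hg _ hi _
    have hrH : (rc : G) ∈ H :=
      mul_mem (Subgroup.subset_closure (by simp)) (hmi rho_facts.1)
    have hTH : (T : G) ∈ H := Subgroup.subset_closure (by simp)
    have d3 : 3 ∣ Nat.card K5 := by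
      haveI : Fact (Nat.Prime 3) := ⟨Nat.prime_three⟩
      have : orderOf (P rc) = 3 := orderOf_eq_prime (by
        rw [pow_succ, pow_two, ← Pmul, ← Pmul, hr3, Pone]) hr1
      rw [← this]
      exact Subgroup.orderOf_dvd_natCard K5 (hP5 rc hrH)
    have d5 : 5 ∣ Nat.card K5 := by
      haveI : Fact (Nat.Prime 5) := ⟨by norm_num⟩
      have h5 : orderOf (P rc * P tc * t) = 5 := orderOf_eq_prime (by
        simp only [pow_succ, pow_zero, one_mul]; exact t5) t5n
      have hmem := Subgroup.orderOf_dvd_natCard K5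
        (mul_mem (mul_mem (hP5 rc hrH) (hP5 tc (hmi hta))) (hPT ▸ hP5 T hTH : t ∈ K5))
      rwa [h5] at hmem
    have d8 : 8 ∣ Nat.card K5 := by
      have hle : Subgroup.centralizer ({α} : Set (C ⧸ N)) ≤ K := by
        intro y hy
        obtain ⟨y', rfl⟩ := QuotientGroup.mk'_surjective N y
        obtain ⟨i, hi, hiz, hie⟩ := hcent y' (Subgroup.mem_centralizer_singleton_iff.mp hy)
        exact hmemK y' (hie ▸ hmi hi)
      have := Subgroup.card_dvd_of_le hle
      rw [hcard8] at this
      rwa [hK5, Subgroup.card_map_of_injective e.injective]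
    have h120 : 120 ∣ Nat.card K5 :=
      (show Nat.Coprime 24 5 by norm_num).mul_dvd_of_dvd_of_dvd
        ((show Nat.Coprime 8 3 by norm_num).mul_dvd_of_dvd_of_dvd d8 d3) d5
    have hKtop : K5 = ⊤ := by
      refine Subgroup.eq_top_of_card_eq _ (Nat.dvd_antisymm ?_ ?_)
      · exact Subgroup.card_subgroup_dvd_card K5
      · rwa [Nat.card_perm, Nat.card_fin, show Nat.factorial 5 = 120 from rfl]
    intro y hy
    have hy5 : P ⟨y, hy⟩ ∈ K5 := hKtop ▸ Subgroup.mem_top _
    obtain ⟨k, hk, hke⟩ := Subgroup.mem_map.1 hy5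
    obtain ⟨d, hd, rfl⟩ := Subgroup.mem_map.1 hk
    rcases hker d ⟨y, hy⟩ (e.injective hke) with e2 | e2
    · show y ∈ H
      rw [show y = (d : G) from e2]; exact hd
    · show y ∈ H
      rw [show y = (d : G) * f zI from e2]; exact mul_mem hd hzH

end CfsgLib.M12Type
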