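import Cfsg.Agent.M12Type.Basic8
import Cfsg.Agent.M12Type.Facts
import Cfsg.Agent.StronglyEmbedded.Basic

/-!
Checked facts about the numbered centraliser in the alternating group of degree 8, and the first
consequences for an embedding of it as an involution centraliser.
-/

set_option autoImplicit false
set_option maxRecDepth 100000

namespace CfsgLib.M12Type.Eight

open CfsgLib.CosetEnum (allBelow)
open CfsgLib.StronglyEmbedded (orderOf_two_iff orderOf_conj)

/-- the conjugate of `b` by `a` -/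
noncomputable def cj8 (a b : ℕ) : ℕ := mul8 (mul8 a b) (inv8 a)

/-- commuting indices -/
noncomputable def com8 (a b : ℕ) : Bool := Nat.beq (mul8 a b) (mul8 b a)

/-- indices of involutions -/
noncomputable def isInv8 (i : ℕ) : Bool := Nat.beq (mul8 i i) 0 && !(Nat.beq i 0)

/-- the subgroup of order 64 -/
def inS8 (i : ℕ) : Bool := Nat.testBit 0x224934c71104a140e0561116091c88b2c628888b14222145 i

/-- the elementary abelian subgroup of order 16 -/
def inW8 (i : ℕ) : Bool := Nat.testBit 0x24830040000010000000010000800220428000000000041 i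

/-- the classes of noncentral involutions, with representatives -/
def IsRep8 (c r : ℕ) : Prop :=
  (c, r) = (8, aI8) ∨ (c, r) = (4, bI8) ∨ (c, r) = (7, cI8) ∨ (c, r) = (9, o2I8) ∨
    (c, r) = (10, o3I8)

theorem com8_spec {a b : ℕ} : com8 a b = true ↔ mul8 a b = mul8 b a := beq_spec

theorem isInv8_spec {i : ℕ} : isInv8 i = true ↔ mul8 i i = 0 ∧ i ≠ 0 := by
  simp [isInv8, beq_spec, beq_false_spec]

theorem inv8_facts {i : ℕ} (hi : i < 192) :
    inv8 i < 192 ∧ mul8 i (inv8 i) = 0 ∧ mul8 0 i = i ∧ mul8 i 0 = i :=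
  ⟨(row8 hi).2.2.2.1, (row8 hi).2.2.1, (row8 hi).2.1, (row8 hi).1⟩

theorem inv8_lt {i : ℕ} (hi : i < 192) : inv8 i < 192 := (row8 hi).2.2.2.1

theorem cj8_lt {a b : ℕ} (ha : a < 192) (hb : b < 192) : cj8 a b < 192 :=
  mul8_lt (mul8_lt ha hb) (inv8_lt ha)

theorem const8_lt : uI8 < 192 ∧ aI8 < 192 ∧ bI8 < 192 ∧ cI8 < 192 ∧ o2I8 < 192 ∧ o3I8 < 192 ∧
    kP8 < 192 ∧ kQ8 < 192 := by
  decide

theorem const8_inv : isInv8 uI8 = true ∧ isInv8 aI8 = true ∧ isInv8 bI8 = true ∧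
    isInv8 cI8 = true ∧ isInv8 o2I8 = true ∧ isInv8 o3I8 = true := by
  decide +kernel

theorem const8_cls : cls8 uI8 = 12 ∧ cls8 aI8 = 8 ∧ cls8 bI8 = 4 ∧ cls8 cI8 = 7 ∧
    cls8 o2I8 = 9 ∧ cls8 o3I8 = 10 := by
  decide +kernel

/-- Noncentral involutions lie in five classes. -/
theorem inv8_classes {i : ℕ} (hi : i < 192) (h : isInv8 i = true) :
    i = uI8 ∨ ∃ c r, IsRep8 c r ∧ cls8 i = c ∧ ∃ l < 192, cj8 l r = i := by
  have hd : allBelow (fun i => impB (isInv8 i) (Nat.beq i uI8 ||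
      (Nat.beq (cls8 i) 8 && anyBelow (fun l => Nat.beq (cj8 l aI8) i) 192) ||
      (Nat.beq (cls8 i) 4 && anyBelow (fun l => Nat.beq (cj8 l bI8) i) 192) ||
      (Nat.beq (cls8 i) 7 && anyBelow (fun l => Nat.beq (cj8 l cI8) i) 192) ||
      (Nat.beq (cls8 i) 9 && anyBelow (fun l => Nat.beq (cj8 l o2I8) i) 192) ||
      (Nat.beq (cls8 i) 10 && anyBelow (fun l => Nat.beq (cj8 l o3I8) i) 192))) 192 = true := by
    decide +kernel
  have := impB_spec (allBelow_spec hd i hi) h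
  simp only [Bool.or_eq_true, Bool.and_eq_true, beq_spec] at this
  have key : ∀ {c r : ℕ}, IsRep8 c r →
      cls8 i = c ∧ anyBelow (fun l => Nat.beq (cj8 l r) i) 192 = true →
      ∃ c r, IsRep8 c r ∧ cls8 i = c ∧ ∃ l < 192, cj8 l r = i := fun hr hh => by
    obtain ⟨l, hl, e⟩ := anyBelow_spec hh.2
    exact ⟨_, _, hr, hh.1, l, hl, beq_spec.1 e⟩
  rcases this with ((((e | e) | e) | e) | e) | e
  · exact .inl e
  · exact .inr (key (.inl rfl) e)
  · exact .inr (key (.inr (.inl rfl)) e)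
  · exact .inr (key (.inr (.inr (.inl rfl))) e)
  · exact .inr (key (.inr (.inr (.inr (.inl rfl)))) e)
  · exact .inr (key (.inr (.inr (.inr (.inr rfl)))) e)

/-- Members of one class are conjugate. -/
theorem cls8_conj {i c r : ℕ} (hi : i < 192) (hr : IsRep8 c r) (hc : cls8 i = c) :
    ∃ l < 192, cj8 l r = i := by
  have hd : allBelow (fun i => allBelow (fun c => impB (Nat.beq (cls8 i) c &&
      (Nat.beq c 4 || Nat.beq c 7 || Nat.beq c 8 || Nat.beq c 9 || Nat.beq c 10))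
        (isInv8 i)) 11) 192 = true := by decide +kernel
  have hlt : c < 11 ∧ (c = 4 ∨ c = 7 ∨ c = 8 ∨ c = 9 ∨ c = 10) := by
    rcases hr with e | e | e | e | e <;> obtain ⟨rfl, rfl⟩ := Prod.mk.injEq .. ▸ e <;> omega
  have hv := impB_spec (allBelow_spec (allBelow_spec hd i hi) c hlt.1)
    (by simpa [Bool.or_eq_true, beq_spec, hc, or_assoc] using hlt.2)
  rcases inv8_classes hi hv with e | ⟨c', r', hr', hc', hl⟩
  · rw [e, const8_cls.1] at hc; omega
  · have : r' = r := by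
      rcases hr with e | e | e | e | e <;> obtain ⟨rfl, rfl⟩ := Prod.mk.injEq .. ▸ e <;>
        rcases hr' with e' | e' | e' | e' | e' <;>
        obtain ⟨rfl, rfl⟩ := Prod.mk.injEq .. ▸ e' <;> first | rfl | omega
    exact this ▸ hl

theorem sylow8_facts :
    (∀ i < 192, ∀ j < 192, inS8 i = true → inS8 j = true → inS8 (mul8 i j) = true) ∧
    ((List.range 192).filter inS8).length = 64 ∧
    (∀ i < 192, inS8 i = true → inS8 (inv8 i) = true ∧
      mul8 (mul8 i i) (mul8 i i) = 0) := by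
  have h : allBelow (fun i => impB (inS8 i) (allBelow (fun j => impB (inS8 j) (inS8 (mul8 i j))) 192
      && inS8 (inv8 i) && Nat.beq (mul8 (mul8 i i) (mul8 i i)) 0)) 192 = true := by decide +kernel
  have h' : ∀ i < 192, inS8 i = true → _ := fun i hi hh => impB_spec (allBelow_spec h i hi) hh
  simp only [Bool.and_eq_true, beq_spec] at h'
  exact ⟨fun i hi j hj h1 h2 => impB_spec (allBelow_spec (h' i hi h1).1.1 j hj) h2,
    by decide +kernel, fun i hi hh => ⟨(h' i hi hh).1.2, (h' i hi hh).2⟩⟩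

variable {G : Type*} [Group G] {f : ℕ → G} {s : G}

theorem Emb8.map_zero (h : Emb8 f s) : f 0 = 1 := by
  have := h.mul 0 (by norm_num) 0 (by norm_num)
  rwa [(inv8_facts (i := 0) (by norm_num)).2.2.1, left_eq_mul] at this

theorem Emb8.map_inv (h : Emb8 f s) {i : ℕ} (hi : i < 192) : f (inv8 i) = (f i)⁻¹ :=
  eq_inv_of_mul_eq_one_right
    (by rw [← h.mul i hi _ (inv8_lt hi), (inv8_facts hi).2.1, h.map_zero])

theorem Emb8.map_cj (h : Emb8 f s) {a b : ℕ} (ha : a < 192) (hb : b < 192) :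
    f (cj8 a b) = f a * f b * (f a)⁻¹ := by
  rw [cj8, h.mul _ (mul8_lt ha hb) _ (inv8_lt ha), h.mul a ha b hb, h.map_inv ha]

theorem Emb8.com_iff (h : Emb8 f s) {a b : ℕ} (ha : a < 192) (hb : b < 192) :
    com8 a b = true ↔ f a * f b = f b * f a := by
  rw [com8_spec, ← h.mul a ha b hb, ← h.mul b hb a ha]
  exact ⟨fun e => by rw [e], fun e => h.inj _ (mul8_lt ha hb) _ (mul8_lt hb ha) e⟩

theorem Emb8.comm_s (h : Emb8 f s) {i : ℕ} (hi : i < 192) : f i * s = s * f i := by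
  rw [← h.map_u, ← h.mul _ hi _ const8_lt.1, ← h.mul _ const8_lt.1 _ hi, (row8 hi).2.2.2.2.1]

theorem Emb8.orderOf_invol (h : Emb8 f s) {i : ℕ} (hi : i < 192) (hv : isInv8 i = true) :
    orderOf (f i) = 2 := by
  obtain ⟨h0, hne⟩ := isInv8_spec.1 hv
  refine orderOf_two_iff.2 ⟨by rw [← h.mul i hi i hi, h0, h.map_zero], fun e => hne ?_⟩
  exact h.inj i hi 0 (by norm_num) (by rw [e, h.map_zero])

theorem Emb8.orderOf_s (h : Emb8 f s) : orderOf s = 2 := by
  rw [← h.map_u]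
  exact h.orderOf_invol const8_lt.1 const8_inv.1

theorem Emb8.exists_invol (h : Emb8 f s) {y : G} (hy : orderOf y = 2) (hc : y * s = s * y) :
    ∃ i < 192, isInv8 i = true ∧ f i = y := by
  obtain ⟨i, hi, rfl⟩ := h.surj y hc
  obtain ⟨h1, h2⟩ := orderOf_two_iff.1 hy
  refine ⟨i, hi, isInv8_spec.2 ⟨h.inj _ (mul8_lt hi hi) 0 (by norm_num)
    (by rw [h.mul i hi i hi, h1, h.map_zero]), fun e => h2 ?_⟩, rfl⟩
  rw [e, h.map_zero]

theorem Emb8.isConj_of_cls (h : Emb8 f s) {i c r : ℕ} (hi : i < 192) (hr : IsRep8 c r)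
    (hc : cls8 i = c) : IsConj (f r) (f i) := by
  have hr192 : r < 192 := by
    rcases hr with e | e | e | e | e <;> obtain ⟨rfl, rfl⟩ := Prod.mk.injEq .. ▸ e <;> decide
  obtain ⟨l, hl, rfl⟩ := cls8_conj hi hr hc
  exact isConj_iff.mpr ⟨f l, (h.map_cj hl hr192).symm⟩

theorem Emb8.card_centralizer (h : Emb8 f s) :
    Nat.card (Subgroup.centralizer ({s} : Set G)) = 192 := by
  refine (Nat.card_eq_of_bijective (fun i : Fin 192 => (⟨f i,
    Subgroup.mem_centralizer_singleton_iff.mpr (h.comm_s i.2)⟩ :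
      Subgroup.centralizer ({s} : Set G))) ⟨fun i j e => ?_, fun y => ?_⟩).symm.trans (by simp)
  · exact Fin.ext (h.inj i i.2 j j.2 (congrArg Subtype.val e))
  · obtain ⟨i, hi, e⟩ := h.surj y (Subgroup.mem_centralizer_singleton_iff.mp y.2)
    exact ⟨⟨i, hi⟩, Subtype.ext e⟩

/-- The subgroup of order 64. -/
def Emb8.sylow (h : Emb8 f s) : Subgroup G where
  carrier := {y | ∃ i < 192, inS8 i = true ∧ f i = y}
  one_mem' := ⟨0, by norm_num, by decide +kernel, h.map_zero⟩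
  mul_mem' := fun {a b} ⟨i, hi, h1, e1⟩ ⟨j, hj, h2, e2⟩ =>
    ⟨mul8 i j, mul8_lt hi hj, sylow8_facts.1 i hi j hj h1 h2, by rw [h.mul i hi j hj, e1, e2]⟩
  inv_mem' := fun {a} ⟨i, hi, h1, e1⟩ =>
    ⟨inv8 i, inv8_lt hi, (sylow8_facts.2.2 i hi h1).1, by rw [h.map_inv hi, e1]⟩

theorem Emb8.card_sylow (h : Emb8 f s) : Nat.card h.sylow = 64 := by
  classical
  have hs : ((List.range 192).filter inS8).toFinset.card = 64 := by
    rw [List.toFinset_card_of_nodup (List.nodup_range.filter _)]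
    exact sylow8_facts.2.1
  refine (Nat.card_eq_of_bijective (fun i : ((List.range 192).filter inS8).toFinset => (⟨f i.1, by
      have := i.2
      rw [List.mem_toFinset, List.mem_filter, List.mem_range] at this
      exact ⟨i.1, this.1, this.2, rfl⟩⟩ : h.sylow)) ⟨fun i j e => ?_, fun y => ?_⟩).symm.trans
    (by rw [Nat.card_eq_finsetCard, hs])
  · have hi := i.2
    have hj := j.2
    rw [List.mem_toFinset, List.mem_filter, List.mem_range] at hi hj
    exact Subtype.ext (h.inj _ hi.1 _ hj.1 (congrArg Subtype.val e))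
  · obtain ⟨i, hi, h1, e⟩ := y.2
    exact ⟨⟨i, by rw [List.mem_toFinset, List.mem_filter, List.mem_range]; exact ⟨hi, h1⟩⟩,
      Subtype.ext e⟩

variable [Finite G]

theorem center_inS8 {i : ℕ} (hi : i < 192)
    (h : ∀ j < 192, inS8 j = true → mul8 i j = mul8 j i) : i = 0 ∨ i = uI8 := by
  have hd : allBelow (fun i => Nat.beq i 0 || Nat.beq i uI8 ||
      anyBelow (fun j => inS8 j && !(com8 i j)) 192) 192 = true := by decide +kernel
  have := allBelow_spec hd i hi
  simp only [Bool.or_eq_true, beq_spec] at this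
  rcases this with (h0 | h0) | h0
  · exact .inl h0
  · exact .inr h0
  · obtain ⟨j, hj, hjj⟩ := anyBelow_spec h0
    rw [Bool.and_eq_true, Bool.not_eq_true', com8, beq_false_spec] at hjj
    exact absurd (h j hj hjj.1) hjj.2

theorem Emb8.exists_sylow_eq (h : Emb8 f s) : ∃ T : Sylow 2 G, (T : Subgroup G) = h.sylow := by
  haveI : Fact (Nat.Prime 2) := ⟨Nat.prime_two⟩
  have hp : IsPGroup 2 h.sylow := IsPGroup.of_card (n := 6) (by rw [h.card_sylow]; norm_num)
  obtain ⟨T, hT⟩ := hp.exists_le_sylow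
  refine ⟨T, (hT.antisymm ?_).symm⟩
  by_contra hn
  have hlt : h.sylow.subgroupOf (T : Subgroup G) < ⊤ := lt_top_iff_ne_top.2 fun e => hn
    (Subgroup.subgroupOf_eq_top.1 e)
  haveI : Group.IsNilpotent (T : Subgroup G) := T.2.isNilpotent
  have hnc := normalizerCondition_of_isNilpotent (G := (T : Subgroup G))
    (h.sylow.subgroupOf (T : Subgroup G)) hlt
  obtain ⟨n, hn1, hn2⟩ := SetLike.exists_of_lt hnc
  have hnorm : ∀ y ∈ h.sylow, (n : G) * y * (n : G)⁻¹ ∈ h.sylow := fun y hy => by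
    have := (Subgroup.mem_normalizer_iff.1 hn1 ⟨y, hT hy⟩).1 (by
      rw [Subgroup.mem_subgroupOf]; exact hy)
    rwa [Subgroup.mem_subgroupOf] at this
  have hninv : ∀ y ∈ h.sylow, (n : G)⁻¹ * y * (n : G) ∈ h.sylow := fun y hy => by
    have := (Subgroup.mem_normalizer_iff.1 (Subgroup.inv_mem _ hn1) ⟨y, hT hy⟩).1 (by
      rw [Subgroup.mem_subgroupOf]; exact hy)
    simpa [Subgroup.mem_subgroupOf] using this
  have hsS : s ∈ h.sylow := ⟨uI8, const8_lt.1, by decide +kernel, h.map_u⟩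
  obtain ⟨k, hk, hkS, hke⟩ := hnorm s hsS
  have hcen : k = 0 ∨ k = uI8 := center_inS8 hk fun j hj hjS => by
    rw [← com8_spec, h.com_iff hk hj, hke]
    obtain ⟨j', hj', hjS', hje⟩ := hninv (f j) ⟨j, hj, hjS, rfl⟩
    have hc := h.comm_s hj'
    have e : f j = (n : G) * f j' * (n : G)⁻¹ := by rw [hje]; group
    rw [e]
    calc (n : G) * s * (n : G)⁻¹ * ((n : G) * f j' * (n : G)⁻¹) = (n : G) * (s * f j') * (n : G)⁻¹ := by
          group
      _ = (n : G) * (f j' * s) * (n : G)⁻¹ := by rw [hc]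
      _ = _ := by group
  have hns : (n : G) * s = s * (n : G) := by
    rcases hcen with rfl | rfl
    · rw [h.map_zero] at hke
      exact absurd (conj_eq_one_iff.1 hke.symm) (orderOf_two_iff.1 h.orderOf_s).2
    · rw [h.map_u] at hke
      nth_rewrite 2 [hke]
      group
  -- a larger 2-group inside the centralizer
  set K := h.sylow ⊔ Subgroup.zpowers (n : G)
  have hKT : K ≤ (T : Subgroup G) := sup_le hT (Subgroup.zpowers_le.2 n.2)
  have hKC : K ≤ Subgroup.centralizer ({s} : Set G) := by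
    refine sup_le ?_ (Subgroup.zpowers_le.2 (Subgroup.mem_centralizer_singleton_iff.mpr hns))
    rintro y ⟨i, hi, -, rfl⟩
    exact Subgroup.mem_centralizer_singleton_iff.mpr (h.comm_s hi)
  obtain ⟨m, hm⟩ := IsPGroup.iff_card.1 (T.2.to_le hKT)
  have hd : 2 ^ m ∣ 192 := hm ▸ h.card_centralizer ▸ Subgroup.card_dvd_of_le hKC
  have hlt' : 64 < 2 ^ m := by
    rw [← hm, ← h.card_sylow]
    refine lt_of_le_of_ne (Subgroup.card_le_of_le le_sup_left) fun e => hn2 ?_
    rw [Subgroup.mem_subgroupOf]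
    rw [Subgroup.eq_of_le_of_card_ge (le_sup_left : h.sylow ≤ K) e.ge]
    exact Subgroup.mem_sup_right (Subgroup.mem_zpowers _)
  have : m ≤ 6 := by
    by_contra h7
    have : 2 ^ 7 ∣ 192 := (pow_dvd_pow 2 (by omega)).trans hd
    norm_num at this
  have : 2 ^ m ≤ 2 ^ 6 := Nat.pow_le_pow_right (by norm_num) this
  omega

/-- Every involution is conjugate to a numbered one of the Sylow 2-subgroup. -/
theorem Emb8.exists_conj_invol (h : Emb8 f s) {y : G} (hy : orderOf y = 2) :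
    ∃ i < 192, isInv8 i = true ∧ inS8 i = true ∧ IsConj y (f i) := by
  haveI : Fact (Nat.Prime 2) := ⟨Nat.prime_two⟩
  obtain ⟨T, hT⟩ := h.exists_sylow_eq
  have hp : IsPGroup 2 (Subgroup.zpowers y) :=
    IsPGroup.of_card (n := 1) (by rw [Nat.card_zpowers, hy, pow_one])
  obtain ⟨U, hU⟩ := hp.exists_le_sylow
  obtain ⟨c, hc⟩ := MulAction.exists_smul_eq G U T
  have hm : c * y * c⁻¹ ∈ (T : Subgroup G) := by
    rw [← hc]
    exact Subgroup.mem_map.mpr ⟨y, hU (Subgroup.mem_zpowers y), rfl⟩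
  rw [hT] at hm
  obtain ⟨i, hi, hiS, e⟩ := hm
  obtain ⟨j, hj, hjv, hje⟩ := h.exists_invol (y := c * y * c⁻¹) (by rw [orderOf_conj, hy])
    (e ▸ h.comm_s hi)
  have : j = i := h.inj j hj i hi (hje.trans e.symm)
  exact ⟨i, hi, this ▸ hjv, hiS, isConj_iff.mpr ⟨c, e.symm⟩⟩

/-- Elements of `2`-power order have fourth power one. -/
theorem Emb8.pow_four (h : Emb8 f s) {v : G} {n : ℕ} (hv : v ^ 2 ^ n = 1) : v ^ 4 = 1 := by
  haveI : Fact (Nat.Prime 2) := ⟨Nat.prime_two⟩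
  obtain ⟨T, hT⟩ := h.exists_sylow_eq
  obtain ⟨m, -, hm⟩ := (Nat.dvd_prime_pow Nat.prime_two).1 (orderOf_dvd_of_pow_eq_one hv)
  obtain ⟨U, hU⟩ := (IsPGroup.of_card (p := 2) (n := m) (G := Subgroup.zpowers v)
    (by rw [Nat.card_zpowers, hm])).exists_le_sylow
  obtain ⟨c, hc⟩ := MulAction.exists_smul_eq G U T
  have hmem : c * v * c⁻¹ ∈ (T : Subgroup G) := by
    rw [← hc]
    exact Subgroup.mem_map.mpr ⟨v, hU (Subgroup.mem_zpowers v), rfl⟩
  rw [hT] at hmem
  obtain ⟨i, hi, hiS, e⟩ := hmem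
  have h4 : f i ^ 4 = 1 := by
    rw [show (4 : ℕ) = 2 + 2 from rfl, pow_add, pow_two, ← h.mul i hi i hi,
      ← h.mul _ (mul8_lt hi hi) _ (mul8_lt hi hi), (sylow8_facts.2.2 i hi hiS).2, h.map_zero]
  rw [e, conj_pow] at h4
  exact conj_eq_one_iff.1 h4

end CfsgLib.M12Type.Eight
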