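import Cfsg.Agent.M12Type.FuseData8
import Cfsg.Agent.M12Type.Facts8

/-!
Checked facts about the actions of gluing elements on the elementary subgroup of order 16.
-/

set_option autoImplicit false
set_option maxRecDepth 100000

namespace CfsgLib.M12Type.Eight

open CfsgLib.CosetEnum (allBelow)

/-- two maps agree on the elementary subgroup -/
noncomputable def agreeW (A B : ℕ) : Bool :=
  wList8.all fun w => Nat.beq (look8 A w) (look8 B w)

/-- the image of `i` under a word of tokens: elements of the centraliser, and three maps -/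
noncomputable def runW (x y z : ℕ) : List ℕ → ℕ → ℕ
  | [], w => w
  | t :: l, w =>
    bif Nat.blt t 192 then cj8 t (runW x y z l w)
    else bif Nat.beq t 192 then look8 x (runW x y z l w)
    else bif Nat.beq t 193 then look8 y (runW x y z l w)
    else look8 z (runW x y z l w)

/-- the tokens from the centraliser lie in the subgroup of order 64 -/
noncomputable def toksOK (l : List ℕ) : Bool :=
  l.all fun t => (Nat.blt t 192 && inS8 t) || Nat.beq t 192 || Nat.beq t 193 || Nat.beq t 194

/-- a word fixing the centre with an action not induced by the centraliser -/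
noncomputable def badWord (x y z : ℕ) (l : List ℕ) : Bool :=
  toksOK l && Nat.beq (runW x y z l uI8) uI8 &&
    !(anyBelow (fun i => wList8.all fun w => Nat.beq (cj8 i w) (runW x y z l w)) 192)

/-- the positions of `c` in the list of good ones -/
def isLifted (L : List (ℕ × ℕ × ℕ)) (c : ℕ) : Bool := L.any fun e => Nat.beq e.1 c

/-- every pair or triple is lifted or has a witness -/
noncomputable def coverOK : Bool :=
  allBelow (fun a => allBelow (fun c =>
    (isLifted liftB a && isLifted liftC c &&
      allBelow (fun d => bad3.any fun e => Nat.beq e.1 a && Nat.beq e.2.1 c && Nat.beq e.2.2.1 d &&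
        badWord (actsB.getD a 0) (actsC.getD c 0) (actsA.getD d 0) e.2.2.2) actsA.length) ||
    (bad2.any fun e => Nat.beq e.1 a && Nat.beq e.2.1 c &&
      badWord (actsB.getD a 0) (actsC.getD c 0) 0 e.2.2)) actsC.length) actsB.length

theorem cover_check : coverOK = true := by decide +kernel

/-- every map acts on the subgroup by a listed action -/
noncomputable def actListOK (L acts : List ℕ) : Bool :=
  L.all fun F => acts.any fun A => agreeW F A

theorem act_checks : actListOK maps1 actsB = true ∧ actListOK mapsC actsC = true ∧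
    actListOK mapsA actsA = true := by
  decide +kernel

/-- transported maps -/
noncomputable def transOK (M : ℕ) (L L' : List ℕ) : Bool :=
  L.all fun F => L'.any fun A =>
    allBelow (fun k => Nat.beq (look8 A (look8 M (pel8 k))) (look8 M (look8 F (pel8 k)))) 32

theorem transC_check : transOK toC (maps1 ++ maps2) mapsC = true := by decide +kernel

theorem transA_check : transOK toA (maps1 ++ maps2) mapsA = true := by decide +kernel

/-- the maps send the elementary subgroup to itself and are bounded -/
noncomputable def mapsOK (L : List ℕ) (x : ℕ) : Bool :=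
  L.all fun F => allBelow (fun i => impB (com8 i x) (Nat.blt (look8 F i) 192) &&
    impB (inW8 i) (com8 i x && inW8 (look8 F i))) 192

theorem maps_checks : mapsOK (maps1 ++ maps2) bI8 = true ∧ mapsOK mapsC cI8 = true ∧
    mapsOK mapsA aI8 = true := by
  decide +kernel

theorem wList8_facts : (∀ w ∈ wList8, w < 192 ∧ inW8 w = true) ∧
    (∀ i < 192, inW8 i = true → i ∈ wList8) := by
  have h : allBelow (fun i => Nat.beq (if inW8 i then 1 else 0) (if wList8.contains i then 1 else 0))
      192 = true := by decide +kernel
  have hl : (wList8.all fun w => Nat.blt w 192) = true := by decide +kernel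
  refine ⟨fun w hw => ?_, fun i hi hW => ?_⟩
  · have hw' := blt_spec.1 (List.all_eq_true.1 hl w hw)
    have := beq_spec.1 (allBelow_spec h w hw')
    rw [if_pos (List.contains_iff_mem.2 hw)] at this
    refine ⟨hw', ?_⟩
    by_contra hn
    rw [if_neg (by simpa using hn)] at this
    omega
  · have := beq_spec.1 (allBelow_spec h i hi)
    rw [if_pos hW] at this
    by_contra hn
    rw [if_neg (fun hc => hn (List.contains_iff_mem.1 hc))] at this
    omega

/-- group laws of the elementary subgroup and self-centralisation -/
noncomputable def wLawsOK : Bool :=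
  allBelow (fun i => impB (inW8 i) (inS8 i && com8 i uI8 &&
    Nat.beq (mul8 i i) 0 && Nat.beq (inv8 i) i &&
    allBelow (fun j => impB (inW8 j) (inW8 (mul8 i j) && com8 i j)) 192) &&
    impB (wList8.all fun w => Nat.beq (cj8 i w) w) (inW8 i)) 192

theorem wLaws_check : wLawsOK = true := by decide +kernel

theorem uW8 : inW8 uI8 = true ∧ inW8 0 = true := by decide +kernel

/-- the two actions of order three and the equations solved with them -/
noncomputable def tOK (T : ℕ) : Bool :=
  allBelow (fun i => impB (inW8 i) (inW8 (look8 T i) && inW8 (look8 T (look8 T i)) &&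
    Nat.beq (look8 T (look8 T (look8 T i))) i &&
    (Nat.beq i 0 || !(Nat.beq (look8 T i) i)) &&
    anyBelow (fun w => inW8 w && Nat.beq (mul8 (mul8 w i) (look8 T w)) 0) 192 &&
    anyBelow (fun w => inW8 w && Nat.beq (mul8 (mul8 w i) (look8 T (look8 T w))) 0) 192)) 192

theorem t_checks : tOK t1Map = true ∧ tOK t2Map = true := by decide +kernel

/-- the four-group acting on the two actions -/
noncomputable def kActsOK : Bool :=
  inS8 kP8 && inS8 kQ8 && allBelow (fun w => impB (inW8 w)
    (Nat.beq (cj8 kP8 (look8 t1Map w)) (look8 t1Map (look8 t1Map (cj8 kP8 w))) &&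
      Nat.beq (cj8 kP8 (look8 t2Map w)) (look8 t2Map (cj8 kP8 w)) &&
      Nat.beq (cj8 kQ8 (look8 t1Map w)) (look8 t1Map (cj8 kQ8 w)) &&
      Nat.beq (cj8 kQ8 (look8 t2Map w)) (look8 t2Map (look8 t2Map (cj8 kQ8 w))) &&
      Nat.beq (look8 t1Map (look8 t2Map w)) (look8 t2Map (look8 t1Map w)) && inW8 (cj8 kP8 w) &&
      inW8 (cj8 kQ8 w))) 192

theorem kActs_check : kActsOK = true := by decide +kernel

/-- complements in the cosets of `kP8` and `kQ8` are conjugate under the subgroup -/
noncomputable def complOK : Bool :=
  allBelow (fun p => impB (inW8 p) (allBelow (fun q => impB (inW8 q &&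
      Nat.beq (mul8 (mul8 p kP8) (mul8 p kP8)) 0 && Nat.beq (mul8 (mul8 q kQ8) (mul8 q kQ8)) 0 &&
      com8 (mul8 p kP8) (mul8 q kQ8))
    (anyBelow (fun w => inW8 w && Nat.beq (cj8 w kP8) (mul8 p kP8) &&
      Nat.beq (cj8 w kQ8) (mul8 q kQ8)) 192)) 192)) 192

theorem compl_check : complOK = true := by decide +kernel

/-- the lifts have the required actions, and commuting forces the action on the normal subgroup -/
noncomputable def liftOK (L : List ℕ) (acts : List ℕ) (lift : List (ℕ × ℕ × ℕ)) (T k x cl E : ℕ) :
    Bool :=
  lift.all fun e => Nat.blt e.2.1 192 && inS8 e.2.1 && Nat.blt e.2.2 192 && inS8 e.2.2 &&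
    (wList8.all fun w =>
      Nat.beq (cj8 e.2.1 (look8 (acts.getD e.1 0) (cj8 e.2.2 w))) (look8 T w)) &&
    L.all fun F => impB (agreeW F (acts.getD e.1 0))
      (com8 (mul8 (mul8 e.2.2 (inv8 k)) (inv8 e.2.2)) x &&
        allBelow (fun w => impB (inW8 w)
          (impB (Nat.beq (mul8 (mul8 k (mul8 w e.2.1))
              (look8 F (mul8 (mul8 e.2.2 (inv8 k)) (inv8 e.2.2)))) (mul8 w e.2.1))
            (allBelow (fun q => impB (Nat.beq q 0 || Nat.beq q uI8 || Nat.beq (cls8 q) cl)
              (com8 (cj8 e.2.2 q) x &&
                Nat.beq (cj8 (mul8 w e.2.1) (look8 F (cj8 e.2.2 q))) (look8 E q))) 192))) 192)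

theorem lift_checks : liftOK maps1 actsB liftB t2Map kP8 bI8 4 e2Map = true ∧
    liftOK mapsC actsC liftC t1Map kQ8 cI8 7 e1Map = true := by
  decide +kernel

/-- the elements whose products with the elements of order three give relators -/
def n71 : ℕ := 3

def n41 : ℕ := 7

def n72 : ℕ := 3

def n42 : ℕ := 5

/-- a member of the subgroup of order eight -/
noncomputable def inEc8 (cl q : ℕ) : Bool := Nat.beq q 0 || Nat.beq q uI8 || Nat.beq (cls8 q) cl

/-- the step of `n * y` on the subgroup of order eight -/
noncomputable def stepE (n E q : ℕ) : ℕ := cj8 n (look8 E q)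

/-- orders seven and four on the subgroup of order eight -/
noncomputable def ordOK (n m E cl : ℕ) : Bool :=
  allBelow (fun q => impB (inEc8 cl q)
    (inEc8 cl (look8 E q) && inEc8 cl (stepE n E q) && inEc8 cl (stepE m E q) &&
      Nat.beq (stepE n E (stepE n E (stepE n E (stepE n E (stepE n E (stepE n E (stepE n E q)))))))
        q &&
      Nat.beq (stepE m E (stepE m E (stepE m E (stepE m E q)))) q &&
      (Nat.beq q 0 || !(Nat.beq (stepE n E q) q)) && Nat.beq (mul8 q q) 0)) 192 &&
  allBelow (fun i => impB (allBelow (fun q => impB (inEc8 cl q) (Nat.beq (cj8 i q) q)) 192)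
    (inEc8 cl i)) 192

theorem ord_checks : ordOK n71 n41 e1Map 7 = true ∧ ordOK n72 n42 e2Map 4 = true := by
  decide +kernel

end CfsgLib.M12Type.Eight
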