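import Cfsg.Agent.M12Type.Glue8
import Cfsg.Agent.M12Type.Aut8
import Cfsg.Agent.M12Type.FuseFacts8

/-!
Two gluings generate elements of order three normalising the elementary subgroup of order 16, which
satisfy the relations of the alternating group of degree 8; three gluings are impossible.
-/

set_option autoImplicit false
set_option maxRecDepth 100000

namespace CfsgLib.M12Type.Eight

open CfsgLib.CosetEnum (allBelow gword gword_cons gword_nil)
open CfsgLib.StronglyEmbedded (orderOf_two_iff)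

variable {G : Type*} [Group G] {f : ℕ → G} {s : G}

/-- An element with its action on a centraliser. -/
def Acts (f : ℕ → G) (g : G) (A x : ℕ) : Prop :=
  ∀ i < 192, com8 i x = true → g * f i * g⁻¹ = f (look8 A i)

/-- An element with its action on the elementary subgroup. -/
def WAct (f : ℕ → G) (g : G) (T : ℕ → ℕ) : Prop :=
  ∀ w < 192, inW8 w = true → g * f w * g⁻¹ = f (T w)

theorem wlaw {i : ℕ} (hi : i < 192) (hW : inW8 i = true) : inS8 i = true ∧
    com8 i uI8 = true ∧ mul8 i i = 0 ∧ inv8 i = i ∧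
    ∀ j < 192, inW8 j = true → inW8 (mul8 i j) = true ∧ com8 i j = true := by
  have h := allBelow_spec wLaws_check i hi
  rw [Bool.and_eq_true] at h
  have h' := impB_spec h.1 hW
  simp only [Bool.and_eq_true, beq_spec] at h'
  exact ⟨h'.1.1.1.1, h'.1.1.1.2, h'.1.1.2, h'.1.2, fun j hj hjW => by
    have := impB_spec (allBelow_spec h'.2 j hj) hjW
    rwa [Bool.and_eq_true] at this⟩

theorem tlaw {T i : ℕ} (hT : T = t1Map ∨ T = t2Map) (hi : i < 192) (hW : inW8 i = true) :
    (look8 T i < 192 ∧ inW8 (look8 T i) = true) ∧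
    (look8 T (look8 T i) < 192 ∧ inW8 (look8 T (look8 T i)) = true) ∧
    look8 T (look8 T (look8 T i)) = i ∧ (look8 T i = i → i = 0) ∧
    (∃ w < 192, inW8 w = true ∧ mul8 (mul8 w i) (look8 T w) = 0) ∧
    ∃ w < 192, inW8 w = true ∧ mul8 (mul8 w i) (look8 T (look8 T w)) = 0 := by
  have hlt : ∀ j, inW8 j = true → j < 192 := by
    intro j hj
    by_contra hn
    unfold inW8 at hj
    rw [Nat.testBit_lt_two_pow (lt_of_lt_of_le (by decide +kernel : _ < 2 ^ 192)
      (Nat.pow_le_pow_right (by norm_num) (by omega)))] at hj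
    exact Bool.noConfusion hj
  have h := allBelow_spec (show tOK T = true by
    rcases hT with rfl | rfl; exacts [t_checks.1, t_checks.2]) i hi
  have h' := impB_spec h hW
  simp only [Bool.and_eq_true, Bool.or_eq_true, Bool.not_eq_true', beq_spec, beq_false_spec] at h'
  obtain ⟨⟨⟨⟨⟨a, b⟩, c⟩, d⟩, e1⟩, e2⟩ := h'
  refine ⟨⟨hlt _ a, a⟩, ⟨hlt _ b, b⟩, c, fun e => d.resolve_right (fun hn => hn e), ?_, ?_⟩
  · obtain ⟨w, hw, hh⟩ := anyBelow_spec e1
    simp only [Bool.and_eq_true, beq_spec] at hh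
    exact ⟨w, hw, hh⟩
  · obtain ⟨w, hw, hh⟩ := anyBelow_spec e2
    simp only [Bool.and_eq_true, beq_spec] at hh
    exact ⟨w, hw, hh⟩

/-- An element centralising the elementary subgroup lies in it. -/
theorem Emb8.mem_W (h : Emb8 f s) {y : G} (hy : WAct f y fun w => w) :
    ∃ w < 192, inW8 w = true ∧ f w = y := by
  have hu := hy uI8 const8_lt.1 uW8.1
  rw [h.map_u] at hu
  obtain ⟨i, hi, rfl⟩ := h.surj y (mul_inv_eq_iff_eq_mul.1 hu)
  have hrow := allBelow_spec wLaws_check i hi
  rw [Bool.and_eq_true] at hrow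
  refine ⟨i, hi, impB_spec hrow.2 ?_, rfl⟩
  refine List.all_eq_true.2 fun w hw => beq_spec.2 ?_
  obtain ⟨hw', hwW⟩ := wList8_facts.1 w hw
  exact h.inj _ (cj8_lt hi hw') _ hw' (by rw [h.map_cj hi hw', hy w hw' hwW])

theorem Emb8.eq_zero (h : Emb8 f s) {T w : ℕ} {y : G} (hT : T = t1Map ∨ T = t2Map)
    (hy : WAct f y (look8 T)) (hw : w < 192) (hW : inW8 w = true) (hc : y * f w = f w * y) :
    w = 0 := by
  obtain ⟨⟨h1, -⟩, -, -, h0, -⟩ := tlaw hT hw hW
  refine h0 (h.inj _ h1 _ hw ?_)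
  rw [← hy w hw hW, hc, mul_inv_cancel_right]

theorem WAct.mul {g g' : G} {T T' : ℕ → ℕ} (h1 : WAct f g T) (h2 : WAct f g' T')
    (hlt : ∀ w < 192, inW8 w = true → T' w < 192 ∧ inW8 (T' w) = true) :
    WAct f (g * g') fun w => T (T' w) := fun w hw hW => by
  obtain ⟨a, b⟩ := hlt w hw hW
  calc g * g' * f w * (g * g')⁻¹ = g * (g' * f w * g'⁻¹) * g⁻¹ := by group
    _ = _ := by rw [h2 w hw hW, h1 _ a b]

theorem WAct.congr {g : G} {T T' : ℕ → ℕ} (h1 : WAct f g T)
    (he : ∀ w < 192, inW8 w = true → T w = T' w) : WAct f g T' := fun w hw hW => by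
  rw [h1 w hw hW, he w hw hW]

theorem WAct.inv {g : G} {T T' : ℕ → ℕ} (h1 : WAct f g T)
    (hlt : ∀ w < 192, inW8 w = true → T' w < 192 ∧ inW8 (T' w) = true ∧ T (T' w) = w) :
    WAct f g⁻¹ T' := fun w hw hW => by
  obtain ⟨a, b, c⟩ := hlt w hw hW
  have := h1 _ a b
  rw [c] at this
  rw [← this]; group

theorem Emb8.wact_self (h : Emb8 f s) {i : ℕ} (hi : i < 192) : WAct f (f i) (cj8 i) :=
  fun _ hw _ => (h.map_cj hi hw).symm

/-- Elements of the elementary subgroup act trivially on it. -/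
theorem Emb8.wact_W (h : Emb8 f s) {i : ℕ} (hi : i < 192) (hW : inW8 i = true) :
    WAct f (f i) fun w => w := fun w hw hwW => by
  rw [(h.com_iff hi hw).1 ((wlaw hi hW).2.2.2.2 w hw hwW).2, mul_inv_cancel_right]

theorem cjW {i w : ℕ} (hi : i < 192) (hS : inS8 i = true) (hw : w < 192) (hW : inW8 w = true) :
    inW8 (cj8 i w) = true := by
  have hd : allBelow (fun i => impB (inS8 i) (allBelow (fun w => impB (inW8 w) (inW8 (cj8 i w)))
      192)) 192 = true := by decide +kernel
  exact impB_spec (allBelow_spec (impB_spec (allBelow_spec hd i hi) hS) w hw) hW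

/-- a token as an element -/
def tokG (f : ℕ → G) (gb gc ga : G) (t : ℕ) : G :=
  if t < 192 then f t else if t = 192 then gb else if t = 193 then gc else ga

/-- A word whose action fixes the centre but is not induced by the centraliser is impossible. -/
theorem Emb8.false_of_badWord (h : Emb8 f s) {gb gc ga : G} {x y z : ℕ} {l : List ℕ}
    (hx : (∀ t ∈ l, t ≠ 192) ∨ WAct f gb (look8 x) ∧
      ∀ w < 192, inW8 w = true → look8 x w < 192 ∧ inW8 (look8 x w) = true)
    (hy : (∀ t ∈ l, t ≠ 193) ∨ WAct f gc (look8 y) ∧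
      ∀ w < 192, inW8 w = true → look8 y w < 192 ∧ inW8 (look8 y w) = true)
    (hz : (∀ t ∈ l, t ≠ 194) ∨ WAct f ga (look8 z) ∧
      ∀ w < 192, inW8 w = true → look8 z w < 192 ∧ inW8 (look8 z w) = true)
    (hb : badWord x y z l = true) : False := by
  simp only [badWord, Bool.and_eq_true, Bool.not_eq_true', beq_spec] at hb
  obtain ⟨⟨htok, hu⟩, hno⟩ := hb
  have key : ∀ l' : List ℕ, (∀ t ∈ l', t ∈ l) →
      WAct f (l'.map (tokG f gb gc ga)).prod (runW x y z l') ∧
        ∀ w < 192, inW8 w = true →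
          runW x y z l' w < 192 ∧ inW8 (runW x y z l' w) = true := by
    intro l'
    induction l' with
    | nil => exact fun _ => ⟨fun w _ _ => by simp [runW], fun w hw hW => ⟨hw, hW⟩⟩
    | cons t l' ih =>
      intro hsub
      obtain ⟨ih1, ih2⟩ := ih fun t' ht' => hsub t' (List.mem_cons_of_mem _ ht')
      have htl := hsub t (List.mem_cons_self ..)
      have ht := List.all_eq_true.1 htok t htl
      simp only [Bool.or_eq_true, Bool.and_eq_true, blt_spec, beq_spec] at ht
      rcases ht with ((⟨hlt, htS⟩ | rfl) | rfl) | rfl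
      · have e1 : tokG f gb gc ga t = f t := if_pos hlt
        have e2 : ∀ w, runW x y z (t :: l') w = cj8 t (runW x y z l' w) := fun w => by
          rw [runW, blt_spec.2 hlt, cond_true]
        refine ⟨?_, fun w hw hW => ?_⟩
        · rw [List.map_cons, List.prod_cons, e1]
          exact ((h.wact_self hlt).mul ih1 ih2).congr fun w _ _ => (e2 w).symm
        · rw [e2]
          exact ⟨cj8_lt hlt (ih2 w hw hW).1, cjW hlt htS (ih2 w hw hW).1 (ih2 w hw hW).2⟩
      · obtain ⟨hact, hmap⟩ := hx.resolve_left fun hn => hn 192 htl rfl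
        have e2 : ∀ w, runW x y z (192 :: l') w = look8 x (runW x y z l' w) := fun w => rfl
        refine ⟨?_, fun w hw hW => ?_⟩
        · rw [List.map_cons, List.prod_cons, show tokG f gb gc ga 192 = gb from rfl]
          exact (hact.mul ih1 ih2).congr fun w _ _ => (e2 w).symm
        · rw [e2]; exact hmap _ (ih2 w hw hW).1 (ih2 w hw hW).2
      · obtain ⟨hact, hmap⟩ := hy.resolve_left fun hn => hn 193 htl rfl
        have e2 : ∀ w, runW x y z (193 :: l') w = look8 y (runW x y z l' w) := fun w => rfl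
        refine ⟨?_, fun w hw hW => ?_⟩
        · rw [List.map_cons, List.prod_cons, show tokG f gb gc ga 193 = gc from rfl]
          exact (hact.mul ih1 ih2).congr fun w _ _ => (e2 w).symm
        · rw [e2]; exact hmap _ (ih2 w hw hW).1 (ih2 w hw hW).2
      · obtain ⟨hact, hmap⟩ := hz.resolve_left fun hn => hn 194 htl rfl
        have e2 : ∀ w, runW x y z (194 :: l') w = look8 z (runW x y z l' w) := fun w => rfl
        refine ⟨?_, fun w hw hW => ?_⟩
        · rw [List.map_cons, List.prod_cons, show tokG f gb gc ga 194 = ga from rfl]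
          exact (hact.mul ih1 ih2).congr fun w _ _ => (e2 w).symm
        · rw [e2]; exact hmap _ (ih2 w hw hW).1 (ih2 w hw hW).2
  obtain ⟨hrun, hrun'⟩ := key l fun _ ht => ht
  have hs := hrun uI8 const8_lt.1 uW8.1
  rw [hu, h.map_u] at hs
  obtain ⟨i, hi, he⟩ := h.surj _ (mul_inv_eq_iff_eq_mul.1 hs)
  have hany : ∀ {r : ℕ → Bool} {n : ℕ}, i < n → r i = true → anyBelow r n = true := by
    intro r n hm hr
    induction n with
    | zero => omega
    | succ n ihn =>
      rw [anyBelow, Bool.or_eq_true]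
      rcases Nat.lt_succ_iff_lt_or_eq.1 hm with h' | h'
      · exact .inr (ihn h')
      · exact .inl (h' ▸ hr)
  refine absurd hno (by
    rw [Bool.not_eq_false]
    refine hany hi (List.all_eq_true.2 fun w hw => beq_spec.2 ?_)
    obtain ⟨hw', hwW⟩ := wList8_facts.1 w hw
    exact h.inj _ (cj8_lt hi hw') _ (hrun' w hw' hwW).1 (by
      rw [h.map_cj hi hw', he, hrun w hw' hwW]))

/-- The action of a gluing element on the elementary subgroup. -/
theorem Acts.wact {g : G} {A x : ℕ} {L : List ℕ} (hg : Acts f g A x) (hA : A ∈ L)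
    (hm : mapsOK L x = true) : WAct f g (look8 A) ∧
      ∀ w < 192, inW8 w = true → look8 A w < 192 ∧ inW8 (look8 A w) = true := by
  have h : ∀ w < 192, inW8 w = true → com8 w x = true ∧ look8 A w < 192 ∧
      inW8 (look8 A w) = true := by
    intro w hw hW
    have := allBelow_spec (List.all_eq_true.1 hm A hA) w hw
    rw [Bool.and_eq_true] at this
    have h2 := impB_spec this.2 hW
    rw [Bool.and_eq_true] at h2
    exact ⟨h2.1, blt_spec.1 (impB_spec this.1 h2.1), h2.2⟩
  exact ⟨fun w hw hW => hg w hw (h w hw hW).1, fun w hw hW => (h w hw hW).2⟩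

theorem maps1_check : mapsOK maps1 bI8 = true := by
  have := maps_checks.1
  rw [mapsOK, List.all_append, Bool.and_eq_true] at this
  exact this.1

theorem exists_action {g : G} {A x : ℕ} {L acts : List ℕ} (hg : Acts f g A x) (hA : A ∈ L)
    (hm : mapsOK L x = true) (ha : actListOK L acts = true) :
    ∃ a < acts.length, agreeW A (acts.getD a 0) = true ∧ WAct f g (look8 (acts.getD a 0)) ∧
      ∀ w < 192, inW8 w = true →
        look8 (acts.getD a 0) w < 192 ∧ inW8 (look8 (acts.getD a 0) w) = true := by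
  obtain ⟨h1, h2⟩ := hg.wact hA hm
  obtain ⟨B, hB, he⟩ := List.any_eq_true.1 (List.all_eq_true.1 ha A hA)
  obtain ⟨a, ha', rfl⟩ := List.mem_iff_getElem.1 hB
  refine ⟨a, ha', ?_⟩
  rw [List.getD_eq_getElem _ _ ha']
  have heq : ∀ w < 192, inW8 w = true → look8 A w = look8 acts[a] w := fun w hw hW =>
    beq_spec.1 (List.all_eq_true.1 he w (wList8_facts.2 w hw hW))
  exact ⟨he, h1.congr heq, fun w hw hW => heq w hw hW ▸ h2 w hw hW⟩

/-- Fusion of a third class of the normal subgroups gives a gluing there. -/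
theorem Emb8.exists_acts (h : Emb8 f s) {M x : ℕ} {L : List ℕ}
    (hM : (M, x, L) = (toC, cI8, mapsC) ∨ (M, x, L) = (toA, aI8, mapsA))
    (hc : IsConj s (f x)) : ∃ g A, A ∈ L ∧ Acts f g A x := by
  obtain ⟨hMm, hMb, htr⟩ : M ∈ auts8 ∧ look8 M bI8 = x ∧ transOK M (maps1 ++ maps2) L = true := by
    rcases hM with e | e <;> obtain ⟨rfl, e'⟩ := Prod.mk.injEq .. ▸ e <;>
      obtain ⟨rfl, rfl⟩ := Prod.mk.injEq .. ▸ e'
    · exact ⟨by simp [auts8], aut8_classes.1, transC_check⟩
    · exact ⟨by simp [auts8], aut8_classes.2.1, transA_check⟩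
  obtain ⟨g, F, hF, hg⟩ := (h.comp_aut hMm).exists_swap (by simpa only [hMb] using hc)
  obtain ⟨A, hA, he⟩ := List.any_eq_true.1 (List.all_eq_true.1 htr F hF)
  refine ⟨g, A, hA, fun i hi hix => ?_⟩
  have hMx : (M = 0 ∨ M = toC ∨ M = toA) ∧ tgt8 M = x := by
    obtain ⟨-, tc, ta⟩ := tgt8_facts
    rcases hM with e | e <;> obtain ⟨rfl, e'⟩ := Prod.mk.injEq .. ▸ e <;>
      obtain ⟨rfl, rfl⟩ := Prod.mk.injEq .. ▸ e'
    · exact ⟨.inr (.inl rfl), tc⟩
    · exact ⟨.inr (.inr rfl), ta⟩
  obtain ⟨k, hk, hke⟩ := exists_tel8 hMx.1 hi (by rw [hMx.2]; exact hix)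
  have hM0 : M ≠ 0 := by
    rcases hM with e | e <;> obtain ⟨rfl, -⟩ := Prod.mk.injEq .. ▸ e <;> decide +kernel
  rw [tel8, beq_false_spec.2 hM0, cond_false] at hke
  have := hg (pel8 k) (pel8_spec hk).1 (pel8_spec hk).2.1
  simp only [hke] at this
  rw [this, ← beq_spec.1 (allBelow_spec he k hk), hke]

theorem Glue8.acts {g : G} {F : ℕ} (hg : Glue8 f g F) : Acts f g F bI8 := fun i hi hc =>
  hg.conj i hi ((inPb8_iff hi).2 hc)

/-- All three classes cannot be fused. -/
theorem Glue8.not_both (h : Emb8 f s) {g : G} {F : ℕ} (hg : Glue8 f g F)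
    (ha : IsConj s (f aI8)) (hc : IsConj s (f cI8)) : False := by
  obtain ⟨gc, A, hA, hgc⟩ := h.exists_acts (.inl rfl) hc
  obtain ⟨ga, B, hB, hga⟩ := h.exists_acts (.inr rfl) ha
  obtain ⟨a, ha', -, hx⟩ := exists_action hg.acts hg.mem maps1_check act_checks.1
  obtain ⟨c, hc', -, hy⟩ := exists_action hgc hA maps_checks.2.1 act_checks.2.1
  obtain ⟨d, hd', -, hz⟩ := exists_action hga hB maps_checks.2.2 act_checks.2.2
  have := allBelow_spec (allBelow_spec cover_check a ha') c hc'
  rw [Bool.or_eq_true] at this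
  rcases this with e | e
  · rw [Bool.and_eq_true] at e
    obtain ⟨w, -, hw⟩ := List.any_eq_true.1 (allBelow_spec e.2 d hd')
    simp only [Bool.and_eq_true] at hw
    exact h.false_of_badWord (.inr hx) (.inr hy) (.inr hz) hw.2
  · obtain ⟨w, hw0, hw⟩ := List.any_eq_true.1 e
    simp only [Bool.and_eq_true] at hw
    refine h.false_of_badWord (ga := ga) (.inr hx) (.inr hy) (.inl fun t ht e' => ?_) hw.2
    have hd : (bad2.all fun e => e.2.2.all fun t => !(Nat.beq t 194)) = true := by decide +kernel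
    have := List.all_eq_true.1 (List.all_eq_true.1 hd w hw0) t ht
    simp [e'] at this

end CfsgLib.M12Type.Eight
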