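import Cfsg.Agent.M12Type.Fuse8

/-!
The relations of the alternating group of degree 8 for the elements of order three supplied by two
gluings.
-/

set_option autoImplicit false
set_option maxRecDepth 100000

namespace CfsgLib.M12Type.Eight

open CfsgLib.CosetEnum (allBelow gword gword_cons gword_nil)
open CfsgLib.StronglyEmbedded (orderOf_two_iff)

variable {G : Type*} [Group G] {f : ℕ → G} {s : G}

/-- Elements with the same action commuting with an element of order three on `W` are equal. -/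
theorem Emb8.eq_of_commute (h : Emb8 f s) {T : ℕ} {y a b : G} {A : ℕ → ℕ}
    (hT : T = t1Map ∨ T = t2Map) (hy : WAct f y (look8 T)) (ha : WAct f a A) (hb : WAct f b A)
    (hlt : ∀ w < 192, inW8 w = true → ∃ v < 192, inW8 v = true ∧ A v = w)
    (hay : y * a = a * y) (hby : y * b = b * y) : a = b := by
  have htriv : WAct f (a * b⁻¹) fun w => w := fun w hw hW => by
    obtain ⟨v, hv, hvW, rfl⟩ := hlt w hw hW
    calc a * b⁻¹ * f (A v) * (a * b⁻¹)⁻¹ = a * (b⁻¹ * (b * f v * b⁻¹) * b) * a⁻¹ := by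
          rw [hb v hv hvW]; group
      _ = a * f v * a⁻¹ := by group
      _ = _ := ha v hv hvW
  obtain ⟨w, hw, hW, hwe⟩ := h.mem_W htriv
  have hw0 : w = 0 := h.eq_zero hT hy hw hW (by
    rw [hwe]
    calc y * (a * b⁻¹) = (y * a) * b⁻¹ := by group
      _ = a * (y * b⁻¹) := by rw [hay, mul_assoc]
      _ = a * (b⁻¹ * (b * y) * b⁻¹) := by group
      _ = a * b⁻¹ * y := by rw [← hby]; group)
  rw [hw0, h.map_zero] at hwe
  exact (mul_inv_eq_one.1 hwe.symm)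

theorem tmap_onto {T : ℕ} (hT : T = t1Map ∨ T = t2Map) :
    (∀ w < 192, inW8 w = true → ∃ v < 192, inW8 v = true ∧ look8 T v = w) ∧
      ∀ w < 192, inW8 w = true → ∃ v < 192, inW8 v = true ∧ look8 T (look8 T v) = w := by
  refine ⟨fun w hw hW => ?_, fun w hw hW => ?_⟩
  · obtain ⟨-, ⟨a, b⟩, c, -⟩ := tlaw hT hw hW
    exact ⟨_, a, b, c⟩
  · obtain ⟨⟨a, b⟩, -, c, -⟩ := tlaw hT hw hW
    exact ⟨_, a, b, c⟩

theorem WAct.inv_t {T : ℕ} {y : G} (hT : T = t1Map ∨ T = t2Map) (hy : WAct f y (look8 T)) :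
    WAct f y⁻¹ fun w => look8 T (look8 T w) :=
  hy.inv fun w hw hW => by
    obtain ⟨-, ⟨a, b⟩, c, -⟩ := tlaw hT hw hW
    exact ⟨a, b, c⟩

/-- The product of an element of the centraliser and a gluing element with the lifted action. -/
theorem Emb8.lift (h : Emb8 f s) {g : G} {A T k x cl E : ℕ} {L acts : List ℕ}
    {lift : List (ℕ × ℕ × ℕ)} {e : ℕ × ℕ × ℕ} (hA : A ∈ L) (he : e ∈ lift)
    (hk : k < 192) (hxl : x < 192) (hg : Acts f g A x) (hm : mapsOK L x = true)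
    (hag : agreeW A (acts.getD e.1 0) = true)
    (hl : liftOK L acts lift T k x cl E = true) :
    WAct f (f e.2.1 * g * f e.2.2) (look8 T) ∧
      ∀ y : G, WAct f y (look8 T) → f k * y = y * f k →
        (∀ w < 192, inW8 w = true → ∃ v < 192, inW8 v = true ∧ look8 T v = w) →
        ∀ q < 192, inEc8 cl q = true → y * f q * y⁻¹ = f (look8 E q) := by
  obtain ⟨a, i, j⟩ := e
  have hrow := List.all_eq_true.1 hl _ he
  simp only [Bool.and_eq_true, blt_spec] at hrow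
  obtain ⟨⟨⟨⟨⟨hi, hiS⟩, hj⟩, hjS⟩, hact⟩, hforce⟩ := hrow
  obtain ⟨hwg, hmapW⟩ := hg.wact hA hm
  have heq : ∀ w < 192, inW8 w = true → look8 A w = look8 (acts.getD a 0) w := fun w hw hW =>
    beq_spec.1 (List.all_eq_true.1 hag w (wList8_facts.2 w hw hW))
  have h1 : WAct f (f i * g * f j) (look8 T) := fun w hw hW => by
    have hjw := cjW hj hjS hw hW
    have hjl := cj8_lt hj hw
    rw [show f i * g * f j * f w * (f i * g * f j)⁻¹ =
        f i * (g * (f j * f w * (f j)⁻¹) * g⁻¹) * (f i)⁻¹ by group,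
      ← h.map_cj hj hw, hwg _ hjl hjw, ← h.map_cj hi (hmapW _ hjl hjw).1, heq _ hjl hjw,
      beq_spec.1 (List.all_eq_true.1 hact w (wList8_facts.2 w hw hW))]
  refine ⟨h1, fun y hy hky honto q hq hqE => ?_⟩
  -- `y` differs from the lift by an element of the elementary subgroup
  have htriv : WAct f (y * (f i * g * f j)⁻¹) fun w => w := fun w hw hW => by
    obtain ⟨v, hv, hvW, rfl⟩ := honto w hw hW
    calc y * (f i * g * f j)⁻¹ * f (look8 T v) * (y * (f i * g * f j)⁻¹)⁻¹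
        = y * ((f i * g * f j)⁻¹ * (f i * g * f j * f v * (f i * g * f j)⁻¹) * (f i * g * f j)) *
            y⁻¹ := by rw [h1 v hv hvW]; group
      _ = y * f v * y⁻¹ := by group
      _ = _ := hy v hv hvW
  obtain ⟨w, hw, hW, hwe⟩ := h.mem_W htriv
  have hye : y = f (mul8 w i) * g * f j := by
    rw [h.mul w hw i hi, hwe]; group
  have hfr := impB_spec (List.all_eq_true.1 hforce A hA) hag
  rw [Bool.and_eq_true] at hfr
  obtain ⟨hargx, hfr2⟩ := hfr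
  set arg := mul8 (mul8 j (inv8 k)) (inv8 j) with harg
  have hargl : arg < 192 := mul8_lt (mul8_lt hj (inv8_lt hk)) (inv8_lt hj)
  have hAl : ∀ i' < 192, com8 i' x = true → look8 A i' < 192 := by
    intro i' hi' hc
    have := allBelow_spec (List.all_eq_true.1 hm A hA) i' hi'
    rw [Bool.and_eq_true] at this
    exact blt_spec.1 (impB_spec this.1 hc)
  have hwi := mul8_lt hw hi
  have heq' : mul8 (mul8 k (mul8 w i)) (look8 A arg) = mul8 w i := by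
    refine h.inj _ (mul8_lt (mul8_lt hk hwi) (hAl _ hargl hargx)) _ hwi ?_
    rw [h.mul _ (mul8_lt hk hwi) _ (hAl _ hargl hargx), h.mul _ hk _ hwi, ← hg arg hargl hargx,
      harg, h.mul _ (mul8_lt hj (inv8_lt hk)) _ (inv8_lt hj), h.mul _ hj _ (inv8_lt hk),
      h.map_inv hk, h.map_inv hj]
    calc f k * f (mul8 w i) * (g * (f j * (f k)⁻¹ * (f j)⁻¹) * g⁻¹)
        = (f k * (f (mul8 w i) * g * f j)) * (f k)⁻¹ * (f j)⁻¹ * g⁻¹ := by group
      _ = (f (mul8 w i) * g * f j * f k) * (f k)⁻¹ * (f j)⁻¹ * g⁻¹ := by rw [← hye, hky]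
      _ = f (mul8 w i) := by group
  have hq' := impB_spec (allBelow_spec (impB_spec (impB_spec (allBelow_spec hfr2 w hw) hW)
    (beq_spec.2 heq')) q hq) hqE
  simp only [Bool.and_eq_true, beq_spec] at hq'
  obtain ⟨hqx, hqe⟩ := hq'
  have hjq := cj8_lt hj hq
  rw [hye, ← hqe, h.map_cj hwi (hAl _ hjq hqx), ← hg _ hjq hqx, h.map_cj hj hq]
  group

/-- A word in the first four letters, as an index. -/
noncomputable def idx8 : List ℕ → ℕ
  | [] => 0
  | x :: w => mul8 ([1, inv8 1, 2, inv8 2].getD x 0) (idx8 w)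

theorem idx8_lt : ∀ w : List ℕ, idx8 w < 192
  | [] => by norm_num [idx8]
  | x :: w => by
    refine mul8_lt ?_ (idx8_lt w)
    rcases x with _ | _ | _ | _ | x <;> simp [inv8_lt]

theorem Emb8.gword_small (h : Emb8 f s) (y₁ y₂ : G) :
    ∀ w : List ℕ, (w.all fun x => Nat.blt x 4) = true → gword (lets8 f y₁ y₂) w = f (idx8 w)
  | [], _ => by rw [gword_nil, idx8, h.map_zero]
  | x :: w, hw => by
    rw [List.all_cons, Bool.and_eq_true, blt_spec] at hw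
    have hl : [1, inv8 1, 2, inv8 2].getD x 0 < 192 := by
      rcases x with _ | _ | _ | _ | x <;> simp [inv8_lt]
    rw [gword_cons, h.gword_small y₁ y₂ w hw.2, idx8, h.mul _ hl _ (idx8_lt w)]
    congr 1
    have h1 : (1 : ℕ) < 192 := by norm_num
    have h2 : (2 : ℕ) < 192 := by norm_num
    obtain ⟨hx, -⟩ := hw
    interval_cases x <;> simp [lets8, h.map_inv h1, h.map_inv h2]

theorem gword_append8 {H : Type*} [Group H] (v : ℕ → H) (a b : List ℕ) :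
    gword v (a ++ b) = gword v a * gword v b := by simp [gword]

variable [Finite G]

/-- The power relations. -/
theorem Emb8.power_rels (h : Emb8 f s) {n m E cl : ℕ} {y : G} (hn : n < 192) (hm : m < 192)
    (hE : ordOK n m E cl = true) (hEl : ∀ q, inEc8 cl q = true → q < 192)
    (hy : ∀ q < 192, inEc8 cl q = true → y * f q * y⁻¹ = f (look8 E q)) :
    (f n * y) ^ 7 = 1 ∧ (f m * y) ^ 4 = 1 := by
  simp only [ordOK, Bool.and_eq_true] at hE
  obtain ⟨hE1, hE2⟩ := hE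
  have hall : ∀ {r : ℕ → Bool} {n : ℕ}, (∀ m < n, r m = true) → allBelow r n = true := by
    intro r n hr
    induction n with
    | zero => rfl
    | succ n ihn => rw [allBelow, hr n (by omega), ihn fun m hm => hr m (by omega)]; rfl
  have hrow : ∀ q < 192, inEc8 cl q = true →
      (look8 E q < 192 ∧ inEc8 cl (look8 E q) = true) ∧ inEc8 cl (stepE n E q) = true ∧
      inEc8 cl (stepE m E q) = true ∧
      stepE n E (stepE n E (stepE n E (stepE n E (stepE n E (stepE n E (stepE n E q)))))) = q ∧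
      stepE m E (stepE m E (stepE m E (stepE m E q))) = q ∧
      (stepE n E q = q → q = 0) ∧ mul8 q q = 0 := by
    intro q hq hqE
    have := impB_spec (allBelow_spec hE1 q hq) hqE
    simp only [Bool.and_eq_true, Bool.or_eq_true, Bool.not_eq_true', beq_spec, beq_false_spec]
      at this
    obtain ⟨⟨⟨⟨⟨⟨a, b⟩, c⟩, d⟩, e⟩, g⟩, i⟩ := this
    refine ⟨⟨hEl _ a, a⟩, b, c, d, e, fun e' => g.resolve_right (fun hn => hn e'), i⟩
  have hsl : ∀ k < 192, ∀ q < 192, inEc8 cl q = true → stepE k E q < 192 := fun k hk q hq hqE =>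
    cj8_lt hk (hrow q hq hqE).1.1
  have hstep : ∀ k < 192, ∀ q < 192, inEc8 cl q = true →
      f k * y * f q * (f k * y)⁻¹ = f (stepE k E q) := by
    intro k hk q hq hqE
    rw [stepE, h.map_cj hk (hrow q hq hqE).1.1, ← hy q hq hqE]
    group
  have huE : inEc8 cl uI8 = true := by simp [inEc8, beq_spec]
  have hfix : ∀ v : G, (∀ q < 192, inEc8 cl q = true → v * f q * v⁻¹ = f q) →
      ∃ i < 192, inEc8 cl i = true ∧ f i = v := by
    intro v hv
    have hs := hv uI8 const8_lt.1 huE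
    rw [h.map_u] at hs
    obtain ⟨i, hi, rfl⟩ := h.surj v (mul_inv_eq_iff_eq_mul.1 hs)
    refine ⟨i, hi, impB_spec (allBelow_spec hE2 i hi) (hall fun q hq => ?_), rfl⟩
    cases hqE : inEc8 cl q
    · rfl
    · exact beq_spec.2 (h.inj _ (cj8_lt hi hq) _ hq (by rw [h.map_cj hi hq, hv q hq hqE]))
  constructor
  · set v := f n * y with hv
    obtain ⟨i, hi, hiE, hie⟩ := hfix (v ^ 7) (fun q hq hqE => by
      obtain ⟨-, i1, -, h7, -⟩ := hrow q hq hqE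
      have l1 := hsl n hn q hq hqE
      obtain ⟨-, i2, -⟩ := hrow _ l1 i1
      have l2 := hsl n hn _ l1 i1
      obtain ⟨-, i3, -⟩ := hrow _ l2 i2
      have l3 := hsl n hn _ l2 i2
      obtain ⟨-, i4, -⟩ := hrow _ l3 i3
      have l4 := hsl n hn _ l3 i3
      obtain ⟨-, i5, -⟩ := hrow _ l4 i4
      have l5 := hsl n hn _ l4 i4
      obtain ⟨-, i6, -⟩ := hrow _ l5 i5
      have l6 := hsl n hn _ l5 i5
      calc v ^ 7 * f q * (v ^ 7)⁻¹
          = v * (v * (v * (v * (v * (v * (v * f q * v⁻¹) * v⁻¹) * v⁻¹) * v⁻¹) * v⁻¹) * v⁻¹)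
              * v⁻¹ := by simp only [pow_succ, pow_zero, one_mul]; group
        _ = f q := by
            rw [hstep n hn _ hq hqE, hstep n hn _ l1 i1, hstep n hn _ l2 i2, hstep n hn _ l3 i3,
              hstep n hn _ l4 i4, hstep n hn _ l5 i5, hstep n hn _ l6 i6, h7])
    have hi0 : i = 0 := (hrow i hi hiE).2.2.2.2.2.1 (h.inj _ (hsl n hn i hi hiE) _ hi (by
      rw [← hstep n hn i hi hiE, hie, ← hv]
      group))
    rw [← hie, hi0, h.map_zero]
  · set v := f m * y with hv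
    obtain ⟨i, hi, hiE, hie⟩ := hfix (v ^ 4) (fun q hq hqE => by
      obtain ⟨-, -, i1, -, h4, -⟩ := hrow q hq hqE
      have l1 := hsl m hm q hq hqE
      obtain ⟨-, -, i2, -⟩ := hrow _ l1 i1
      have l2 := hsl m hm _ l1 i1
      obtain ⟨-, -, i3, -⟩ := hrow _ l2 i2
      have l3 := hsl m hm _ l2 i2
      calc v ^ 4 * f q * (v ^ 4)⁻¹ = v * (v * (v * (v * f q * v⁻¹) * v⁻¹) * v⁻¹) * v⁻¹ := by
            simp only [pow_succ, pow_zero, one_mul]; group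
        _ = f q := by
            rw [hstep m hm _ hq hqE, hstep m hm _ l1 i1, hstep m hm _ l2 i2, hstep m hm _ l3 i3,
              h4])
    refine h.pow_four (n := 3) ?_
    rw [show 2 ^ 3 = 4 + 4 by norm_num, pow_add, ← hie, ← h.mul i hi i hi,
      (hrow i hi hiE).2.2.2.2.2.2, h.map_zero]

theorem inEc8_lt {cl q : ℕ} (hcl : 0 < cl) (h : inEc8 cl q = true) : q < 192 := by
  by_contra hq
  simp only [inEc8, Bool.or_eq_true, beq_spec] at h
  rcases h with (h | h) | h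
  · omega
  · have := const8_lt.1; omega
  · unfold cls8 at h
    rw [Nat.shiftRight_eq_div_pow, Nat.div_eq_of_lt (lt_of_lt_of_le
      (by decide +kernel : _ < 2 ^ 1536) (Nat.pow_le_pow_right (by norm_num) (by omega)))] at h
    omega

theorem rel_facts :
    idx8 [2, 2, 0, 2, 2, 2, 2, 1, 3, 3] = 0 ∧ idx8 [2, 2, 0, 2, 0, 0, 0, 3, 1, 3, 3] = 0 ∧
    idx8 [0, 0, 2, 2, 2, 0, 0, 3, 1, 3, 1, 3] = 0 ∧
    idx8 [2, 0, 0, 2, 0, 0, 2, 1, 3, 3, 3, 1] = 0 ∧
    idx8 [2, 0, 0, 2, 2, 0, 2, 1, 3, 3, 1, 1] = 0 ∧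
    (idx8 [0, 0, 2, 2, 0] = kP8 ∧ idx8 [1, 3, 3, 1, 1] = inv8 kP8) ∧
    (idx8 [0, 2, 0, 2] = kQ8 ∧ idx8 [3, 1, 3, 1] = inv8 kQ8) ∧
    (idx8 [0, 0] = n71 ∧ idx8 [0, 0] = n72 ∧ idx8 [0, 0, 2] = n41 ∧ idx8 [2, 0] = n42) := by
  decide +kernel

/-- a conjugation relation between small words -/
noncomputable def conjRel (M cl : ℕ) (u v : List ℕ) : Bool :=
  (u.all fun x => Nat.blt x 4) && (v.all fun x => Nat.blt x 4) &&
    (bif Nat.beq cl 0 then inW8 (idx8 u) else inEc8 cl (idx8 u)) &&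
    Nat.blt (look8 M (idx8 u)) 192 && Nat.beq (idx8 v) (inv8 (look8 M (idx8 u)))

theorem Emb8.conjRel_eq_one (h : Emb8 f s) {y₁ y₂ : G} {M cl l : ℕ} {u v : List ℕ} {y : G}
    (hl : lets8 f y₁ y₂ l = y) (hl' : lets8 f y₁ y₂ (l + 1) = y⁻¹)
    (hr : conjRel M cl u v = true)
    (hy : ∀ q < 192, (bif Nat.beq cl 0 then inW8 q else inEc8 cl q) = true →
      y * f q * y⁻¹ = f (look8 M q)) :
    gword (lets8 f y₁ y₂) ([l] ++ u ++ [l + 1] ++ v) = 1 := by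
  simp only [conjRel, Bool.and_eq_true, beq_spec, blt_spec] at hr
  obtain ⟨⟨⟨⟨hu, hv⟩, hin⟩, hlt⟩, he⟩ := hr
  simp only [gword_append8, gword_cons, gword_nil, mul_one, hl, hl', h.gword_small y₁ y₂ u hu,
    h.gword_small y₁ y₂ v hv, he, h.map_inv hlt]
  rw [hy _ (idx8_lt u) hin, mul_inv_cancel]

theorem kActs_spec {w : ℕ} (hw : w < 192) (hW : inW8 w = true) :
    cj8 kP8 (look8 t1Map w) = look8 t1Map (look8 t1Map (cj8 kP8 w)) ∧
    cj8 kP8 (look8 t2Map w) = look8 t2Map (cj8 kP8 w) ∧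
    cj8 kQ8 (look8 t1Map w) = look8 t1Map (cj8 kQ8 w) ∧
    cj8 kQ8 (look8 t2Map w) = look8 t2Map (look8 t2Map (cj8 kQ8 w)) ∧
    look8 t1Map (look8 t2Map w) = look8 t2Map (look8 t1Map w) ∧
    inW8 (cj8 kP8 w) = true ∧ inW8 (cj8 kQ8 w) = true := by
  have h := kActs_check
  simp only [kActsOK, Bool.and_eq_true] at h
  have h' := impB_spec (allBelow_spec h.2 w hw) hW
  simp only [Bool.and_eq_true, beq_spec] at h'
  obtain ⟨⟨⟨⟨⟨⟨a, b⟩, c⟩, d⟩, e⟩, g⟩, i⟩ := h'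
  exact ⟨a, b, c, d, e, g, i⟩

/-- Two gluings give the relations. -/
theorem Glue8.exists_sat (h : Emb8 f s) {g : G} {F : ℕ} (hg : Glue8 f g F)
    (hc : IsConj s (f cI8)) : ∃ y₁ y₂, Sat8 f y₁ y₂ := by
  obtain ⟨hu, -, hb, hcl, -, -, hP, hQ⟩ := const8_lt
  obtain ⟨gc, A, hA, hgc⟩ := h.exists_acts (.inl rfl) hc
  obtain ⟨a, ha, hag, hx⟩ := exists_action hg.acts hg.mem maps1_check act_checks.1
  obtain ⟨c, hc', hcg, hy⟩ := exists_action hgc hA maps_checks.2.1 act_checks.2.1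
  -- both actions are lifted
  have hcov := allBelow_spec (allBelow_spec cover_check a ha) c hc'
  rw [Bool.or_eq_true] at hcov
  rcases hcov with hlifted | hbad
  swap
  · exfalso
    obtain ⟨w, hw0, hw⟩ := List.any_eq_true.1 hbad
    simp only [Bool.and_eq_true] at hw
    refine h.false_of_badWord (ga := 1) (.inr hx) (.inr hy) (.inl fun t ht e' => ?_) hw.2
    have hd : (bad2.all fun e => e.2.2.all fun t => !(Nat.beq t 194)) = true := by decide +kernel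
    have := List.all_eq_true.1 (List.all_eq_true.1 hd w hw0) t ht
    simp [e'] at this
  simp only [Bool.and_eq_true] at hlifted
  obtain ⟨⟨hla, hlc⟩, -⟩ := hlifted
  obtain ⟨eb, heb, heb'⟩ := List.any_eq_true.1 hla
  obtain ⟨ec, hec, hec'⟩ := List.any_eq_true.1 hlc
  rw [← beq_spec.1 heb'] at hag
  rw [← beq_spec.1 hec'] at hcg
  obtain ⟨hz2, hforce2⟩ := h.lift hg.mem heb hP hb hg.acts maps1_check hag lift_checks.1
  obtain ⟨hz1, hforce1⟩ := h.lift hA hec hQ hcl hgc maps_checks.2.1 hcg lift_checks.2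
  obtain ⟨z₁, hz₁⟩ : ∃ z, z = f ec.2.1 * gc * f ec.2.2 := ⟨_, rfl⟩
  obtain ⟨z₂, hz₂⟩ : ∃ z, z = f eb.2.1 * g * f eb.2.2 := ⟨_, rfl⟩
  rw [← hz₁] at hz1
  rw [← hz₂] at hz2
  clear hz₁ hz₂
  have T1 : t1Map = t1Map ∨ t1Map = t2Map := .inl rfl
  have T2 : t2Map = t1Map ∨ t2Map = t2Map := .inr rfl
  -- an element with a given action and its cube
  have hlt1 : ∀ {T : ℕ}, (T = t1Map ∨ T = t2Map) → ∀ w < 192, inW8 w = true →
      look8 T w < 192 ∧ inW8 (look8 T w) = true := fun hT w hw hW => (tlaw hT hw hW).1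
  have hlt2 : ∀ {T : ℕ}, (T = t1Map ∨ T = t2Map) → ∀ w < 192, inW8 w = true →
      look8 T (look8 T w) < 192 ∧ inW8 (look8 T (look8 T w)) = true := fun hT w hw hW =>
    (tlaw hT hw hW).2.1
  have hkW : ∀ {k : ℕ}, k = kP8 ∨ k = kQ8 → ∀ w < 192, inW8 w = true →
      cj8 k w < 192 ∧ inW8 (cj8 k w) = true := by
    intro k hk w hw hW
    obtain ⟨-, -, -, -, -, h1, h2⟩ := kActs_spec hw hW
    rcases hk with rfl | rfl
    · exact ⟨cj8_lt hP hw, h1⟩
    · exact ⟨cj8_lt hQ hw, h2⟩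
  have hkinv : ∀ {k : ℕ}, k = kP8 ∨ k = kQ8 →
      WAct f (f k)⁻¹ (cj8 k) := fun {k} hk => by
    have hd : allBelow (fun w => impB (inW8 w) (Nat.beq (cj8 kP8 (cj8 kP8 w)) w &&
        Nat.beq (cj8 kQ8 (cj8 kQ8 w)) w)) 192 = true := by decide +kernel
    have hk' : k < 192 := by rcases hk with rfl | rfl <;> assumption
    refine (h.wact_self hk').inv fun w hw hW => ⟨(hkW hk w hw hW).1, (hkW hk w hw hW).2, ?_⟩
    have := impB_spec (allBelow_spec hd w hw) hW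
    simp only [Bool.and_eq_true, beq_spec] at this
    rcases hk with rfl | rfl
    exacts [this.1, this.2]
  -- conjugating an action by one of the two involutions
  have hconjk : ∀ {k T : ℕ} {y : G} {R : ℕ → ℕ}, k = kP8 ∨ k = kQ8 →
      (T = t1Map ∨ T = t2Map) → WAct f y (look8 T) →
      (∀ w < 192, inW8 w = true → cj8 k (look8 T (cj8 k w)) = R w) →
      WAct f (f k * y * (f k)⁻¹) R := fun {k T y R} hk hT hy' hR => by
    have hk' : k < 192 := by rcases hk with rfl | rfl <;> assumption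
    exact ((((h.wact_self hk').mul hy' (hlt1 hT)).mul (hkinv hk) (hkW hk))).congr hR
  have hkact : ∀ w < 192, inW8 w = true →
      cj8 kP8 (look8 t1Map (cj8 kP8 w)) = look8 t1Map (look8 t1Map w) ∧
      cj8 kP8 (look8 t2Map (cj8 kP8 w)) = look8 t2Map w ∧
      cj8 kQ8 (look8 t1Map (cj8 kQ8 w)) = look8 t1Map w ∧
      cj8 kQ8 (look8 t2Map (cj8 kQ8 w)) = look8 t2Map (look8 t2Map w) := by
    intro w hw hW
    obtain ⟨p1, p2⟩ := hkW (.inl rfl) w hw hW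
    obtain ⟨q1, q2⟩ := hkW (.inr rfl) w hw hW
    obtain ⟨a1, a2, -, -, -, -, -⟩ := kActs_spec p1 p2
    obtain ⟨-, -, b1, b2, -, -, -⟩ := kActs_spec q1 q2
    have hd : allBelow (fun w => impB (inW8 w) (Nat.beq (cj8 kP8 (cj8 kP8 w)) w &&
        Nat.beq (cj8 kQ8 (cj8 kQ8 w)) w)) 192 = true := by decide +kernel
    have := impB_spec (allBelow_spec hd w hw) hW
    simp only [Bool.and_eq_true, beq_spec] at this
    rw [a1, a2, b1, b2, this.1, this.2]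
    exact ⟨rfl, rfl, rfl, rfl⟩
  -- the first involution inverting, the second centralising
  obtain ⟨w0, hw0, hw0W, hw0e⟩ := h.mem_W (y := f kP8 * z₁ * (f kP8)⁻¹ * z₁) (by
    refine ((hconjk (.inl rfl) T1 hz1 fun w hw hW => (hkact w hw hW).1).mul hz1 (hlt1 T1)).congr
      fun w hw hW => (tlaw T1 hw hW).2.2.1)
  obtain ⟨p, hp, hpW, hpe⟩ := (tlaw T1 hw0 hw0W).2.2.2.2.2
  obtain ⟨w1, hw1, hw1W, hw1e⟩ := h.mem_W (y := f kQ8 * z₁ * (f kQ8)⁻¹ * z₁⁻¹) (by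
    refine ((hconjk (.inr rfl) T1 hz1 fun w hw hW => (hkact w hw hW).2.2.1).mul (hz1.inv_t T1)
      (hlt2 T1)).congr fun w hw hW => (tlaw T1 hw hW).2.2.1)
  obtain ⟨q, hq, hqW, hqe⟩ := (tlaw T1 hw1 hw1W).2.2.2.2.1
  have hinvW : ∀ {w : ℕ}, w < 192 → inW8 w = true → (f w)⁻¹ = f w := fun hw hW => by
    rw [← h.map_inv hw, (wlaw hw hW).2.2.2.1]
  have hprod : ∀ {a b c : ℕ}, a < 192 → b < 192 → c < 192 → mul8 (mul8 a b) c = 0 →
      f a * f b * f c = 1 := fun ha hb' hc'' e => by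
    rw [← h.mul _ ha _ hb', ← h.mul _ (mul8_lt ha hb') _ hc'', e, h.map_zero]
  have hpk := mul8_lt hp hP
  have hqk := mul8_lt hq hQ
  have hinvP : f (mul8 p kP8) * z₁ * (f (mul8 p kP8))⁻¹ = z₁⁻¹ := by
    obtain ⟨l1, l2⟩ := hlt2 T1 p hp hpW
    have e1 : z₁⁻¹ * f p * z₁ = f (look8 t1Map (look8 t1Map p)) := by
      have := hz1.inv_t T1 p hp hpW
      simpa using this
    apply eq_inv_of_mul_eq_one_left
    calc f (mul8 p kP8) * z₁ * (f (mul8 p kP8))⁻¹ * z₁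
        = f p * (f kP8 * z₁ * (f kP8)⁻¹ * z₁) * (z₁⁻¹ * (f p)⁻¹ * z₁) := by
          rw [h.mul _ hp _ hP]; group
      _ = f p * f w0 * f (look8 t1Map (look8 t1Map p)) := by rw [← hw0e, hinvW hp hpW, e1]
      _ = 1 := hprod hp hw0 l1 hpe
  have hcenQ : f (mul8 q kQ8) * z₁ * (f (mul8 q kQ8))⁻¹ = z₁ := by
    obtain ⟨l1, l2⟩ := hlt1 T1 q hq hqW
    rw [← mul_inv_eq_one]
    calc f (mul8 q kQ8) * z₁ * (f (mul8 q kQ8))⁻¹ * z₁⁻¹
        = f q * (f kQ8 * z₁ * (f kQ8)⁻¹ * z₁⁻¹) * (z₁ * (f q)⁻¹ * z₁⁻¹) := by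
          rw [h.mul _ hq _ hQ]; group
      _ = f q * f w1 * f (look8 t1Map q) := by rw [← hw1e, hinvW hq hqW, hz1 q hq hqW]
      _ = 1 := hprod hq hw1 l1 hqe
  obtain ⟨w2, hw2, hw2W, hconP, hconQ⟩ : ∃ w < 192, inW8 w = true ∧
      cj8 w kP8 = mul8 p kP8 ∧ cj8 w kQ8 = mul8 q kQ8 := by
    have hd : allBelow (fun p => impB (inW8 p) (inW8 (mul8 (mul8 p kP8) (mul8 p kP8)) &&
        inW8 (mul8 (mul8 p kQ8) (mul8 p kQ8)) &&
        allBelow (fun q => impB (inW8 q) (inW8 (mul8 (mul8 (mul8 p kP8) (mul8 q kQ8))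
          (mul8 (mul8 p kP8) (mul8 q kQ8))))) 192)) 192 = true := by decide +kernel
    have hp' := impB_spec (allBelow_spec hd p hp) hpW
    have hq' := impB_spec (allBelow_spec hd q hq) hqW
    simp only [Bool.and_eq_true] at hp' hq'
    have sP : mul8 (mul8 p kP8) (mul8 p kP8) = 0 := by
      refine h.eq_zero T1 hz1 (mul8_lt hpk hpk) hp'.1.1 ?_
      rw [h.mul _ hpk _ hpk]
      calc z₁ * (f (mul8 p kP8) * f (mul8 p kP8))
          = f (mul8 p kP8) * f (mul8 p kP8) * ((f (mul8 p kP8))⁻¹ *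
              ((f (mul8 p kP8))⁻¹ * z₁ * f (mul8 p kP8)) * f (mul8 p kP8)) := by group
        _ = f (mul8 p kP8) * f (mul8 p kP8) * z₁ := by
            have e1 : (f (mul8 p kP8))⁻¹ * z₁⁻¹ * f (mul8 p kP8) = z₁ := by
              rw [← hinvP]; group
            have e2 : (f (mul8 p kP8))⁻¹ * z₁ * f (mul8 p kP8) = z₁⁻¹ := by
              have := congrArg (·⁻¹) e1
              simpa [mul_assoc] using this
            rw [e2, e1]
    have sQ : mul8 (mul8 q kQ8) (mul8 q kQ8) = 0 := by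
      refine h.eq_zero T1 hz1 (mul8_lt hqk hqk) hq'.1.2 ?_
      have e1 : f (mul8 q kQ8) * z₁ = z₁ * f (mul8 q kQ8) := mul_inv_eq_iff_eq_mul.1 hcenQ
      rw [h.mul _ hqk _ hqk, ← mul_assoc, ← e1, mul_assoc, ← e1, ← mul_assoc]
    have hpq := mul8_lt hpk hqk
    have sPQ : mul8 (mul8 (mul8 p kP8) (mul8 q kQ8)) (mul8 (mul8 p kP8) (mul8 q kQ8)) = 0 := by
      refine h.eq_zero T1 hz1 (mul8_lt hpq hpq) (impB_spec (allBelow_spec hp'.2 q hq) hqW) ?_
      rw [h.mul _ hpq _ hpq]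
      have e : f (mul8 (mul8 p kP8) (mul8 q kQ8)) * z₁ *
          (f (mul8 (mul8 p kP8) (mul8 q kQ8)))⁻¹ = z₁⁻¹ := by
        rw [h.mul _ hpk _ hqk, ← hinvP]
        conv_rhs => rw [← hcenQ]
        group
      generalize f (mul8 (mul8 p kP8) (mul8 q kQ8)) = t at e
      have e2 : t * z₁⁻¹ * t⁻¹ = z₁ := by
        have := congrArg (·⁻¹) e
        simpa [mul_assoc] using this
      calc z₁ * (t * t) = t * z₁⁻¹ * t⁻¹ * (t * t) := by rw [e2]
        _ = t * (t * z₁ * t⁻¹) * t := by rw [e]; group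
        _ = t * t * z₁ := by group
    have hcomm : com8 (mul8 p kP8) (mul8 q kQ8) = true := by
      rw [h.com_iff hpk hqk]
      have e1 := congrArg f sP
      have e2 := congrArg f sQ
      have e3 := congrArg f sPQ
      rw [h.mul _ hpk _ hpk, h.map_zero] at e1
      rw [h.mul _ hqk _ hqk, h.map_zero] at e2
      rw [h.mul _ hpq _ hpq, h.mul _ hpk _ hqk, h.map_zero] at e3
      calc f (mul8 p kP8) * f (mul8 q kQ8)
          = (f (mul8 p kP8) * f (mul8 q kQ8))⁻¹ := eq_inv_of_mul_eq_one_left e3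
        _ = f (mul8 q kQ8) * f (mul8 p kP8) := by
            rw [mul_inv_rev, inv_eq_of_mul_eq_one_right e1, inv_eq_of_mul_eq_one_right e2]
    have := impB_spec (allBelow_spec (impB_spec (allBelow_spec compl_check p hp) hpW) q hq)
      (by simp only [Bool.and_eq_true, beq_spec]; exact ⟨⟨⟨hqW, sP⟩, sQ⟩, hcomm⟩)
    obtain ⟨w, hw, hh⟩ := anyBelow_spec this
    simp only [Bool.and_eq_true, beq_spec] at hh
    exact ⟨w, hw, hh.1.1, hh.1.2, hh.2⟩
  obtain ⟨y₁, hy₁def⟩ : ∃ y, y = (f w2)⁻¹ * z₁ * f w2 := ⟨_, rfl⟩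
  have hy1 : WAct f y₁ (look8 t1Map) := by
    intro w hw hW
    obtain ⟨a1, b1⟩ := hlt1 T1 w hw hW
    have e1 := (h.wact_W hw2 hw2W) w hw hW
    have e2 := (h.wact_W hw2 hw2W) _ a1 b1
    rw [hy₁def]
    calc (f w2)⁻¹ * z₁ * f w2 * f w * ((f w2)⁻¹ * z₁ * f w2)⁻¹
        = (f w2)⁻¹ * (z₁ * (f w2 * f w * (f w2)⁻¹) * z₁⁻¹) * f w2 := by group
      _ = (f w2)⁻¹ * (f w2 * f (look8 t1Map w) * (f w2)⁻¹) * f w2 := by
          rw [e1, hz1 w hw hW, e2]
      _ = f (look8 t1Map w) := by group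
  have hP1 : f kP8 * y₁ * (f kP8)⁻¹ = y₁⁻¹ := by
    rw [← hconP, h.map_cj hw2 hP] at hinvP
    calc f kP8 * y₁ * (f kP8)⁻¹ = (f w2)⁻¹ * ((f w2 * f kP8 * (f w2)⁻¹) * z₁ *
          (f w2 * f kP8 * (f w2)⁻¹)⁻¹) * f w2 := by rw [hy₁def]; group
      _ = y₁⁻¹ := by rw [hinvP, hy₁def]; group
  have hQ1 : f kQ8 * y₁ * (f kQ8)⁻¹ = y₁ := by
    rw [← hconQ, h.map_cj hw2 hQ] at hcenQ
    calc f kQ8 * y₁ * (f kQ8)⁻¹ = (f w2)⁻¹ * ((f w2 * f kQ8 * (f w2)⁻¹) * z₁ *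
          (f w2 * f kQ8 * (f w2)⁻¹)⁻¹) * f w2 := by rw [hy₁def]; group
      _ = y₁ := by rw [hcenQ, hy₁def]
  clear hinvP hcenQ hconP hconQ
  -- the second element, commuting with the first
  obtain ⟨w3, hw3, hw3W, hw3e⟩ := h.mem_W (y := y₁ * z₂ * y₁⁻¹ * z₂⁻¹) (by
    refine ((((hy1.mul hz2 (hlt1 T2)).mul (hy1.inv_t T1) (hlt2 T1)).mul (hz2.inv_t T2)
      (hlt2 T2))).congr fun w hw hW => ?_
    obtain ⟨a1, b1⟩ := hlt2 T2 w hw hW
    obtain ⟨a2, b2⟩ := hlt2 T1 _ a1 b1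
    rw [(kActs_spec a2 b2).2.2.2.2.1, (tlaw T1 a1 b1).2.2.1, (tlaw T2 hw hW).2.2.1])
  obtain ⟨r, hr, hrW, hre⟩ := (tlaw T1 hw3 hw3W).2.2.2.2.1
  obtain ⟨y₂, hy₂def⟩ : ∃ y, y = f r * z₂ := ⟨_, rfl⟩
  have hy2 : WAct f y₂ (look8 t2Map) :=
    hy₂def ▸ (h.wact_W hr hrW).mul hz2 (hlt1 T2)
  have h12 : y₁ * y₂ = y₂ * y₁ := by
    obtain ⟨l1, l2⟩ := hlt1 T1 r hr hrW
    have e : f r * f w3 * f (look8 t1Map r) = 1 := hprod hr hw3 l1 hre
    have ew : f (look8 t1Map r) * f w3 * (f r)⁻¹ = 1 := by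
      rw [hinvW hr hrW]
      have c1 := (h.com_iff hr hw3).1 ((wlaw hr hrW).2.2.2.2 w3 hw3 hw3W).2
      have c2 := (h.com_iff hr l1).1 ((wlaw hr hrW).2.2.2.2 _ l1 l2).2
      have c3 := (h.com_iff hw3 l1).1 ((wlaw hw3 hw3W).2.2.2.2 _ l1 l2).2
      calc f (look8 t1Map r) * f w3 * f r = f w3 * (f (look8 t1Map r) * f r) := by
            rw [← c3]; group
        _ = f r * f w3 * f (look8 t1Map r) := by rw [← c2, ← mul_assoc, ← c1]
        _ = 1 := e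
    rw [← mul_inv_eq_one, hy₂def]
    calc y₁ * (f r * z₂) * (f r * z₂ * y₁)⁻¹
        = (y₁ * f r * y₁⁻¹) * (y₁ * z₂ * y₁⁻¹ * z₂⁻¹) * (f r)⁻¹ := by group
      _ = 1 := by rw [hy1 r hr hrW, ← hw3e, ew]
  have hy12i : y₁ * y₂⁻¹ = y₂⁻¹ * y₁ :=
    calc y₁ * y₂⁻¹ = y₂⁻¹ * (y₂ * y₁) * y₂⁻¹ := by group
      _ = y₂⁻¹ * y₁ := by rw [← h12]; group
  have hP2 : f kP8 * y₂ * (f kP8)⁻¹ = y₂ := by
    refine h.eq_of_commute T1 hy1 (hconjk (.inl rfl) T2 hy2 fun w hw hW => (hkact w hw hW).2.1)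
      hy2 (tmap_onto T2).1 ?_ h12
    have e : y₁ = f kP8 * y₁⁻¹ * (f kP8)⁻¹ := by
      calc y₁ = (f kP8 * y₁ * (f kP8)⁻¹)⁻¹ := by rw [hP1, inv_inv]
        _ = _ := by group
    calc y₁ * (f kP8 * y₂ * (f kP8)⁻¹) = f kP8 * y₁⁻¹ * y₂ * (f kP8)⁻¹ := by
          nth_rewrite 1 [e]; group
      _ = f kP8 * y₂ * y₁⁻¹ * (f kP8)⁻¹ := by
          rw [mul_assoc (f kP8), mul_assoc (f kP8),
            show y₁⁻¹ * y₂ = y₂ * y₁⁻¹ from ((show Commute y₁ y₂ from h12).inv_left).eq]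
          group
      _ = f kP8 * y₂ * (f kP8)⁻¹ * y₁ := by
          nth_rewrite 2 [e]; group
  have hQ2 : f kQ8 * y₂ * (f kQ8)⁻¹ = y₂⁻¹ := by
    refine h.eq_of_commute T1 hy1
      (hconjk (.inr rfl) T2 hy2 fun w hw hW => (hkact w hw hW).2.2.2) (hy2.inv_t T2)
      (tmap_onto T2).2 ?_ hy12i
    calc y₁ * (f kQ8 * y₂ * (f kQ8)⁻¹) = f kQ8 * (y₁ * y₂) * (f kQ8)⁻¹ := by
          nth_rewrite 1 [← hQ1]; group
      _ = f kQ8 * (y₂ * y₁) * (f kQ8)⁻¹ := by rw [h12]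
      _ = f kQ8 * y₂ * (f kQ8)⁻¹ * y₁ := by
          nth_rewrite 2 [← hQ1]; group
  -- the actions on the subgroups of order eight
  have hE1 : ∀ q < 192, inEc8 7 q = true → y₁ * f q * y₁⁻¹ = f (look8 e1Map q) :=
    hforce1 y₁ hy1 (mul_inv_eq_iff_eq_mul.1 hQ1) (tmap_onto T1).1
  have hE2 : ∀ q < 192, inEc8 4 q = true → y₂ * f q * y₂⁻¹ = f (look8 e2Map q) :=
    hforce2 y₂ hy2 (mul_inv_eq_iff_eq_mul.1 hP2) (tmap_onto T2).1
  have hn : n71 < 192 ∧ n41 < 192 ∧ n72 < 192 ∧ n42 < 192 := by decide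
  obtain ⟨p17, p14⟩ := h.power_rels hn.1 hn.2.1 ord_checks.1
    (fun _ => inEc8_lt (by norm_num)) hE1
  obtain ⟨p27, p24⟩ := h.power_rels hn.2.2.1 hn.2.2.2 ord_checks.2
    (fun _ => inEc8_lt (by norm_num)) hE2
  have hcube : ∀ {T : ℕ} {y : G}, (T = t1Map ∨ T = t2Map) → WAct f y (look8 T) →
      y * y * y = 1 := fun {T y} hT hy' => by
    obtain ⟨w, hw, hW, hwe⟩ := h.mem_W (y := y * y * y)
      (((hy'.mul hy' (hlt1 hT)).mul hy' (hlt1 hT)).congr fun w hw hW => (tlaw hT hw hW).2.2.1)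
    rw [← hwe, h.eq_zero hT hy' hw hW (by rw [hwe]; group), h.map_zero]
  refine ⟨y₁, y₂, ?_⟩
  obtain ⟨r0, r1, r2, r3, r4, ⟨kp, kpi⟩, ⟨kq, kqi⟩, m71, m72, m41, m42⟩ := rel_facts
  have S := h.gword_small y₁ y₂
  have L4 : lets8 f y₁ y₂ 4 = y₁ := rfl
  have L5 : lets8 f y₁ y₂ 5 = y₁⁻¹ := rfl
  have L6 : lets8 f y₁ y₂ 6 = y₂ := rfl
  have L7 : lets8 f y₁ y₂ 7 = y₂⁻¹ := rfl
  have C1 : ∀ u v, conjRel t1Map 0 u v = true →
      gword (lets8 f y₁ y₂) ([4] ++ u ++ [5] ++ v) = 1 := fun u v e =>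
    h.conjRel_eq_one (l := 4) L4 L5 e (by simpa [WAct] using hy1)
  have C2 : ∀ u v, conjRel t2Map 0 u v = true →
      gword (lets8 f y₁ y₂) ([6] ++ u ++ [7] ++ v) = 1 := fun u v e =>
    h.conjRel_eq_one (l := 6) L6 L7 e (by simpa [WAct] using hy2)
  have D1 : ∀ u v, conjRel e1Map 7 u v = true →
      gword (lets8 f y₁ y₂) ([4] ++ u ++ [5] ++ v) = 1 := fun u v e =>
    h.conjRel_eq_one (l := 4) L4 L5 e (by simpa using hE1)
  have D2 : ∀ u v, conjRel e2Map 4 u v = true →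
      gword (lets8 f y₁ y₂) ([6] ++ u ++ [7] ++ v) = 1 := fun u v e =>
    h.conjRel_eq_one (l := 6) L6 L7 e (by simpa using hE2)
  intro w hw
  simp only [rels8, List.mem_cons, List.not_mem_nil, or_false] at hw
  rcases hw with rfl | rfl | rfl | rfl | rfl | rfl | rfl | rfl | rfl | rfl | rfl | rfl | rfl | rfl |
    rfl | rfl | rfl | rfl | rfl | rfl | rfl | rfl | rfl | rfl | rfl | rfl
  · rw [S _ (by decide), r0, h.map_zero]
  · rw [S _ (by decide), r1, h.map_zero]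
  · rw [S _ (by decide), r2, h.map_zero]
  · rw [S _ (by decide), r3, h.map_zero]
  · rw [S _ (by decide), r4, h.map_zero]
  · simp only [gword_cons, gword_nil, mul_one, L4, ← mul_assoc, hcube T1 hy1]
  · simp only [gword_cons, gword_nil, mul_one, L6, ← mul_assoc, hcube T2 hy2]
  · simp only [gword_cons, gword_nil, mul_one, L4, L5, L6, L7]
    rw [← mul_assoc y₁, h12]; group
  · exact C1 [2, 2] [3, 1, 3, 3, 1, 1] (by decide +kernel)
  · exact C1 [0, 0, 2, 2, 0, 2] [1, 3, 3, 1, 1, 3] (by decide +kernel)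
  · exact C1 [0, 2, 0, 0, 2, 0] [1, 3, 1, 3, 1, 1, 3, 1, 1] (by decide +kernel)
  · exact C1 [0, 2, 2, 0, 0, 2] [1, 3, 1, 1, 3, 1] (by decide +kernel)
  · exact C2 [2, 2] [1, 3, 3, 1, 3, 3, 1] (by decide +kernel)
  · exact C2 [0, 0, 2, 2, 0, 2] [1, 1, 3, 1, 1, 3, 1, 3, 1] (by decide +kernel)
  · exact C2 [0, 2, 0, 0, 2, 0] [3, 1, 1, 3, 3, 1] (by decide +kernel)
  · exact C2 [0, 2, 2, 0, 0, 2] [1, 3, 1, 3, 1, 1, 3, 1, 1] (by decide +kernel)
  · show gword (lets8 f y₁ y₂) ([0, 0, 2, 2, 0] ++ [4] ++ [1, 3, 3, 1, 1] ++ [4]) = 1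
    simp only [gword_append8, gword_cons, gword_nil, mul_one, L4, S [0, 0, 2, 2, 0] (by decide),
      S [1, 3, 3, 1, 1] (by decide), kp, kpi, h.map_inv hP, hP1, inv_mul_cancel]
  · show gword (lets8 f y₁ y₂) ([0, 2, 0, 2] ++ [4] ++ [3, 1, 3, 1] ++ [5]) = 1
    simp only [gword_append8, gword_cons, gword_nil, mul_one, L4, L5,
      S [0, 2, 0, 2] (by decide), S [3, 1, 3, 1] (by decide), kq, kqi, h.map_inv hQ, hQ1,
      mul_inv_cancel]
  · show gword (lets8 f y₁ y₂) ([0, 0, 2, 2, 0] ++ [6] ++ [1, 3, 3, 1, 1] ++ [7]) = 1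
    simp only [gword_append8, gword_cons, gword_nil, mul_one, L6, L7,
      S [0, 0, 2, 2, 0] (by decide), S [1, 3, 3, 1, 1] (by decide), kp, kpi, h.map_inv hP, hP2,
      mul_inv_cancel]
  · show gword (lets8 f y₁ y₂) ([0, 2, 0, 2] ++ [6] ++ [3, 1, 3, 1] ++ [6]) = 1
    simp only [gword_append8, gword_cons, gword_nil, mul_one, L6, S [0, 2, 0, 2] (by decide),
      S [3, 1, 3, 1] (by decide), kq, kqi, h.map_inv hQ, hQ2, inv_mul_cancel]
  · exact D1 [0, 2, 0, 2] [3, 1, 3, 1] (by decide +kernel)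
  · show gword (lets8 f y₁ y₂) ([0, 0] ++ [4] ++ [0, 0] ++ [4] ++ [0, 0] ++ [4] ++ [0, 0] ++ [4]
      ++ [0, 0] ++ [4] ++ [0, 0] ++ [4] ++ [0, 0] ++ [4]) = 1
    simp only [gword_append8, gword_cons, gword_nil, mul_one, L4, S [0, 0] (by decide), m71]
    rw [← p17]; simp only [pow_succ, pow_zero, one_mul, mul_assoc]
  · exact D2 [0, 2, 2, 0, 0] [3, 3, 1, 1, 3, 3, 1] (by decide +kernel)
  · show gword (lets8 f y₁ y₂) ([0, 0] ++ [6] ++ [0, 0] ++ [6] ++ [0, 0] ++ [6] ++ [0, 0] ++ [6]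
      ++ [0, 0] ++ [6] ++ [0, 0] ++ [6] ++ [0, 0] ++ [6]) = 1
    simp only [gword_append8, gword_cons, gword_nil, mul_one, L6, S [0, 0] (by decide), m72]
    rw [← p27]; simp only [pow_succ, pow_zero, one_mul, mul_assoc]
  · show gword (lets8 f y₁ y₂) ([0, 0, 2] ++ [4] ++ [0, 0, 2] ++ [4] ++ [0, 0, 2] ++ [4]
      ++ [0, 0, 2] ++ [4]) = 1
    simp only [gword_append8, gword_cons, gword_nil, mul_one, L4, S [0, 0, 2] (by decide), m41]
    rw [← p14]; simp only [pow_succ, pow_zero, one_mul, mul_assoc]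
  · show gword (lets8 f y₁ y₂) ([2, 0] ++ [6] ++ [2, 0] ++ [6] ++ [2, 0] ++ [6] ++ [2, 0] ++ [6])
      = 1
    simp only [gword_append8, gword_cons, gword_nil, mul_one, L6, S [2, 0] (by decide), m42]
    rw [← p24]; simp only [pow_succ, pow_zero, one_mul, mul_assoc]

end CfsgLib.M12Type.Eight
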