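import Cfsg.Agent.M12Type.Basic
import Cfsg.Agent.M12Type.Facts
import Cfsg.Agent.ZStar.Corollaries
import Cfsg.Agent.StronglyEmbedded.Basic
import Mathlib

/-!
Fusion of involutions for an involution centraliser of order 192 of type 2B of the Mathieu group
of degree 12.
-/

set_option autoImplicit false

namespace CfsgLib.M12Type

open CfsgLib.StronglyEmbedded (orderOf_two_iff orderOf_conj)

variable {G : Type*} [Group G] {f : ℕ → G} {s : G}

theorem Emb.map_zero (h : Emb f s) : f 0 = 1 := by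
  have := h.mul 0 (by norm_num) 0 (by norm_num)
  rwa [(inv_facts (i := 0) (by norm_num)).2.2.1, left_eq_mul] at this

theorem Emb.map_inv (h : Emb f s) {i : ℕ} (hi : i < 192) : f (invI i) = (f i)⁻¹ :=
  eq_inv_of_mul_eq_one_right (by rw [← h.mul i hi _ (inv_lt hi), (inv_facts hi).2.1, h.map_zero])

theorem Emb.map_cj (h : Emb f s) {a b : ℕ} (ha : a < 192) (hb : b < 192) :
    f (cjI a b) = f a * f b * (f a)⁻¹ := by
  rw [cjI, h.mul _ (mul_lt ha hb) _ (inv_lt ha), h.mul a ha b hb, h.map_inv ha]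

theorem Emb.commute_iff (h : Emb f s) {a b : ℕ} (ha : a < 192) (hb : b < 192) :
    f a * f b = f b * f a ↔ mulI a b = mulI b a := by
  rw [← h.mul a ha b hb, ← h.mul b hb a ha]
  exact ⟨fun e => h.inj _ (mul_lt ha hb) _ (mul_lt hb ha) e, fun e => by rw [e]⟩

theorem Emb.commI_iff (h : Emb f s) {a b : ℕ} (ha : a < 192) (hb : b < 192) :
    commI a b = true ↔ f a * f b = f b * f a := commI_spec.trans (h.commute_iff ha hb).symm

theorem Emb.comm_s (h : Emb f s) {i : ℕ} (hi : i < 192) : f i * s = s * f i := by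
  rw [← h.map_u]
  exact (h.commI_iff hi const_facts.1).1 (inv_facts hi).2.2.2.2

theorem Emb.orderOf_invol (h : Emb f s) {i : ℕ} (hi : i < 192) (hv : isInv i = true) :
    orderOf (f i) = 2 := by
  obtain ⟨h0, hne⟩ := isInv_spec.1 hv
  refine orderOf_two_iff.2 ⟨by rw [← h.mul i hi i hi, h0, h.map_zero], fun e => hne ?_⟩
  exact h.inj i hi 0 (by norm_num) (by rw [e, h.map_zero])

theorem Emb.orderOf_s (h : Emb f s) : orderOf s = 2 := by
  rw [← h.map_u]
  exact h.orderOf_invol const_facts.1 const_facts.2.2.2.2.2.2.2.2.1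

theorem Emb.exists_invol (h : Emb f s) {y : G} (hy : orderOf y = 2) (hc : y * s = s * y) :
    ∃ i < 192, isInv i = true ∧ f i = y := by
  obtain ⟨i, hi, rfl⟩ := h.surj y hc
  obtain ⟨h1, h2⟩ := orderOf_two_iff.1 hy
  refine ⟨i, hi, isInv_spec.2 ⟨h.inj _ (mul_lt hi hi) 0 (by norm_num)
    (by rw [h.mul i hi i hi, h1, h.map_zero]), fun e => h2 ?_⟩, rfl⟩
  rw [e, h.map_zero]

theorem Emb.card_centralizer (h : Emb f s) :
    Nat.card (Subgroup.centralizer ({s} : Set G)) = 192 := by
  refine (Nat.card_eq_of_bijective (fun i : Fin 192 => (⟨f i,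
    Subgroup.mem_centralizer_singleton_iff.mpr (h.comm_s i.2)⟩ :
      Subgroup.centralizer ({s} : Set G))) ⟨fun i j e => ?_, fun y => ?_⟩).symm.trans (by simp)
  · exact Fin.ext (h.inj i i.2 j j.2 (congrArg Subtype.val e))
  · obtain ⟨i, hi, e⟩ := h.surj y (Subgroup.mem_centralizer_singleton_iff.mp y.2)
    exact ⟨⟨i, hi⟩, Subtype.ext e⟩

/-- The subgroup of order 64. -/
def Emb.sylow (h : Emb f s) : Subgroup G where
  carrier := {y | ∃ i < 192, inS i = true ∧ f i = y}
  one_mem' := ⟨0, by norm_num, by decide +kernel, h.map_zero⟩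
  mul_mem' := fun {a b} ⟨i, hi, h1, e1⟩ ⟨j, hj, h2, e2⟩ =>
    ⟨mulI i j, mul_lt hi hj, inS_facts.1 i hi j hj h1 h2, by rw [h.mul i hi j hj, e1, e2]⟩
  inv_mem' := fun {a} ⟨i, hi, h1, e1⟩ => by
    refine ⟨invI i, inv_lt hi, ?_, by rw [h.map_inv hi, e1]⟩
    have hd : CfsgLib.CosetEnum.allBelow (fun i => impB (inS i) (inS (invI i))) 192 = true := by
      decide +kernel
    exact impB_spec (allBelow_spec hd i hi) h1

theorem Emb.card_sylow (h : Emb f s) : Nat.card h.sylow = 64 := by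
  classical
  have hs : ((List.range 192).filter inS).toFinset.card = 64 := by
    rw [List.toFinset_card_of_nodup (List.nodup_range.filter _)]
    exact inS_facts.2
  refine (Nat.card_eq_of_bijective (fun i : ((List.range 192).filter inS).toFinset => (⟨f i.1, by
      have := i.2
      rw [List.mem_toFinset, List.mem_filter, List.mem_range] at this
      exact ⟨i.1, this.1, this.2, rfl⟩⟩ : h.sylow)) ⟨fun i j e => ?_, fun y => ?_⟩).symm.trans
    (by rw [Nat.card_eq_finsetCard, hs])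
  · have hi := i.2
    have hj := j.2
    rw [List.mem_toFinset, List.mem_filter, List.mem_range] at hi hj
    exact Subtype.ext (h.inj _ hi.1 _ hj.1 (congrArg Subtype.val e))
  · obtain ⟨i, hi, h1, e⟩ := y.2
    exact ⟨⟨i, by rw [List.mem_toFinset, List.mem_filter, List.mem_range]; exact ⟨hi, h1⟩⟩,
      Subtype.ext e⟩

variable [Finite G]

theorem Emb.exists_sylow_eq (h : Emb f s) : ∃ T : Sylow 2 G, (T : Subgroup G) = h.sylow := by
  haveI : Fact (Nat.Prime 2) := ⟨Nat.prime_two⟩
  have hp : IsPGroup 2 h.sylow := IsPGroup.of_card (n := 6) (by rw [h.card_sylow]; norm_num)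
  obtain ⟨T, hT⟩ := hp.exists_le_sylow
  refine ⟨T, (hT.antisymm ?_).symm⟩
  by_contra hn
  have hlt : h.sylow.subgroupOf (T : Subgroup G) < ⊤ := lt_top_iff_ne_top.2 fun e => hn
    (Subgroup.subgroupOf_eq_top.1 e)
  haveI : Group.IsNilpotent (T : Subgroup G) := T.2.isNilpotent
  have hnc := normalizerCondition_of_isNilpotent (G := (T : Subgroup G))
    (h.sylow.subgroupOf (T : Subgroup G)) hlt
  obtain ⟨n, hn1, hn2⟩ := SetLike.exists_of_lt hnc
  have hnorm : ∀ y ∈ h.sylow, (n : G) * y * (n : G)⁻¹ ∈ h.sylow := fun y hy => by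
    have := (Subgroup.mem_normalizer_iff.1 hn1 ⟨y, hT hy⟩).1 (by
      rw [Subgroup.mem_subgroupOf]; exact hy)
    rwa [Subgroup.mem_subgroupOf] at this
  have hninv : ∀ y ∈ h.sylow, (n : G)⁻¹ * y * (n : G) ∈ h.sylow := fun y hy => by
    have := (Subgroup.mem_normalizer_iff.1 (Subgroup.inv_mem _ hn1) ⟨y, hT hy⟩).1 (by
      rw [Subgroup.mem_subgroupOf]; exact hy)
    simpa [Subgroup.mem_subgroupOf] using this
  have hsS : s ∈ h.sylow := ⟨uI, const_facts.1, by decide +kernel, h.map_u⟩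
  obtain ⟨k, hk, hkS, hke⟩ := hnorm s hsS
  have hcen : k = 0 ∨ k = uI := center_inS hk fun j hj hjS => by
    rw [← h.commute_iff hk hj, hke]
    obtain ⟨j', hj', hjS', hje⟩ := hninv (f j) ⟨j, hj, hjS, rfl⟩
    have hc := h.comm_s hj'
    have e : f j = (n : G) * f j' * (n : G)⁻¹ := by rw [hje]; group
    rw [e]
    calc (n : G) * s * (n : G)⁻¹ * ((n : G) * f j' * (n : G)⁻¹) = (n : G) * (s * f j') * (n : G)⁻¹ := by
          group
      _ = (n : G) * (f j' * s) * (n : G)⁻¹ := by rw [hc]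
      _ = _ := by group
  have hns : (n : G) * s = s * (n : G) := by
    rcases hcen with rfl | rfl
    · rw [h.map_zero] at hke
      exact absurd (conj_eq_one_iff.1 hke.symm) (orderOf_two_iff.1 h.orderOf_s).2
    · rw [h.map_u] at hke
      nth_rewrite 2 [hke]
      group
  -- a larger 2-group inside the centralizer
  set K := h.sylow ⊔ Subgroup.zpowers (n : G)
  have hKT : K ≤ (T : Subgroup G) := sup_le hT (Subgroup.zpowers_le.2 n.2)
  have hKC : K ≤ Subgroup.centralizer ({s} : Set G) := by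
    refine sup_le ?_ (Subgroup.zpowers_le.2 (Subgroup.mem_centralizer_singleton_iff.mpr hns))
    rintro y ⟨i, hi, -, rfl⟩
    exact Subgroup.mem_centralizer_singleton_iff.mpr (h.comm_s hi)
  obtain ⟨m, hm⟩ := IsPGroup.iff_card.1 (T.2.to_le hKT)
  have hd : 2 ^ m ∣ 192 := hm ▸ h.card_centralizer ▸ Subgroup.card_dvd_of_le hKC
  have hlt' : 64 < 2 ^ m := by
    rw [← hm, ← h.card_sylow]
    refine lt_of_le_of_ne (Subgroup.card_le_of_le le_sup_left) fun e => hn2 ?_
    rw [Subgroup.mem_subgroupOf]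
    rw [Subgroup.eq_of_le_of_card_ge (le_sup_left : h.sylow ≤ K) e.ge]
    exact Subgroup.mem_sup_right (Subgroup.mem_zpowers _)
  have : m ≤ 6 := by
    by_contra h7
    have : 2 ^ 7 ∣ 192 := (pow_dvd_pow 2 (by omega)).trans hd
    norm_num at this
  have : 2 ^ m ≤ 2 ^ 6 := Nat.pow_le_pow_right (by norm_num) this
  omega

/-- Every involution is conjugate to a numbered one of the Sylow 2-subgroup. -/
theorem Emb.exists_conj_invol (h : Emb f s) {y : G} (hy : orderOf y = 2) :
    ∃ i < 192, isInv i = true ∧ inS i = true ∧ IsConj y (f i) := by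
  haveI : Fact (Nat.Prime 2) := ⟨Nat.prime_two⟩
  obtain ⟨T, hT⟩ := h.exists_sylow_eq
  have hp : IsPGroup 2 (Subgroup.zpowers y) :=
    IsPGroup.of_card (n := 1) (by rw [Nat.card_zpowers, hy, pow_one])
  obtain ⟨U, hU⟩ := hp.exists_le_sylow
  obtain ⟨c, hc⟩ := MulAction.exists_smul_eq G U T
  have hm : c * y * c⁻¹ ∈ (T : Subgroup G) := by
    rw [← hc]
    exact Subgroup.mem_map.mpr ⟨y, hU (Subgroup.mem_zpowers y), rfl⟩
  rw [hT] at hm
  obtain ⟨i, hi, hiS, e⟩ := hm
  obtain ⟨j, hj, hjv, hje⟩ := h.exists_invol (y := c * y * c⁻¹) (by rw [orderOf_conj, hy])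
    (e ▸ h.comm_s hi)
  have : j = i := h.inj j hj i hi (hje.trans e.symm)
  exact ⟨i, hi, this ▸ hjv, hiS, isConj_iff.mpr ⟨c, e.symm⟩⟩

omit [Finite G] in
/-- Class 10 is not fused to the centre. -/
theorem Emb.not_conj_ten (h : Emb f s) {i : ℕ} (hi : i < 192) (hv : isInv i = true)
    (hc : clsI i = 10) : ¬ IsConj s (f i) := by
  intro hcj
  obtain ⟨c, hce⟩ := isConj_iff.mp hcj
  obtain ⟨hcom, a, ha, b, hb, hai, hbi, hab⟩ := comm_ten hi hc
  have hfi : f i ≠ s := fun e => by
    have hiu : i = uI := h.inj i hi uI const_facts.1 (e.trans h.map_u.symm)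
    rw [hiu] at hc
    revert hc
    decide +kernel
  -- pull back to the centralizer of `s`
  have hback : ∀ a < 192, commI a i = true → ∃ a' < 192, f a' = c⁻¹ * f a * c := fun a ha hai => by
    obtain ⟨a', h1, h2⟩ := h.surj (c⁻¹ * f a * c) (by
      have := (h.commI_iff ha hi).1 hai
      rw [← hce] at this
      calc c⁻¹ * f a * c * s = c⁻¹ * (f a * (c * s * c⁻¹)) * c := by group
        _ = c⁻¹ * (c * s * c⁻¹ * f a) * c := by rw [this]
        _ = _ := by group)
    exact ⟨a', h1, h2⟩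
  obtain ⟨j, hj, hje⟩ := h.surj (c⁻¹ * s * c) (by
    have := h.comm_s hi
    rw [← hce] at this
    calc c⁻¹ * s * c * s = c⁻¹ * (s * (c * s * c⁻¹)) * c := by group
      _ = c⁻¹ * (c * s * c⁻¹ * s) * c := by rw [← this]
      _ = _ := by group)
  have hjv : isInv j = true := by
    obtain ⟨j', hj', hv', e⟩ := h.exists_invol (y := f j) (by
      rw [hje]; simpa using (orderOf_conj c⁻¹ s).trans h.orderOf_s) (h.comm_s hj)
    rwa [h.inj j' hj' j hj e] at hv'
  have hju : j ≠ uI := fun e => hfi (by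
    rw [e, h.map_u] at hje
    rw [← hce]
    nth_rewrite 1 [hje]
    group)
  obtain ⟨a', ha', hae⟩ := hback a ha hai
  obtain ⟨b', hb', hbe⟩ := hback b hb hbi
  have hcomm : ∀ {k k' : ℕ}, k < 192 → k' < 192 → f k' = c⁻¹ * f k * c → commI k i = true →
      commI k' j = true := fun {k k'} hk hk' e hki => by
    refine (h.commI_iff hk' hj).2 ?_
    rw [e, hje]
    have := h.comm_s hk
    calc c⁻¹ * f k * c * (c⁻¹ * s * c) = c⁻¹ * (f k * s) * c := by group
      _ = c⁻¹ * (s * f k) * c := by rw [this]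
      _ = _ := by group
  have hab' : mulI a' b' ≠ mulI b' a' := fun e => hab <| by
    rw [← h.commute_iff ha hb]
    have := (h.commute_iff ha' hb').2 e
    rw [hae, hbe] at this
    have := congrArg (fun w => c * w * c⁻¹) this
    simpa [mul_assoc] using this
  obtain ⟨-, p, hp, q, hq, hpj, hqj, hpq⟩ :=
    comm_nonabelian hj hjv hju ha' hb' (hcomm ha ha' hae hai) (hcomm hb hb' hbe hbi) hab'
  -- forward again
  have hfwd : ∀ k < 192, commI k j = true → ∃ k' < 192, f k' = c * f k * c⁻¹ ∧ commI k' i = true :=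
      fun k hk hkj => by
    have h2 := (h.commI_iff hk hj).1 hkj
    rw [hje] at h2
    obtain ⟨k', hk', e⟩ := h.surj (c * f k * c⁻¹) (by
      calc c * f k * c⁻¹ * s = c * (f k * (c⁻¹ * s * c)) * c⁻¹ := by group
        _ = c * (c⁻¹ * s * c * f k) * c⁻¹ := by rw [h2]
        _ = _ := by group)
    refine ⟨k', hk', e, (h.commI_iff hk' hi).2 ?_⟩
    rw [e, ← hce]
    have := h.comm_s hk
    calc c * f k * c⁻¹ * (c * s * c⁻¹) = c * (f k * s) * c⁻¹ := by group
      _ = c * (s * f k) * c⁻¹ := by rw [this]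
      _ = _ := by group
  obtain ⟨p', hp', hpe, hpi⟩ := hfwd p hp hpj
  obtain ⟨q', hq', hqe, hqi⟩ := hfwd q hq hqj
  have e1 : f p * f q = f q * f p * s := by
    rw [← h.mul p hp q hq, hpq, h.mul _ (mul_lt hq hp) _ const_facts.1, h.mul q hq p hp, h.map_u]
  have e2 : f p' * f q' = f q' * f p' * f i := by
    rw [hpe, hqe, ← hce]
    calc c * f p * c⁻¹ * (c * f q * c⁻¹) = c * (f p * f q) * c⁻¹ := by group
      _ = c * (f q * f p * s) * c⁻¹ := by rw [e1]
      _ = _ := by group
  rcases hcom p' hp' q' hq' hpi hqi with e | e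
  · rw [(h.commute_iff hp' hq').2 e, left_eq_mul] at e2
    exact (orderOf_two_iff.1 (h.orderOf_invol hi hv)).2 e2
  · have : f p' * f q' = f q' * f p' * s := by
      rw [← h.mul p' hp' q' hq', e, h.mul _ (mul_lt hq' hp') _ const_facts.1, h.mul q' hq' p' hp',
        h.map_u]
    exact hfi (mul_left_cancel (e2.symm.trans this))

omit [Finite G] in
theorem Emb.isConj_of_cls (h : Emb f s) {i : ℕ} (hi : i < 192) {c r : ℕ} (hr192 : r < 192)
    (hc : clsI i = c) (hr : (c, r) = (10, zI) ∨ (c, r) = (11, oI) ∨ (c, r) = (12, xI)) :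
    IsConj (f r) (f i) := by
  obtain ⟨l, hl, rfl⟩ := cls_conj hi hc hr
  exact isConj_iff.mpr ⟨f l, (h.map_cj hl hr192).symm⟩

/-- The centre is fused to the normal elementary abelian subgroup. -/
theorem Emb.isConj_x [IsSimpleGroup G] (h : Emb f s) : IsConj s (f xI) := by
  haveI : Fact (Nat.Prime 2) := ⟨Nat.prime_two⟩
  obtain ⟨T, hT⟩ := h.exists_sylow_eq
  obtain ⟨c, hc, hne⟩ : ∃ c : G, c * s * c⁻¹ ∈ h.sylow ∧ c * s * c⁻¹ ≠ s := by
    by_contra hno
    push_neg at hno
    have hz := CfsgLib.ZStar.inZStar_of_no_fusion h.orderOf_s T fun g hg => hno g (hT ▸ hg)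
    have hcore : Cfsg.pPrimeCore 2 G = ⊥ := by
      refine ((inferInstance : (Cfsg.pPrimeCore 2 G).Normal).eq_bot_or_eq_top).resolve_right
        fun e => ?_
      exact CfsgLib.ZStar.not_mem_pPrimeCore_of_orderOf_two h.orderOf_s (e ▸ Subgroup.mem_top s)
    have hcen : s ∈ Subgroup.center G := by
      rw [Subgroup.mem_center_iff]
      intro g
      have h1 := hz g
      rw [hcore, Subgroup.mem_bot] at h1
      calc g * s = g * s * g⁻¹ * s⁻¹ * (s * g) := by group
        _ = s * g := by rw [h1, one_mul]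
    rcases (inferInstance : (Subgroup.center G).Normal).eq_bot_or_eq_top with e | e
    · rw [e, Subgroup.mem_bot] at hcen
      exact (orderOf_two_iff.1 h.orderOf_s).2 hcen
    · obtain ⟨a, ha, b, hb, -, -, hab⟩ := (comm_ten const_facts.2.2.2.1
        const_facts.2.2.2.2.2.2.2.2.2.2.2.1).2
      refine hab ((h.commute_iff ha hb).1 ?_)
      have : f b ∈ Subgroup.center G := e ▸ Subgroup.mem_top _
      exact (Subgroup.mem_center_iff.1 this (f a))
  obtain ⟨i, hi, -, hie⟩ := hc
  have hcj : IsConj s (f i) := isConj_iff.mpr ⟨c, hie.symm⟩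
  obtain ⟨i', hi', hv, e⟩ := h.exists_invol (y := f i) (by rw [hie, orderOf_conj, h.orderOf_s])
    (h.comm_s hi)
  rw [h.inj i' hi' i hi e] at hv
  rcases inv_classes hi hv with h' | h' | h' | h'
  · exact absurd (by rw [← hie, h', h.map_u]) hne
  · exact absurd hcj (h.not_conj_ten hi hv h')
  swap
  · exact hcj.trans (h.isConj_of_cls hi const_facts.2.1 h' (.inr (.inr rfl))).symm
  -- class 11 fused: two class 12 involutions
  by_contra hx
  have hnot12 : ∀ k < 192, clsI k = 12 → ¬ IsConj s (f k) := fun k hk hk12 hh =>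
    hx (hh.trans (h.isConj_of_cls hk const_facts.2.1 hk12 (.inr (.inr rfl))).symm)
  obtain ⟨g, hg⟩ := isConj_iff.mp hcj
  obtain ⟨j, hj, hje⟩ := h.surj (g⁻¹ * s * g) (by
    have := h.comm_s hi
    rw [← hg] at this
    calc g⁻¹ * s * g * s = g⁻¹ * (s * (g * s * g⁻¹)) * g := by group
      _ = g⁻¹ * (g * s * g⁻¹ * s) * g := by rw [← this]
      _ = _ := by group)
  have hjs : IsConj s (f j) := isConj_iff.mpr ⟨g⁻¹, by rw [hje]; group⟩
  obtain ⟨j', hj', hjv, ej⟩ := h.exists_invol (y := f j) (by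
    rw [hje]; simpa using (orderOf_conj g⁻¹ s).trans h.orderOf_s) (h.comm_s hj)
  rw [h.inj j' hj' j hj ej] at hjv
  have hj11 : clsI j = 11 := by
    rcases inv_classes hj hjv with h1 | h1 | h1 | h1
    · exfalso
      rw [h1, h.map_u] at hje
      exact hne (by rw [← hie, ← hg]; nth_rewrite 1 [hje]; group)
    · exact absurd hjs (h.not_conj_ten hj hjv h1)
    · exact h1
    · exact absurd hjs (hnot12 j hj h1)
  obtain ⟨-, -, a, ha, b, hb, hai, hbi, ha12, hb12, hab⟩ := cls_eleven hi h'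
  obtain ⟨hno10, huniq, -⟩ := cls_eleven hj hj11
  have hpull : ∀ k < 192, commI k i = true → clsI k = 12 →
      ∃ k' < 192, f k' = g⁻¹ * f k * g ∧ commI k' j = true ∧ clsI k' = 12 := fun k hk hki hk12 => by
    have h1 := (h.commI_iff hk hi).1 hki
    rw [← hg] at h1
    obtain ⟨k', hk', e'⟩ := h.surj (g⁻¹ * f k * g) (by
      calc g⁻¹ * f k * g * s = g⁻¹ * (f k * (g * s * g⁻¹)) * g := by group
        _ = g⁻¹ * (g * s * g⁻¹ * f k) * g := by rw [h1]
        _ = _ := by group)
    have hk'j : commI k' j = true := (h.commI_iff hk' hj).2 (by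
      rw [e', hje]
      have := h.comm_s hk
      calc g⁻¹ * f k * g * (g⁻¹ * s * g) = g⁻¹ * (f k * s) * g := by group
        _ = g⁻¹ * (s * f k) * g := by rw [this]
        _ = _ := by group)
    have hkv : isInv k = true := by
      have hd : CfsgLib.CosetEnum.allBelow
          (fun k => impB (Nat.beq (clsI k) 12) (isInv k)) 192 = true := by decide +kernel
      exact impB_spec (allBelow_spec hd k hk) (beq_spec.2 hk12)
    obtain ⟨k'', hk'', hv', e''⟩ := h.exists_invol (y := f k') (by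
      rw [e']; simpa using (orderOf_conj g⁻¹ (f k)).trans (h.orderOf_invol hk hkv)) (h.comm_s hk')
    rw [h.inj k'' hk'' k' hk' e''] at hv'
    have hns : ¬ IsConj s (f k') := fun hh => hnot12 k hk hk12
      (hh.trans (isConj_iff.mpr ⟨g, by rw [e']; group⟩))
    refine ⟨k', hk', e', hk'j, ?_⟩
    rcases inv_classes hk' hv' with h1 | h1 | h1 | h1
    · exact absurd (h1 ▸ h.map_u ▸ IsConj.refl s) hns
    · exact absurd h1 (hno10 k' hk' hk'j hv')
    · exact absurd (hjs.trans (((h.isConj_of_cls hj const_facts.2.2.2.2.2.1 hj11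
        (.inr (.inl rfl))).symm).trans (h.isConj_of_cls hk' const_facts.2.2.2.2.2.1 h1
        (.inr (.inl rfl))))) hns
    · exact h1
  obtain ⟨a', ha', hae, haj, ha'12⟩ := hpull a ha hai ha12
  obtain ⟨b', hb', hbe, hbj, hb'12⟩ := hpull b hb hbi hb12
  rcases huniq a' ha' b' hb' haj hbj ha'12 hb'12 with e1 | e1
  · refine hab (h.inj a ha b hb ?_)
    have := congrArg f e1
    rw [hae, hbe] at this
    simpa using this
  · have h1 : f a * f b = s := by
      rw [← h.mul a ha b hb]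
      rcases (cls_eleven hi h').2.1 a ha b hb hai hbi ha12 hb12 with h2 | h2
      · exact absurd h2 hab
      · rw [h2, h.map_u]
    have h2 : f a' * f b' = s := by rw [← h.mul a' ha' b' hb', e1, h.map_u]
    rw [hae, hbe] at h2
    have h3 : g⁻¹ * (f a * f b) * g = s := by rw [← h2]; group
    rw [h1] at h3
    apply hne
    rw [← hie, ← hg]
    nth_rewrite 1 [← h3]
    group

end CfsgLib.M12Type
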