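import Cfsg.Agent.M12Type.GlueData

/-!
Every possible gluing map either preserves the normal elementary abelian subgroup or normalises to
the standard one.
-/

set_option autoImplicit false
set_option maxRecDepth 100000

namespace CfsgLib.M12Type

open CfsgLib.CosetEnum (allBelow)

/-- `f` on the three generators -/
noncomputable def onGens (r : ℕ → Bool) : Bool := r pg1 && r pg2 && r pg3

/-- `F` is the packed map of a homomorphism with the given images -/
noncomputable def homOK (F a b c : ℕ) : Bool :=
  allBelow (fun k => Nat.beq (look F (mulI (pelem k) pg1)) (mulI (look F (pelem k)) a) &&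
    Nat.beq (look F (mulI (pelem k) pg2)) (mulI (look F (pelem k)) b) &&
    Nat.beq (look F (mulI (pelem k) pg3)) (mulI (look F (pelem k)) c)) 32

/-- the square is conjugation by a fixed element -/
noncomputable def sqOK (F : ℕ) : Bool :=
  anyBelow (fun h => Nat.beq (look F (pelem h)) (pelem h) &&
    onGens (fun p => Nat.beq (look F (look F p)) (cjI (pelem h) p))) 32

/-- conjugation by `g * aI` -/
noncomputable def stepGA (F p : ℕ) : ℕ := look F (cjI aI p)

/-- the cube of `g * aI` is inner -/
noncomputable def cubeOK (F : ℕ) : Bool :=
  anyBelow (fun d =>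
    onGens (fun p => Nat.beq (stepGA F (stepGA F (stepGA F p))) (cjI (pelem d) p))) 32

/-- the conditions on a gluing map -/
noncomputable def validOK (F a b c : ℕ) : Bool :=
  homOK F a b c && Nat.beq (look F uI) xI && Nat.beq (look F xI) uI && sqOK F && cubeOK F

/-- the map preserves the elementary abelian normal subgroup, with the fusion it implies -/
noncomputable def eightOK (F : ℕ) : Bool :=
  allBelow (fun k =>
    impB (Nat.beq (clsI (pelem k)) 12)
      (Nat.beq (clsI (look F (pelem k))) 12 || Nat.beq (look F (pelem k)) uI) &&
    impB (Nat.beq (clsI (pelem k)) 10) (!(Nat.beq (look F (pelem k)) zI))) 32 &&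
  anyBelow (fun k => Nat.beq (clsI (pelem k)) 11 && Nat.beq (clsI (look F (pelem k))) 10) 32

/-- an entry of the normalisation list -/
noncomputable def normStep (F : ℕ) (beta h : ℕ) : Bool :=
  Nat.blt h 192 && inP h &&
    onGens (fun p => Nat.beq (look F (look beta p)) (look beta (cjI (invI h) (stdI p))))

/-- some normalisation works -/
noncomputable def normOK (F a b c : ℕ) : Bool :=
  norms.any fun n => Nat.beq n.1 a && Nat.beq n.2.1 b && Nat.beq n.2.2.1 c &&
    Nat.blt n.2.2.2.1 2 && normStep F (betas.getD n.2.2.2.1 0) n.2.2.2.2

/-- the whole alternative -/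
noncomputable def altOK (a b c : ℕ) : Bool :=
  impB (validOK (ext3 a b c 31) a b c) (eightOK (ext3 a b c 31) || normOK (ext3 a b c 31) a b c)

/-- element of order four -/
noncomputable def fourI (i : ℕ) : Bool :=
  !(Nat.beq (mulI i i) 0) && Nat.beq (mulI (mulI i i) (mulI i i)) 0

theorem gens_order : fourI pg1 = true ∧ fourI pg2 = true ∧ isInv pg3 = true := by decide +kernel

/-- the check with the first image fixed -/
noncomputable def altRow (i : ℕ) : Bool :=
  impB (fourI (pelem i)) (allBelow (fun j => impB (fourI (pelem j))
    (allBelow (fun k => impB (isInv (pelem k)) (altOK (pelem i) (pelem j) (pelem k))) 32)) 32)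

theorem altRows0 : allBelow altRow 32 = true := by decide +kernel

theorem alt_spec {i j k : ℕ} (hi : i < 32) (hj : j < 32) (hk : k < 32)
    (h1 : fourI (pelem i) = true) (h2 : fourI (pelem j) = true) (h3 : isInv (pelem k) = true) :
    altOK (pelem i) (pelem j) (pelem k) = true :=
  impB_spec (allBelow_spec (impB_spec (allBelow_spec (impB_spec (allBelow_spec altRows0 i hi) h1)
    j hj) h2) k hk) h3

/-- automorphisms: bounded, multiplicative, fixing `uI` and `xI`, injective -/
noncomputable def betaOK (beta : ℕ) : Bool :=
  Nat.beq (look beta uI) uI && Nat.beq (look beta xI) xI &&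
    allBelow (fun i => Nat.blt (look beta i) 192 &&
      impB (!(Nat.beq i 0)) (!(Nat.beq (look beta i) 0))) 192 &&
    allBelow (fun i => allBelow (fun j =>
      Nat.beq (look beta (mulI i j)) (mulI (look beta i) (look beta j))) 192) 192

theorem betas_ok : betas.all betaOK = true := by decide +kernel

/-- the centraliser of `xI` is listed by `pelem`, from its parents -/
theorem pelem_facts : allBelow (fun k => Nat.blt (pelem k) 192 && inP (pelem k) &&
      impB (!(Nat.beq k 0))
        (Nat.blt (ppar k) k && Nat.blt (plet k) 3 &&
          Nat.beq (mulI (pelem (ppar k)) (sel3 pg1 pg2 pg3 (plet k))) (pelem k))) 32 = true ∧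
    pelem 0 = 0 ∧
    allBelow (fun i => impB (inP i) (anyBelow (fun k => Nat.beq (pelem k) i) 32)) 192 = true := by
  refine ⟨?_, ?_, ?_⟩ <;> decide +kernel

end CfsgLib.M12Type
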