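import Cfsg.Agent.M12Type.Fusion
import Cfsg.Agent.M12Type.GlueFacts

/-!
An element exchanging the central involution with one of the normal elementary abelian subgroup,
in normal form.
-/

set_option autoImplicit false

namespace CfsgLib.M12Type

open CfsgLib.CosetEnum (allBelow)
open CfsgLib.StronglyEmbedded (orderOf_two_iff orderOf_conj)

variable {G : Type*} [Group G] {f : ℕ → G} {s : G}

theorem pelem_spec {k : ℕ} (hk : k < 32) : pelem k < 192 ∧ inP (pelem k) = true ∧
    (k ≠ 0 → ppar k < k ∧ plet k < 3 ∧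
      mulI (pelem (ppar k)) (sel3 pg1 pg2 pg3 (plet k)) = pelem k) := by
  have h := allBelow_spec pelem_facts.1 k hk
  simp only [Bool.and_eq_true, blt_spec] at h
  refine ⟨h.1.1, h.1.2, fun h0 => ?_⟩
  have := impB_spec h.2 (by rw [Bool.not_eq_true', beq_false_spec]; exact h0)
  simpa [Bool.and_eq_true, blt_spec, beq_spec, and_assoc] using this

theorem exists_pelem {i : ℕ} (hi : i < 192) (h : inP i = true) : ∃ k < 32, pelem k = i := by
  obtain ⟨k, hk, e⟩ := anyBelow_spec (impB_spec (allBelow_spec pelem_facts.2.2 i hi) h)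
  exact ⟨k, hk, beq_spec.1 e⟩

theorem pg_facts : pg1 < 192 ∧ pg2 < 192 ∧ pg3 < 192 ∧ inP pg1 = true ∧ inP pg2 = true ∧
    inP pg3 = true ∧ inP uI = true ∧ inP xI = true ∧ inP xuI = true ∧ inP zI = true := by
  decide +kernel

theorem onGens_spec {r : ℕ → Bool} (h : onGens r = true) :
    r pg1 = true ∧ r pg2 = true ∧ r pg3 = true := by
  simpa [onGens, Bool.and_eq_true, and_assoc] using h

/-- The standard gluing map is an involutory homomorphism fixing few central elements. -/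
theorem std_facts :
    allBelow (fun k => Nat.blt (stdI (pelem k)) 192 && inP (stdI (pelem k)) &&
      Nat.beq (stdI (stdI (pelem k))) (pelem k) &&
      Nat.beq (stdI (mulI (pelem k) pg1)) (mulI (stdI (pelem k)) (stdI pg1)) &&
      Nat.beq (stdI (mulI (pelem k) pg2)) (mulI (stdI (pelem k)) (stdI pg2)) &&
      Nat.beq (stdI (mulI (pelem k) pg3)) (mulI (stdI (pelem k)) (stdI pg3)) &&
      impB (allBelow (fun l => commI (pelem k) (pelem l)) 32 && Nat.beq (stdI (pelem k)) (pelem k))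
        (Nat.beq (pelem k) 0 || Nat.beq (pelem k) xuI) &&
      impB (Nat.beq (stdI (cjI aI (pelem k))) (pelem k) &&
        onGens (fun p => Nat.beq (stdI (cjI aI (stdI (cjI aI (stdI (cjI aI p))))))
          (cjI (pelem k) p)))
        (Nat.beq (pelem k) zI) &&
      inP (cjI aI (pelem k))) 32 = true ∧
    stdI uI = xI ∧ stdI xI = uI ∧ stdI xuI = xuI ∧ stdI zI = zI ∧ stdI 0 = 0 ∧
    cjI aI xI = xuI ∧ cjI aI xuI = xI ∧ cjI aI uI = uI ∧ cjI aI zI = zI := by
  refine ⟨?_, ?_⟩ <;> decide +kernel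

/-- The standard gluing element. -/
structure Glue {G : Type*} [Group G] (f : ℕ → G) (g : G) : Prop where
  gg : g * g = 1
  conj : ∀ i < 192, inP i = true → g * f i * g = f (stdI i)
  cube : (g * f aI) * (g * f aI) * (g * f aI) = f zI

theorem Emb.mem_P (h : Emb f s) {y : G} (h1 : y * s = s * y) (h2 : y * f xI = f xI * y) :
    ∃ k < 32, f (pelem k) = y := by
  obtain ⟨i, hi, rfl⟩ := h.surj y h1
  obtain ⟨k, hk, rfl⟩ := exists_pelem hi ((h.commI_iff hi const_facts.2.1).2 h2)
  exact ⟨k, hk, rfl⟩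

theorem Emb.comm_x (h : Emb f s) {i : ℕ} (hi : i < 192) (hP : inP i = true) :
    f i * f xI = f xI * f i :=
  (h.commI_iff hi const_facts.2.1).1 hP

/-- A conjugation agreeing on the generators of the centraliser of `xI` agrees on all of it. -/
theorem Emb.conj_ext (h : Emb f s) {g : G} {φ : ℕ → ℕ} (hφ0 : φ 0 = 0)
    (hlt : ∀ k < 32, φ (pelem k) < 192)
    (hhom : ∀ k < 32, φ (mulI (pelem k) pg1) = mulI (φ (pelem k)) (φ pg1) ∧
      φ (mulI (pelem k) pg2) = mulI (φ (pelem k)) (φ pg2) ∧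
      φ (mulI (pelem k) pg3) = mulI (φ (pelem k)) (φ pg3))
    (h1 : g * f pg1 * g⁻¹ = f (φ pg1)) (h2 : g * f pg2 * g⁻¹ = f (φ pg2))
    (h3 : g * f pg3 * g⁻¹ = f (φ pg3)) :
    ∀ k < 32, g * f (pelem k) * g⁻¹ = f (φ (pelem k)) := by
  obtain ⟨p1, p2, p3, q1, q2, q3, -⟩ := pg_facts
  have hb : ∀ p < 192, inP p = true → φ p < 192 := fun p hp hq => by
    obtain ⟨l, hl, e⟩ := exists_pelem hp hq
    exact e ▸ hlt l hl
  intro k
  induction k using Nat.strong_induction_on with
  | _ k ih =>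
  intro hk
  by_cases h0 : k = 0
  · subst h0
    rw [pelem_facts.2.1, hφ0, h.map_zero, mul_one, mul_inv_cancel]
  obtain ⟨-, -, hpar⟩ := pelem_spec hk
  obtain ⟨hpk, hlet, he⟩ := hpar h0
  have hk' : ppar k < 32 := by omega
  have hih := ih _ hpk hk'
  have key : ∀ p < 192, inP p = true → g * f p * g⁻¹ = f (φ p) →
      φ (mulI (pelem (ppar k)) p) = mulI (φ (pelem (ppar k))) (φ p) →
      g * f (mulI (pelem (ppar k)) p) * g⁻¹ = f (φ (mulI (pelem (ppar k)) p)) := fun p hp hq hg he' => by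
    rw [he', h.mul _ (hlt _ hk') _ (hb p hp hq), ← hih, ← hg, h.mul _ (pelem_spec hk').1 p hp]
    group
  rw [← he]
  obtain ⟨e1, e2, e3⟩ := hhom _ hk'
  have hc : plet k = 0 ∨ plet k = 1 ∨ plet k = 2 := by omega
  rcases hc with e | e | e <;> rw [e]
  · exact key pg1 p1 q1 h1 e1
  · exact key pg2 p2 q2 h2 e2
  · exact key pg3 p3 q3 h3 e3

theorem std_spec {k : ℕ} (hk : k < 32) : stdI (pelem k) < 192 ∧ inP (stdI (pelem k)) = true ∧
    stdI (stdI (pelem k)) = pelem k ∧
    (stdI (mulI (pelem k) pg1) = mulI (stdI (pelem k)) (stdI pg1) ∧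
      stdI (mulI (pelem k) pg2) = mulI (stdI (pelem k)) (stdI pg2) ∧
      stdI (mulI (pelem k) pg3) = mulI (stdI (pelem k)) (stdI pg3)) ∧
    ((∀ l < 32, commI (pelem k) (pelem l) = true) → stdI (pelem k) = pelem k →
      pelem k = 0 ∨ pelem k = xuI) ∧
    (stdI (cjI aI (pelem k)) = pelem k → onGens (fun p => Nat.beq (stdI (cjI aI (stdI (cjI aI
      (stdI (cjI aI p)))))) (cjI (pelem k) p)) = true → pelem k = zI) ∧
    inP (cjI aI (pelem k)) = true := by
  have h := allBelow_spec std_facts.1 k hk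
  simp only [Bool.and_eq_true, beq_spec, blt_spec] at h
  obtain ⟨⟨⟨⟨⟨⟨⟨⟨h1, h2⟩, h3⟩, h4⟩, h5⟩, h6⟩, h7⟩, h8⟩, h9⟩ := h
  refine ⟨h1, h2, h3, ⟨h4, h5, h6⟩, fun hc he => ?_, fun he hg => ?_, h9⟩
  · have hall : allBelow (fun l => commI (pelem k) (pelem l)) 32 = true := by
      have : ∀ n ≤ 32, allBelow (fun l => commI (pelem k) (pelem l)) n = true := by
        intro n hn
        induction n with
        | zero => rfl
        | succ n ihn => rw [allBelow, hc n (by omega), ihn (by omega)]; rfl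
      exact this 32 le_rfl
    have := impB_spec h7 (by rw [Bool.and_eq_true, beq_spec]; exact ⟨hall, he⟩)
    simpa [Bool.or_eq_true, beq_spec] using this
  · exact beq_spec.1 (impB_spec h8 (by rw [Bool.and_eq_true, beq_spec]; exact ⟨he, hg⟩))

theorem beta_spec {beta : ℕ} (hb : beta ∈ betas) : look beta uI = uI ∧ look beta xI = xI ∧
    (∀ i < 192, look beta i < 192 ∧ (i ≠ 0 → look beta i ≠ 0)) ∧
    ∀ i < 192, ∀ j < 192, look beta (mulI i j) = mulI (look beta i) (look beta j) := by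
  have h := List.all_eq_true.1 betas_ok beta hb
  simp only [betaOK, Bool.and_eq_true, beq_spec] at h
  refine ⟨h.1.1.1, h.1.1.2, fun i hi => ?_, fun i hi j hj =>
    beq_spec.1 (allBelow_spec (allBelow_spec h.2 i hi) j hj)⟩
  have := allBelow_spec h.1.2 i hi
  rw [Bool.and_eq_true, blt_spec] at this
  exact ⟨this.1, fun hne => beq_false_spec.1 (by
    simpa [impB, beq_false_spec, hne] using this.2)⟩

theorem Emb.comp_beta (h : Emb f s) {beta : ℕ} (hb : beta ∈ betas) :
    Emb (fun i => f (look beta i)) s := by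
  obtain ⟨hu, -, hlt, hmul⟩ := beta_spec hb
  have h0 : look beta 0 = 0 := by
    have := hmul 0 (by norm_num) 0 (by norm_num)
    rw [(inv_facts (i := 0) (by norm_num)).2.2.1] at this
    have hl := (hlt 0 (by norm_num)).1
    apply h.inj _ hl 0 (by norm_num)
    have e := congrArg f this
    rw [h.mul _ hl _ hl, left_eq_mul] at e
    rw [e, h.map_zero]
  have hinj : ∀ i < 192, ∀ j < 192, look beta i = look beta j → i = j := by
    intro i hi j hj e
    by_contra hne
    have hk : mulI i (invI j) ≠ 0 := fun e0 => hne <| h.inj i hi j hj <| by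
      have := congrArg f e0
      rwa [h.mul i hi _ (inv_lt hj), h.map_inv hj, h.map_zero, mul_inv_eq_one] at this
    apply (hlt _ (mul_lt hi (inv_lt hj))).2 hk
    rw [hmul i hi _ (inv_lt hj), e, ← hmul j hj _ (inv_lt hj), (inv_facts hj).2.1, h0]
  refine ⟨fun i hi j hj => ?_, fun i hi j hj e => hinj i hi j hj
    (h.inj _ (hlt i hi).1 _ (hlt j hj).1 e), fun y hy => ?_, by rw [hu, h.map_u]⟩
  · show f (look beta (mulI i j)) = _
    rw [hmul i hi j hj, h.mul _ (hlt i hi).1 _ (hlt j hj).1]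
  · obtain ⟨k, hk, rfl⟩ := h.surj y hy
    have hbij : Function.Bijective (fun i : Fin 192 => (⟨look beta i, (hlt i i.2).1⟩ : Fin 192)) :=
      Finite.injective_iff_bijective.1 fun a b e =>
        Fin.ext (hinj a a.2 b b.2 (congrArg Fin.val e))
    obtain ⟨i, hi⟩ := hbij.2 ⟨k, hk⟩
    exact ⟨i, i.2, congrArg f (congrArg Fin.val hi)⟩

/-- A gluing map preserving the normal elementary abelian subgroup of order eight. -/
structure EightGlue {G : Type*} [Group G] (f : ℕ → G) (g : G) (F : ℕ) : Prop where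
  gs : g * f uI * g⁻¹ = f xI
  gx : g * f xI * g⁻¹ = f uI
  conj : ∀ k < 32, g * f (pelem k) * g⁻¹ = f (look F (pelem k))
  lt : ∀ k < 32, look F (pelem k) < 192
  eight : eightOK F = true

variable [Finite G]

theorem Emb.exists_swap (h : Emb f s) (hsx : IsConj s (f xI)) :
    ∃ g : G, g * s * g⁻¹ = f xI ∧ g * f xI * g⁻¹ = s := by
  obtain ⟨c, hc⟩ := isConj_iff.mp hsx
  have hx := const_facts.2.1
  have hxs := h.comm_s hx
  rw [← hc] at hxs
  obtain ⟨j, hj, hjv, hje⟩ := h.exists_invol (y := c⁻¹ * s * c)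
    (by simpa using (orderOf_conj c⁻¹ s).trans h.orderOf_s) (by
      calc c⁻¹ * s * c * s = c⁻¹ * (s * (c * s * c⁻¹)) * c := by group
        _ = c⁻¹ * (c * s * c⁻¹ * s) * c := by rw [← hxs]
        _ = _ := by group)
  have hjs : IsConj s (f j) := isConj_iff.mpr ⟨c⁻¹, by rw [hje]; group⟩
  have hju : j ≠ uI := fun e => by
    rw [e, h.map_u] at hje
    have e2 : f xI = s := by
      rw [← hc]
      calc c * s * c⁻¹ = c * (c⁻¹ * s * c) * c⁻¹ := by rw [← hje]
        _ = s := by group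
    have := h.inj xI hx uI const_facts.1 (e2.trans h.map_u.symm)
    revert this
    decide +kernel
  have hback : ∀ p < 192, inP p = true → ∃ p' < 192, f p' = c⁻¹ * f p * c ∧ commI p' j = true := by
    intro p hp hpP
    have h1 := h.comm_x hp hpP
    rw [← hc] at h1
    obtain ⟨p', hp', e⟩ := h.surj (c⁻¹ * f p * c) (by
      calc c⁻¹ * f p * c * s = c⁻¹ * (f p * (c * s * c⁻¹)) * c := by group
        _ = c⁻¹ * (c * s * c⁻¹ * f p) * c := by rw [h1]
        _ = _ := by group)
    refine ⟨p', hp', e, (h.commI_iff hp' hj).2 ?_⟩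
    rw [e, hje]
    have := h.comm_s hp
    calc c⁻¹ * f p * c * (c⁻¹ * s * c) = c⁻¹ * (f p * s) * c := by group
      _ = c⁻¹ * (s * f p) * c := by rw [this]
      _ = _ := by group
  have hnab : ∃ a < 192, ∃ b < 192, inP a = true ∧ inP b = true ∧ mulI a b ≠ mulI b a :=
    ⟨pg1, pg_facts.1, if mulI pg1 pg2 = mulI pg2 pg1 then pg3 else pg2, by decide +kernel⟩
  obtain ⟨a, ha, b, hb, haP, hbP, hab⟩ := hnab
  obtain ⟨a', ha', hae, haj⟩ := hback a ha haP
  obtain ⟨b', hb', hbe, hbj⟩ := hback b hb hbP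
  have hne11 : clsI j ≠ 11 := (comm_nonabelian hj hjv hju ha' hb' haj hbj (fun e => hab (by
    rw [← h.commute_iff ha hb]
    have h1 := (h.commute_iff ha' hb').2 e
    rw [hae, hbe] at h1
    simpa [mul_assoc] using congrArg (fun w => c * w * c⁻¹) h1))).1
  have h12 : clsI j = 12 := by
    rcases inv_classes hj hjv with e | e | e | e
    · exact absurd e hju
    · exact absurd hjs (h.not_conj_ten hj hjv e)
    · exact absurd e hne11
    · exact e
  obtain ⟨l, hl, hle⟩ := cls_conj hj h12 (.inr (.inr rfl))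
  have hlx : f l * f xI * (f l)⁻¹ = c⁻¹ * s * c := by rw [← h.map_cj hl hx, hle, hje]
  refine ⟨c * f l, ?_, ?_⟩
  · calc c * f l * s * (c * f l)⁻¹ = c * (f l * s) * (f l)⁻¹ * c⁻¹ := by group
      _ = c * (s * f l) * (f l)⁻¹ * c⁻¹ := by rw [h.comm_s hl]
      _ = c * s * c⁻¹ := by group
      _ = f xI := hc
  · calc c * f l * f xI * (c * f l)⁻¹ = c * (f l * f xI * (f l)⁻¹) * c⁻¹ := by group
      _ = c * (c⁻¹ * s * c) * c⁻¹ := by rw [hlx]
      _ = s := by group

/-- The gluing element in one of the two normal forms. -/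
theorem Emb.exists_glue (h : Emb f s) (hsx : IsConj s (f xI)) :
    (∃ g F, EightGlue f g F) ∨ ∃ f' g, Emb f' s ∧ Glue f' g := by
  obtain ⟨g, hgs, hgx⟩ := h.exists_swap hsx
  have hu := const_facts.1
  have hx := const_facts.2.1
  -- conjugation on the centraliser of `x`
  have himg : ∀ k < 32, ∃ l < 32, f (pelem l) = g * f (pelem k) * g⁻¹ := by
    intro k hk
    obtain ⟨hk1, hk2, -⟩ := pelem_spec hk
    refine h.mem_P ?_ ?_
    · rw [← hgx]
      calc g * f (pelem k) * g⁻¹ * (g * f xI * g⁻¹) = g * (f (pelem k) * f xI) * g⁻¹ := by group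
        _ = g * (f xI * f (pelem k)) * g⁻¹ := by rw [h.comm_x hk1 hk2]
        _ = _ := by group
    · rw [← hgs]
      calc g * f (pelem k) * g⁻¹ * (g * s * g⁻¹) = g * (f (pelem k) * s) * g⁻¹ := by group
        _ = g * (s * f (pelem k)) * g⁻¹ := by rw [h.comm_s hk1]
        _ = _ := by group
  obtain ⟨p1, p2, p3, q1, q2, q3, qu, qx, qxu, -⟩ := pg_facts
  obtain ⟨k1, hk1, e1⟩ := exists_pelem p1 q1
  obtain ⟨k2, hk2, e2⟩ := exists_pelem p2 q2
  obtain ⟨k3, hk3, e3⟩ := exists_pelem p3 q3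
  obtain ⟨i, hi, hia⟩ := himg k1 hk1
  obtain ⟨j, hj, hjb⟩ := himg k2 hk2
  obtain ⟨k, hk, hkc⟩ := himg k3 hk3
  rw [e1] at hia; rw [e2] at hjb; rw [e3] at hkc
  have hord : ∀ p l, p < 192 → l < 32 → f (pelem l) = g * f p * g⁻¹ →
      (fourI p = true → fourI (pelem l) = true) ∧ (isInv p = true → isInv (pelem l) = true) := by
    intro p l hp hl e
    have hl' := (pelem_spec hl).1
    have hsq : f (mulI (pelem l) (pelem l)) = g * f (mulI p p) * g⁻¹ := by
      rw [h.mul _ hl' _ hl', e, h.mul p hp p hp]; group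
    have h4 : f (mulI (mulI (pelem l) (pelem l)) (mulI (pelem l) (pelem l))) =
        g * f (mulI (mulI p p) (mulI p p)) * g⁻¹ := by
      rw [h.mul _ (mul_lt hl' hl') _ (mul_lt hl' hl'), hsq,
        h.mul _ (mul_lt hp hp) _ (mul_lt hp hp)]
      group
    have hz : ∀ a b : ℕ, a < 192 → b < 192 → f a = g * f b * g⁻¹ → (a = 0 ↔ b = 0) :=
      fun a b ha hb e' => by
      constructor
      · intro h0
        refine h.inj b hb 0 (by norm_num) ?_
        rw [h0, h.map_zero] at e'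
        rw [h.map_zero]
        exact conj_eq_one_iff.1 e'.symm
      · intro h0
        refine h.inj a ha 0 (by norm_num) ?_
        rw [e', h0, h.map_zero, mul_one, mul_inv_cancel]
    have z1 := hz _ _ (mul_lt hl' hl') (mul_lt hp hp) hsq
    have z2 := hz _ _ (mul_lt (mul_lt hl' hl') (mul_lt hl' hl'))
      (mul_lt (mul_lt hp hp) (mul_lt hp hp)) h4
    have z0 := hz _ _ hl' hp e
    refine ⟨fun hf => ?_, fun hv => ?_⟩
    · simp only [fourI, Bool.and_eq_true, Bool.not_eq_true', beq_false_spec, beq_spec] at hf ⊢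
      exact ⟨fun e' => hf.1 (z1.1 e'), z2.2 hf.2⟩
    · rw [isInv_spec] at hv ⊢
      exact ⟨z1.2 hv.1, fun e' => hv.2 (z0.1 e')⟩
  have halt := alt_spec hi hj hk ((hord _ _ p1 hi hia).1 gens_order.1)
    ((hord _ _ p2 hj hjb).1 gens_order.2.1) ((hord _ _ p3 hk hkc).2 gens_order.2.2)
  set F := ext3 (pelem i) (pelem j) (pelem k) 31 with hF
  -- the map is a valid gluing map
  let φ : ℕ → ℕ := fun p => if hp : p < 192 ∧ inP p = true then
    pelem (Classical.choose (himg _ (Classical.choose_spec (exists_pelem hp.1 hp.2)).1)) else 0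
  have hφ : ∀ p < 192, inP p = true → f (φ p) = g * f p * g⁻¹ ∧ φ p < 192 := by
    intro p hp hq
    have hc := Classical.choose_spec (exists_pelem hp hq)
    have hc2 := Classical.choose_spec (himg _ hc.1)
    simp only [φ, dif_pos (And.intro hp hq)]
    exact ⟨by rw [hc2.2, hc.2], (pelem_spec hc2.1).1⟩
  have hgen : φ pg1 = pelem i ∧ φ pg2 = pelem j ∧ φ pg3 = pelem k :=
    ⟨h.inj _ (hφ _ p1 q1).2 _ (pelem_spec hi).1 ((hφ _ p1 q1).1.trans hia.symm),
      h.inj _ (hφ _ p2 q2).2 _ (pelem_spec hj).1 ((hφ _ p2 q2).1.trans hjb.symm),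
      h.inj _ (hφ _ p3 q3).2 _ (pelem_spec hk).1 ((hφ _ p3 q3).1.trans hkc.symm)⟩
  have hmulφ : ∀ a b, a < 192 → b < 192 → inP a = true → inP b = true →
      inP (mulI a b) = true ∧ φ (mulI a b) = mulI (φ a) (φ b) := fun a b ha hb haP hbP => by
    have hab : inP (mulI a b) = true := (h.commI_iff (mul_lt ha hb) hx).2 (by
      rw [h.mul a ha b hb, mul_assoc, h.comm_x hb hbP, ← mul_assoc, h.comm_x ha haP, mul_assoc])
    refine ⟨hab, h.inj _ (hφ _ (mul_lt ha hb) hab).2 _ (mul_lt (hφ a ha haP).2 (hφ b hb hbP).2) ?_⟩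
    rw [(hφ _ (mul_lt ha hb) hab).1, h.mul _ (hφ a ha haP).2 _ (hφ b hb hbP).2, (hφ a ha haP).1,
      (hφ b hb hbP).1, h.mul a ha b hb]
    group
  have hlook : ∀ l < 32, look F (pelem l) = φ (pelem l) := by
    have hrec : allBelow (fun m => impB (!(Nat.beq m 0)) (Nat.beq (look F (pelem m))
        (mulI (look F (pelem (ppar m))) (sel3 (pelem i) (pelem j) (pelem k) (plet m))))) 32 = true ∧
        look F (pelem 0) = 0 := by
      have hdec : allBelow (fun a => impB (fourI (pelem a)) (allBelow (fun b => impB (fourI (pelem b))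
        (allBelow (fun c => impB (isInv (pelem c))
          (allBelow (fun m => impB (!(Nat.beq m 0))
            (Nat.beq (look (ext3 (pelem a) (pelem b) (pelem c) 31) (pelem m))
              (mulI (look (ext3 (pelem a) (pelem b) (pelem c) 31) (pelem (ppar m)))
                (sel3 (pelem a) (pelem b) (pelem c) (plet m))))) 32 &&
           Nat.beq (look (ext3 (pelem a) (pelem b) (pelem c) 31) (pelem 0)) 0)) 32)) 32)) 32
          = true := by decide +kernel
      have := impB_spec (allBelow_spec (impB_spec (allBelow_spec (impB_spec (allBelow_spec hdec i hi)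
        ((hord _ _ p1 hi hia).1 gens_order.1)) j hj) ((hord _ _ p2 hj hjb).1 gens_order.2.1)) k hk)
        ((hord _ _ p3 hk hkc).2 gens_order.2.2)
      rw [Bool.and_eq_true, beq_spec] at this
      exact this
    intro l
    induction l using Nat.strong_induction_on with
    | _ l ih =>
    intro hl
    by_cases h0 : l = 0
    · subst h0
      rw [hrec.2]
      refine h.inj _ (by norm_num) _ (hφ _ (pelem_spec hl).1 (pelem_spec hl).2.1).2 ?_
      rw [(hφ _ (pelem_spec hl).1 (pelem_spec hl).2.1).1, pelem_facts.2.1, h.map_zero, mul_one,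
        mul_inv_cancel]
    obtain ⟨-, -, hpar⟩ := pelem_spec hl
    obtain ⟨hpl, hlet, he⟩ := hpar h0
    rw [beq_spec.1 (impB_spec (allBelow_spec hrec.1 l hl)
      (by rw [Bool.not_eq_true', beq_false_spec]; exact h0)), ih _ hpl (by omega), ← he]
    obtain ⟨r1, r2, -⟩ := pelem_spec (show ppar l < 32 by omega)
    have hc : plet l = 0 ∨ plet l = 1 ∨ plet l = 2 := by omega
    rcases hc with e | e | e <;> rw [e]
    · exact ((hmulφ _ _ r1 p1 r2 q1).2.trans (by rw [hgen.1]; rfl)).symm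
    · exact ((hmulφ _ _ r1 p2 r2 q2).2.trans (by rw [hgen.2.1]; rfl)).symm
    · exact ((hmulφ _ _ r1 p3 r2 q3).2.trans (by rw [hgen.2.2]; rfl)).symm
  have hlookP : ∀ p < 192, inP p = true → look F p = φ p := fun p hp hq => by
    obtain ⟨l, hl, rfl⟩ := exists_pelem hp hq
    exact hlook l hl
  have hconj : ∀ p < 192, inP p = true → g * f p * g⁻¹ = f (look F p) := fun p hp hq => by
    rw [hlookP p hp hq, (hφ p hp hq).1]
  have hlt : ∀ p < 192, inP p = true → look F p < 192 := fun p hp hq =>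
    hlookP p hp hq ▸ (hφ p hp hq).2
  have hFu : look F uI = xI := h.inj _ (hlt _ hu qu) _ hx (by
    rw [← hconj _ hu qu, h.map_u, hgs])
  have hFx : look F xI = uI := h.inj _ (hlt _ hx qx) _ hu (by
    rw [← hconj _ hx qx, hgx, h.map_u])
  have hvalid : validOK F (pelem i) (pelem j) (pelem k) = true := by
    have hfix : ∀ y : G, y * s * y⁻¹ = s → y * f xI * y⁻¹ = f xI → ∃ d < 32, f (pelem d) = y :=
      fun y h1 h2 => h.mem_P (mul_inv_eq_iff_eq_mul.1 h1) (mul_inv_eq_iff_eq_mul.1 h2)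
    obtain ⟨d, hd, hde⟩ := hfix (g * g) (by
      calc g * g * s * (g * g)⁻¹ = g * (g * s * g⁻¹) * g⁻¹ := by group
        _ = s := by rw [hgs, hgx]) (by
      calc g * g * f xI * (g * g)⁻¹ = g * (g * f xI * g⁻¹) * g⁻¹ := by group
        _ = f xI := by rw [hgx, hgs])
    obtain ⟨hd1, hd2, -⟩ := pelem_spec hd
    have ha := const_facts.2.2.2.2.1
    have hA : ∀ y, f aI * f y * (f aI)⁻¹ = f (cjI aI y) ∨ ¬ y < 192 := fun y => by
      by_cases hy : y < 192
      · exact .inl (h.map_cj ha hy).symm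
      · exact .inr hy
    have hgsu : g * f xuI * g⁻¹ = f xuI := by
      have h1 : f xuI = f xI * s := by
        rw [← h.map_u, ← h.mul _ hx _ hu, const_facts.2.2.2.2.2.2.2.2.2.2.2.2.2.2.2.2.2.1]
      calc g * f xuI * g⁻¹ = (g * f xI * g⁻¹) * (g * s * g⁻¹) := by rw [h1]; group
        _ = f xuI := by rw [hgx, hgs, h1, h.comm_s hx]
    have hax : f aI * f xI * (f aI)⁻¹ = f xuI := by
      rw [← h.map_cj ha hx, std_facts.2.2.2.2.2.2.1]
    have haxu : f aI * f xuI * (f aI)⁻¹ = f xI := by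
      rw [← h.map_cj ha const_facts.2.2.1, std_facts.2.2.2.2.2.2.2.1]
    have has : f aI * s * (f aI)⁻¹ = s := by rw [h.comm_s ha, mul_inv_cancel_right]
    obtain ⟨d', hd', hde'⟩ := hfix (g * f aI * (g * f aI) * (g * f aI)) (by
      calc g * f aI * (g * f aI) * (g * f aI) * s * (g * f aI * (g * f aI) * (g * f aI))⁻¹
          = g * (f aI * (g * (f aI * (g * (f aI * s * (f aI)⁻¹) * g⁻¹) * (f aI)⁻¹) * g⁻¹)
            * (f aI)⁻¹) * g⁻¹ := by group
        _ = s := by rw [has, hgs, hax, hgsu, haxu, hgx]) (by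
      calc g * f aI * (g * f aI) * (g * f aI) * f xI * (g * f aI * (g * f aI) * (g * f aI))⁻¹
          = g * (f aI * (g * (f aI * (g * (f aI * f xI * (f aI)⁻¹) * g⁻¹) * (f aI)⁻¹) * g⁻¹)
            * (f aI)⁻¹) * g⁻¹ := by group
        _ = f xI := by rw [hax, hgsu, haxu, hgx, has, hgs])
    obtain ⟨hd1', hd2', -⟩ := pelem_spec hd'
    have hPa : ∀ p < 192, inP p = true → inP (cjI aI p) = true := fun p hp hq => by
      obtain ⟨l, hl, rfl⟩ := exists_pelem hp hq
      exact (std_spec hl).2.2.2.2.2.2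
    have hPF : ∀ p < 192, inP p = true → inP (look F p) = true := fun p hp hq => by
      obtain ⟨l, hl, rfl⟩ := exists_pelem hp hq
      obtain ⟨m, hm, e⟩ := himg l hl
      rw [h.inj _ (hlt _ hp hq) _ (pelem_spec hm).1 ((hconj _ hp hq).symm.trans e.symm)]
      exact (pelem_spec hm).2.1
    have hsqP : ∀ p < 192, inP p = true → look F (look F p) = cjI (pelem d) p := fun p hp hq => by
      refine h.inj _ (hlt _ (hlt p hp hq) (hPF p hp hq)) _ (cj_lt hd1 hp) ?_
      rw [← hconj _ (hlt p hp hq) (hPF p hp hq), ← hconj p hp hq, h.map_cj hd1 hp, hde]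
      group
    have hstep : ∀ p < 192, inP p = true →
        f (stepGA F p) = g * f aI * f p * (g * f aI)⁻¹ ∧ stepGA F p < 192 ∧
          inP (stepGA F p) = true := fun p hp hq => by
      have h1 := cj_lt ha hp
      have h2 := hPa p hp hq
      refine ⟨?_, hlt _ h1 h2, hPF _ h1 h2⟩
      rw [stepGA, ← hconj _ h1 h2, h.map_cj ha hp]
      group
    have hcubeP : ∀ p < 192, inP p = true →
        stepGA F (stepGA F (stepGA F p)) = cjI (pelem d') p := fun p hp hq => by
      obtain ⟨s1, l1, m1⟩ := hstep p hp hq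
      obtain ⟨s2, l2, m2⟩ := hstep _ l1 m1
      obtain ⟨s3, l3, -⟩ := hstep _ l2 m2
      refine h.inj _ l3 _ (cj_lt hd1' hp) ?_
      rw [s3, s2, s1, h.map_cj hd1' hp, hde']
      group
    have hall : ∀ {r : ℕ → Bool} {n : ℕ}, (∀ m < n, r m = true) → allBelow r n = true := by
      intro r n hr
      induction n with
      | zero => rfl
      | succ n ihn => rw [allBelow, hr n (by omega), ihn fun m hm => hr m (by omega)]; rfl
    have hany : ∀ {r : ℕ → Bool} {n m : ℕ}, m < n → r m = true → anyBelow r n = true := by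
      intro r n m hm hr
      induction n with
      | zero => omega
      | succ n ihn =>
        rw [anyBelow, Bool.or_eq_true]
        rcases Nat.lt_succ_iff_lt_or_eq.1 hm with h' | h'
        · exact .inr (ihn h')
        · exact .inl (h' ▸ hr)
    simp only [validOK, Bool.and_eq_true, beq_spec]
    refine ⟨⟨⟨⟨?_, hFu⟩, hFx⟩, ?_⟩, ?_⟩
    · refine hall fun l hl => ?_
      obtain ⟨r1, r2, -⟩ := pelem_spec hl
      simp only [Bool.and_eq_true, beq_spec]
      refine ⟨⟨?_, ?_⟩, ?_⟩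
      · obtain ⟨u1, u2⟩ := hmulφ _ _ r1 p1 r2 q1
        rw [hlookP _ (mul_lt r1 p1) u1, u2, hlook l hl, hgen.1]
      · obtain ⟨u1, u2⟩ := hmulφ _ _ r1 p2 r2 q2
        rw [hlookP _ (mul_lt r1 p2) u1, u2, hlook l hl, hgen.2.1]
      · obtain ⟨u1, u2⟩ := hmulφ _ _ r1 p3 r2 q3
        rw [hlookP _ (mul_lt r1 p3) u1, u2, hlook l hl, hgen.2.2]
    · refine hany hd ?_
      simp only [Bool.and_eq_true, beq_spec, onGens]
      refine ⟨h.inj _ (hlt _ hd1 hd2) _ hd1 ?_, ⟨hsqP _ p1 q1, hsqP _ p2 q2⟩, hsqP _ p3 q3⟩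
      rw [← hconj _ hd1 hd2, hde]
      group
    · refine hany hd' ?_
      simp only [onGens, Bool.and_eq_true, beq_spec]
      exact ⟨⟨hcubeP _ p1 q1, hcubeP _ p2 q2⟩, hcubeP _ p3 q3⟩
  have halt' := impB_spec halt (by exact hvalid)
  rw [Bool.or_eq_true] at halt'
  rcases halt' with h8 | hn
  · refine .inl ⟨g, F, by rw [h.map_u, hgs], by rw [hgx, h.map_u], fun l hl =>
      hconj _ (pelem_spec hl).1 (pelem_spec hl).2.1, fun l hl =>
      hlt _ (pelem_spec hl).1 (pelem_spec hl).2.1, h8⟩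
  -- normalise
  simp only [normOK, List.any_eq_true, Bool.and_eq_true, beq_spec, blt_spec] at hn
  obtain ⟨⟨a', b', c', ai, η⟩, -, ⟨-, hai⟩, hstepn⟩ := hn
  simp only at hai hstepn
  have hbm : betas.getD ai 0 ∈ betas := by
    have hlen : betas.length = 2 := by decide +kernel
    rw [List.getD_eq_getElem?_getD, List.getElem?_eq_getElem (by omega), Option.getD_some]
    exact List.getElem_mem _
  set β := betas.getD ai 0
  obtain ⟨hβu, hβx, hβlt, hβmul⟩ := beta_spec hbm
  simp only [normStep, Bool.and_eq_true, blt_spec] at hstepn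
  obtain ⟨⟨hη, hηP⟩, hgens⟩ := hstepn
  obtain ⟨n1, n2, n3⟩ := onGens_spec hgens
  have hf' := h.comp_beta hbm
  set f' : ℕ → G := fun i => f (look β i) with hf'def
  have hf'x : f' xI = f xI := by simp only [hf'def, hβx]
  set g' := f' η * g with hg'
  have hη_s := hf'.comm_s hη
  have hη_x := hf'.comm_x hη hηP
  have hβP : ∀ p < 192, inP p = true → inP (look β p) = true := fun p hp hq => by
    refine (h.commI_iff (hβlt p hp).1 hx).2 ?_
    have := hf'.comm_x hp hq
    rwa [hf'x] at this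
  have hstdlt : ∀ p < 192, inP p = true → stdI p < 192 ∧ inP (stdI p) = true := fun p hp hq => by
    obtain ⟨l, hl, rfl⟩ := exists_pelem hp hq
    exact ⟨(std_spec hl).1, (std_spec hl).2.1⟩
  have hgenstd : ∀ p < 192, inP p = true → Nat.beq (look F (look β p))
      (look β (cjI (invI η) (stdI p))) = true → g' * f' p * g'⁻¹ = f' (stdI p) := by
    intro p hp hq e
    have e1 : g * f' p * g⁻¹ = f' (cjI (invI η) (stdI p)) := by
      show g * f (look β p) * g⁻¹ = f (look β _)
      rw [hconj _ (hβlt p hp).1 (hβP p hp hq), beq_spec.1 e]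
    rw [hf'.map_cj (inv_lt hη) (hstdlt p hp hq).1, hf'.map_inv hη] at e1
    calc g' * f' p * g'⁻¹ = f' η * (g * f' p * g⁻¹) * (f' η)⁻¹ := by rw [hg']; group
      _ = f' (stdI p) := by rw [e1]; group
  have hext := hf'.conj_ext (g := g') (φ := stdI) std_facts.2.2.2.2.2.1
    (fun l hl => (std_spec hl).1) (fun l hl => (std_spec hl).2.2.2.1)
    (hgenstd _ p1 q1 n1) (hgenstd _ p2 q2 n2) (hgenstd _ p3 q3 n3)
  have hextP : ∀ p < 192, inP p = true → g' * f' p * g'⁻¹ = f' (stdI p) := fun p hp hq => by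
    obtain ⟨l, hl, rfl⟩ := exists_pelem hp hq
    exact hext l hl
  have hg's : g' * s * g'⁻¹ = f' xI := by
    rw [← hf'.map_u, hextP _ hu qu, std_facts.2.1]
  have hg'x : g' * f' xI * g'⁻¹ = s := by
    rw [hextP _ hx qx, std_facts.2.2.1, hf'.map_u]
  obtain ⟨d, hd, hde⟩ := hf'.mem_P (y := g' * g') (mul_inv_eq_iff_eq_mul.1 (by
      calc g' * g' * s * (g' * g')⁻¹ = g' * (g' * s * g'⁻¹) * g'⁻¹ := by group
        _ = s := by rw [hg's, hg'x])) (mul_inv_eq_iff_eq_mul.1 (by
      calc g' * g' * f' xI * (g' * g')⁻¹ = g' * (g' * f' xI * g'⁻¹) * g'⁻¹ := by group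
        _ = f' xI := by rw [hg'x, hg's]))
  obtain ⟨hd1, hd2, -⟩ := pelem_spec hd
  have hdc : ∀ l < 32, commI (pelem d) (pelem l) = true := fun l hl => by
    obtain ⟨l1, l2, -⟩ := pelem_spec hl
    refine (hf'.commI_iff hd1 l1).2 ?_
    obtain ⟨s1, s2⟩ := hstdlt _ l1 l2
    have : g' * g' * f' (pelem l) * (g' * g')⁻¹ = f' (pelem l) := by
      calc g' * g' * f' (pelem l) * (g' * g')⁻¹ = g' * (g' * f' (pelem l) * g'⁻¹) * g'⁻¹ := by group
        _ = f' (pelem l) := by rw [hextP _ l1 l2, hextP _ s1 s2, (std_spec hl).2.2.1]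
    rw [hde]
    exact mul_inv_eq_iff_eq_mul.1 this
  have hdfix : stdI (pelem d) = pelem d := hf'.inj _ (std_spec hd).1 _ hd1 (by
    rw [← hextP _ hd1 hd2, hde]; group)
  have hxu := const_facts.2.2.1
  obtain ⟨g'', hg''2, hg''c⟩ : ∃ g'', g'' * g'' = 1 ∧
      ∀ p < 192, inP p = true → g'' * f' p * g''⁻¹ = f' (stdI p) := by
    rcases (std_spec hd).2.2.2.2.1 hdc hdfix with e0 | e0
    · exact ⟨g', by rw [← hde, e0, hf'.map_zero], hextP⟩
    · refine ⟨g' * s, ?_, fun p hp hq => ?_⟩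
      · have h1 : g' * g' = f' xI * s := by
          rw [← hde, e0, ← hf'.map_u, ← hf'.mul _ hx _ hu,
            const_facts.2.2.2.2.2.2.2.2.2.2.2.2.2.2.2.2.2.1]
        have h2 : g' * s = f' xI * g' := mul_inv_eq_iff_eq_mul.1 hg's
        calc g' * s * (g' * s) = f' xI * g' * (g' * s) := by rw [h2]
          _ = f' xI * (g' * g') * s := by group
          _ = f' xI * f' xI * (s * s) := by rw [h1]; group
          _ = 1 := by
            rw [(orderOf_two_iff.1 (hf'.orderOf_invol hx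
              const_facts.2.2.2.2.2.2.2.2.2.2.2.2.2.1)).1, (orderOf_two_iff.1 h.orderOf_s).1,
              one_mul]
      · calc g' * s * f' p * (g' * s)⁻¹ = g' * (s * f' p * s⁻¹) * g'⁻¹ := by group
          _ = f' (stdI p) := by rw [← hf'.comm_s hp, mul_inv_cancel_right, hextP p hp hq]
  have hginv : g''⁻¹ = g'' := inv_eq_of_mul_eq_one_right hg''2
  refine .inr ⟨f', g'', hf', hg''2, fun p hp hq => ?_, ?_⟩
  · have := hg''c p hp hq
    rwa [hginv] at this
  -- the cube
  have ha := const_facts.2.2.2.2.1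
  set w := g'' * f' aI with hw
  have hwP : ∀ p < 192, inP p = true →
      w * f' p * w⁻¹ = f' (stdI (cjI aI p)) ∧ stdI (cjI aI p) < 192 ∧
        inP (stdI (cjI aI p)) = true := fun p hp hq => by
    obtain ⟨l, hl, rfl⟩ := exists_pelem hp hq
    have h1 := cj_lt ha hp
    have h2 := (std_spec hl).2.2.2.2.2.2
    refine ⟨?_, hstdlt _ h1 h2⟩
    rw [← hg''c _ h1 h2, hf'.map_cj ha hp, hw]
    group
  obtain ⟨cu, cx, cxu, -, -, cax, caxu, cau, -⟩ := std_facts.2
  obtain ⟨d', hd', hde'⟩ := hf'.mem_P (y := w * w * w) (mul_inv_eq_iff_eq_mul.1 (by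
      calc w * w * w * s * (w * w * w)⁻¹ = w * (w * (w * s * w⁻¹) * w⁻¹) * w⁻¹ := by group
        _ = s := by
          rw [← hf'.map_u, (hwP _ hu qu).1, cau, cu, (hwP _ hx qx).1, cax, cxu,
            (hwP _ hxu qxu).1, caxu, cx])) (mul_inv_eq_iff_eq_mul.1 (by
      calc w * w * w * f' xI * (w * w * w)⁻¹ = w * (w * (w * f' xI * w⁻¹) * w⁻¹) * w⁻¹ := by group
        _ = f' xI := by
          rw [(hwP _ hx qx).1, cax, cxu, (hwP _ hxu qxu).1, caxu, cx, (hwP _ hu qu).1, cau, cu]))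
  obtain ⟨hd1', hd2', -⟩ := pelem_spec hd'
  have hdz : pelem d' = zI := by
    refine (std_spec hd').2.2.2.2.2.1 (hf'.inj _ (hwP _ hd1' hd2').2.1 _ hd1' ?_) ?_
    · rw [← (hwP _ hd1' hd2').1, hde']; group
    · simp only [onGens, Bool.and_eq_true, beq_spec]
      have key : ∀ p < 192, inP p = true →
          stdI (cjI aI (stdI (cjI aI (stdI (cjI aI p))))) = cjI (pelem d') p := fun p hp hq => by
        obtain ⟨s1, l1, m1⟩ := hwP p hp hq
        obtain ⟨s2, l2, m2⟩ := hwP _ l1 m1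
        obtain ⟨s3, l3, -⟩ := hwP _ l2 m2
        refine hf'.inj _ l3 _ (cj_lt hd1' hp) ?_
        rw [← s3, ← s2, ← s1, hf'.map_cj hd1' hp, hde']
        group
      exact ⟨⟨key _ p1 q1, key _ p2 q2⟩, key _ p3 q3⟩
  rw [← hdz, hde']

end CfsgLib.M12Type
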