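import Cfsg.Agent.M12Type.GlueFacts8

/-!
An element exchanging the central involution with a fused one of a normal subgroup of order eight,
and its action on their common centraliser.
-/

set_option autoImplicit false
set_option maxRecDepth 100000

namespace CfsgLib.M12Type.Eight

open CfsgLib.CosetEnum (allBelow)
open CfsgLib.StronglyEmbedded (orderOf_two_iff orderOf_conj)

variable {G : Type*} [Group G] {f : ℕ → G} {s : G}

theorem pel8_spec {k : ℕ} (hk : k < 32) : pel8 k < 192 ∧ inPb8 (pel8 k) = true ∧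
    (k ≠ 0 → ppar8 k < k ∧ plet8 k < 3 ∧
      mul8 (pel8 (ppar8 k)) (sel8 pb1 pb2 pb3 (plet8 k)) = pel8 k) := by
  have h := allBelow_spec pel8_facts.1 k hk
  simp only [Bool.and_eq_true, blt_spec] at h
  refine ⟨h.1.1, h.1.2, fun h0 => ?_⟩
  have := impB_spec h.2 (by rw [Bool.not_eq_true', beq_false_spec]; exact h0)
  simpa [Bool.and_eq_true, blt_spec, beq_spec, and_assoc] using this

theorem inPb8_iff {i : ℕ} (hi : i < 192) : inPb8 i = true ↔ com8 i bI8 = true := by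
  have h := allBelow_spec pel8_facts.2.2 i hi
  simp only [Bool.and_eq_true, beq_spec] at h
  obtain ⟨⟨⟨h1, -⟩, -⟩, -⟩ := h
  cases hp : inPb8 i <;> cases hc : com8 i bI8 <;> simp_all

theorem exists_pel8 {i : ℕ} (hi : i < 192) (hp : inPb8 i = true) : ∃ k < 32, pel8 k = i := by
  have h := allBelow_spec pel8_facts.2.2 i hi
  simp only [Bool.and_eq_true] at h
  obtain ⟨k, hk, e⟩ := anyBelow_spec (impB_spec h.1.1.2 hp)
  exact ⟨k, hk, beq_spec.1 e⟩

theorem exists_tel8 {M i : ℕ} (hM : M = 0 ∨ M = toC ∨ M = toA) (hi : i < 192)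
    (hc : com8 i (tgt8 M) = true) : ∃ k < 32, tel8 M k = i := by
  obtain ⟨t0, tc, ta⟩ := tgt8_facts
  have h := allBelow_spec pel8_facts.2.2 i hi
  simp only [Bool.and_eq_true] at h
  rcases hM with rfl | rfl | rfl
  · rw [t0] at hc
    obtain ⟨k, hk, e⟩ := exists_pel8 hi ((inPb8_iff hi).2 hc)
    exact ⟨k, hk, e⟩
  · rw [tc] at hc
    obtain ⟨k, hk, e⟩ := anyBelow_spec (impB_spec h.1.2 hc)
    exact ⟨k, hk, beq_spec.1 e⟩
  · rw [ta] at hc
    obtain ⟨k, hk, e⟩ := anyBelow_spec (impB_spec h.2 hc)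
    exact ⟨k, hk, beq_spec.1 e⟩

theorem Emb8.mem_Pb (h : Emb8 f s) {y : G} (h1 : y * s = s * y)
    (h2 : y * f bI8 = f bI8 * y) : ∃ k < 32, f (pel8 k) = y := by
  obtain ⟨i, hi, rfl⟩ := h.surj y h1
  obtain ⟨k, hk, rfl⟩ := exists_pel8 hi ((inPb8_iff hi).2 ((h.com_iff hi const8_lt.2.2.1).2 h2))
  exact ⟨k, hk, rfl⟩

/-- An element carrying `bI8` to the centre and the centre to the target: its map. -/
theorem Emb8.exists_map (h : Emb8 f s) {M : ℕ} (hM : M = 0 ∨ M = toC ∨ M = toA) {g : G}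
    (hgb : g * f bI8 * g⁻¹ = s) (hgs : g * s * g⁻¹ = f (tgt8 M)) :
    ∃ i < 32, ∃ j < 32, ∃ k < 32,
      mul8 (tel8 M i) (tel8 M i) = uI8 ∧
      (isInv8 (tel8 M j) = true ∧ sqm8 (tel8 M i) (tel8 M j) = 0) ∧
      (isInv8 (tel8 M k) = true ∧ sqm8 (tel8 M j) (tel8 M k) = tgt8 M) ∧
      ∀ r : ℕ → ℕ → ℕ → Bool, triples8 M r = true → r (tel8 M i) (tel8 M j) (tel8 M k) = true ∧
        (rec8 (ext8 (tel8 M i) (tel8 M j) (tel8 M k) 31) (tel8 M i) (tel8 M j) (tel8 M k) = true →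
          valid8 (ext8 (tel8 M i) (tel8 M j) (tel8 M k) 31) (tel8 M i) (tel8 M j) (tel8 M k) M
              = true ∧
            ∀ p < 192, inPb8 p = true →
              look8 (ext8 (tel8 M i) (tel8 M j) (tel8 M k) 31) p < 192 ∧
              g * f p * g⁻¹ = f (look8 (ext8 (tel8 M i) (tel8 M j) (tel8 M k) 31) p)) := by
  obtain ⟨hu, -, hb, -⟩ := const8_lt
  obtain ⟨q11, q12, q23, i2, i3, hP1, hP2, hP3, p1, p2, p3, hPu, hPb⟩ := gens8_order
  have htgt : tgt8 M < 192 := by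
    rcases hM with rfl | rfl | rfl
    · rw [tgt8_facts.1]; exact hb
    · rw [tgt8_facts.2.1]; exact const8_lt.2.2.2.1
    · rw [tgt8_facts.2.2]; exact const8_lt.2.1
  have himg : ∀ p < 192, inPb8 p = true →
      ∃ q < 192, com8 q (tgt8 M) = true ∧ f q = g * f p * g⁻¹ := by
    intro p hp hP
    have hpb := (h.com_iff hp hb).1 ((inPb8_iff hp).1 hP)
    have hps := h.comm_s hp
    obtain ⟨q, hq, e⟩ := h.surj (g * f p * g⁻¹) (by
      rw [← hgb]
      calc g * f p * g⁻¹ * (g * f bI8 * g⁻¹) = g * (f p * f bI8) * g⁻¹ := by group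
        _ = g * (f bI8 * f p) * g⁻¹ := by rw [hpb]
        _ = _ := by group)
    refine ⟨q, hq, (h.com_iff hq htgt).2 ?_, e⟩
    rw [e, ← hgs]
    calc g * f p * g⁻¹ * (g * s * g⁻¹) = g * (f p * s) * g⁻¹ := by group
      _ = g * (s * f p) * g⁻¹ := by rw [hps]
      _ = _ := by group
  choose φ hφlt hφc hφ using himg
  have hmulφ : ∀ a b, (ha : a < 192) → (hb' : b < 192) → (haP : inPb8 a = true) →
      (hbP : inPb8 b = true) → ∃ hab : inPb8 (mul8 a b) = true,
        φ (mul8 a b) (mul8_lt ha hb') hab = mul8 (φ a ha haP) (φ b hb' hbP) := by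
    intro a b ha hb' haP hbP
    have hab : inPb8 (mul8 a b) = true := (inPb8_iff (mul8_lt ha hb')).2
      ((h.com_iff (mul8_lt ha hb') hb).2 (by
        have e1 := (h.com_iff ha hb).1 ((inPb8_iff ha).1 haP)
        have e2 := (h.com_iff hb' hb).1 ((inPb8_iff hb').1 hbP)
        rw [h.mul a ha b hb', mul_assoc, e2, ← mul_assoc, e1, mul_assoc]))
    refine ⟨hab, h.inj _ (hφlt _ _ hab) _ (mul8_lt (hφlt a ha haP) (hφlt b hb' hbP)) ?_⟩
    rw [hφ _ _ hab, h.mul _ (hφlt a ha haP) _ (hφlt b hb' hbP), hφ a ha haP, hφ b hb' hbP,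
      h.mul a ha b hb']
    group
  obtain ⟨i, hi, hie⟩ := exists_tel8 hM (hφlt _ p1 hP1) (hφc _ p1 hP1)
  obtain ⟨j, hj, hje⟩ := exists_tel8 hM (hφlt _ p2 hP2) (hφc _ p2 hP2)
  obtain ⟨k, hk, hke⟩ := exists_tel8 hM (hφlt _ p3 hP3) (hφc _ p3 hP3)
  have hφu : ∀ hu' hP', φ uI8 hu' hP' = tgt8 M := fun _ _ =>
    h.inj _ (hφlt _ _ _) _ htgt (by rw [hφ, h.map_u, hgs])
  have hφb : ∀ hb' hP', φ bI8 hb' hP' = uI8 := fun _ _ =>
    h.inj _ (hφlt _ _ _) _ hu (by rw [hφ, hgb, h.map_u])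
  have hinv : ∀ p, (hp : p < 192) → (hP : inPb8 p = true) → isInv8 p = true →
      isInv8 (φ p hp hP) = true := by
    intro p hp hP hv
    obtain ⟨r, hr, hrv, hre⟩ := h.exists_invol (y := f (φ p hp hP))
      (by rw [hφ, orderOf_conj]; exact h.orderOf_invol hp hv) (h.comm_s (hφlt _ _ _))
    rwa [h.inj r hr _ (hφlt _ _ _) hre] at hrv
  have c1 : mul8 (tel8 M i) (tel8 M i) = uI8 := by
    rw [hie]
    obtain ⟨h1, e1⟩ := hmulφ _ _ p1 p1 hP1 hP1
    rw [← e1]
    simp only [q11]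
    exact hφb _ _
  have c2 : sqm8 (tel8 M i) (tel8 M j) = 0 := by
    rw [hie, hje, sqm8]
    obtain ⟨h1, e1⟩ := hmulφ _ _ p1 p2 hP1 hP2
    obtain ⟨h2, e2⟩ := hmulφ _ _ (mul8_lt p1 p2) (mul8_lt p1 p2) h1 h1
    rw [← e1, ← e2]
    refine h.inj _ (hφlt _ _ _) 0 (by norm_num) ?_
    rw [hφ, show mul8 (mul8 pb1 pb2) (mul8 pb1 pb2) = 0 from q12, h.map_zero, mul_one,
      mul_inv_cancel]
  have c3 : sqm8 (tel8 M j) (tel8 M k) = tgt8 M := by
    rw [hje, hke, sqm8]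
    obtain ⟨h1, e1⟩ := hmulφ _ _ p2 p3 hP2 hP3
    obtain ⟨h2, e2⟩ := hmulφ _ _ (mul8_lt p2 p3) (mul8_lt p2 p3) h1 h1
    rw [← e1, ← e2]
    refine h.inj _ (hφlt _ _ _) _ htgt ?_
    rw [hφ, show mul8 (mul8 pb2 pb3) (mul8 pb2 pb3) = uI8 from q23, h.map_u, hgs]
  have v2 : isInv8 (tel8 M j) = true := by
    rw [hje]; exact hinv _ p2 hP2 i2
  have v3 : isInv8 (tel8 M k) = true := by
    rw [hke]; exact hinv _ p3 hP3 i3
  refine ⟨i, hi, j, hj, k, hk, c1, ⟨v2, c2⟩, ⟨v3, c3⟩, fun r hr => ⟨?_, fun hrec => ?_⟩⟩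
  · exact impB_spec (allBelow_spec (impB_spec (allBelow_spec (impB_spec (allBelow_spec hr i hi)
      (beq_spec.2 c1)) j hj) (by rw [Bool.and_eq_true, beq_spec]; exact ⟨v2, c2⟩)) k hk)
      (by rw [Bool.and_eq_true, beq_spec]; exact ⟨v3, c3⟩)
  set F := ext8 (tel8 M i) (tel8 M j) (tel8 M k) 31
  rw [rec8, Bool.and_eq_true, beq_spec] at hrec
  have hlook : ∀ l, (hl : l < 32) →
      look8 F (pel8 l) = φ (pel8 l) (pel8_spec hl).1 (pel8_spec hl).2.1 := by
    intro l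
    induction l using Nat.strong_induction_on with
    | _ l ih =>
    intro hl
    by_cases h0 : l = 0
    · subst h0
      rw [hrec.1]
      refine h.inj _ (by norm_num) _ (hφlt _ _ _) ?_
      rw [hφ, pel8_facts.2.1, h.map_zero, mul_one, mul_inv_cancel]
    obtain ⟨hpl, hlet, he⟩ := (pel8_spec hl).2.2 h0
    rw [beq_spec.1 (impB_spec (allBelow_spec hrec.2 l hl)
      (by rw [Bool.not_eq_true', beq_false_spec]; exact h0)), ih _ hpl (by omega)]
    obtain ⟨r1, r2, -⟩ := pel8_spec (show ppar8 l < 32 by omega)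
    have hφe : ∀ a b ha hb hA hB, a = b → φ a ha hA = φ b hb hB := by
      intro a b _ _ _ _ e; subst e; rfl
    have hc : plet8 l = 0 ∨ plet8 l = 1 ∨ plet8 l = 2 := by omega
    rcases hc with e | e | e
    · obtain ⟨h1, e1⟩ := hmulφ _ _ r1 p1 r2 hP1
      rw [show sel8 (tel8 M i) (tel8 M j) (tel8 M k) (plet8 l) = tel8 M i by rw [e]; rfl, hie, ← e1]
      exact hφe _ _ _ _ _ _ (by rw [e] at he; exact he)
    · obtain ⟨h1, e1⟩ := hmulφ _ _ r1 p2 r2 hP2
      rw [show sel8 (tel8 M i) (tel8 M j) (tel8 M k) (plet8 l) = tel8 M j by rw [e]; rfl, hje, ← e1]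
      exact hφe _ _ _ _ _ _ (by rw [e] at he; exact he)
    · obtain ⟨h1, e1⟩ := hmulφ _ _ r1 p3 r2 hP3
      rw [show sel8 (tel8 M i) (tel8 M j) (tel8 M k) (plet8 l) = tel8 M k by rw [e]; rfl, hke, ← e1]
      exact hφe _ _ _ _ _ _ (by rw [e] at he; exact he)
  have hlookP : ∀ p, (hp : p < 192) → (hP : inPb8 p = true) → look8 F p = φ p hp hP := by
    intro p hp hP
    obtain ⟨l, hl, rfl⟩ := exists_pel8 hp hP
    exact hlook l hl
  refine ⟨?_, fun p hp hP => ⟨hlookP p hp hP ▸ hφlt p hp hP, by rw [hlookP p hp hP, hφ]⟩⟩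
  simp only [valid8, Bool.and_eq_true, beq_spec]
  refine ⟨⟨by rw [hlookP _ hu hPu, hφu], by rw [hlookP _ hb hPb, hφb]⟩, ?_⟩
  have hall : ∀ {r : ℕ → Bool} {n : ℕ}, (∀ m < n, r m = true) → allBelow r n = true := by
    intro r n hr
    induction n with
    | zero => rfl
    | succ n ihn => rw [allBelow, hr n (by omega), ihn fun m hm => hr m (by omega)]; rfl
  refine hall fun l hl => ?_
  obtain ⟨r1, r2, -⟩ := pel8_spec hl
  simp only [Bool.and_eq_true, Bool.or_eq_true, Bool.not_eq_true', beq_spec, beq_false_spec]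
  refine ⟨⟨⟨?_, ?_⟩, ?_⟩, ?_⟩
  · by_cases h0 : l = 0
    · exact .inl h0
    · refine .inr fun e => ?_
      have h1 : f (pel8 l) = 1 := conj_eq_one_iff.1 (by
        rw [← hφ _ r1 r2, ← hlook l hl, e, h.map_zero])
      have hne : pel8 l ≠ 0 := by
        have hd : allBelow (fun l => Nat.beq l 0 || !(Nat.beq (pel8 l) 0)) 32 = true := by
          decide +kernel
        simpa [Bool.or_eq_true, beq_spec, beq_false_spec, h0] using allBelow_spec hd l hl
      exact hne (h.inj _ r1 0 (by norm_num) (h1.trans h.map_zero.symm))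
  · obtain ⟨h1, e1⟩ := hmulφ _ _ r1 p1 r2 hP1
    rw [hlookP _ (mul8_lt r1 p1) h1, e1, hlook l hl, hie]
  · obtain ⟨h1, e1⟩ := hmulφ _ _ r1 p2 r2 hP2
    rw [hlookP _ (mul8_lt r1 p2) h1, e1, hlook l hl, hje]
  · obtain ⟨h1, e1⟩ := hmulφ _ _ r1 p3 r2 hP3
    rw [hlookP _ (mul8_lt r1 p3) h1, e1, hlook l hl, hke]

/-- A conjugate of the centre centralised by a subgroup of order 32 is in one of three classes. -/
theorem Emb8.cls_of_conj_b (h : Emb8 f s) {c : G} (hc : c * s * c⁻¹ = f bI8) {j : ℕ}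
    (hj : j < 192) (hje : f j = c⁻¹ * s * c) : cls8 j = 4 ∨ cls8 j = 7 ∨ cls8 j = 8 := by
  classical
  obtain ⟨hu, -, hb, -⟩ := const8_lt
  obtain ⟨i, hi, hv, hie⟩ := h.exists_invol (y := f j)
    (by rw [hje]; simpa using (orderOf_conj c⁻¹ s).trans h.orderOf_s) (h.comm_s hj)
  rw [h.inj i hi j hj hie] at hv
  have hju : j ≠ uI8 := fun e => by
    rw [e, h.map_u] at hje
    have e2 : f bI8 = s := by
      rw [← hc]
      calc c * s * c⁻¹ = c * (c⁻¹ * s * c) * c⁻¹ := by rw [← hje]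
        _ = s := by group
    have := h.inj bI8 hb uI8 hu (e2.trans h.map_u.symm)
    revert this
    decide +kernel
  have hd : allBelow (fun j => impB (isInv8 j && !(Nat.beq j uI8))
      (Nat.beq (cls8 j) 4 || Nat.beq (cls8 j) 7 || Nat.beq (cls8 j) 8 ||
        decide (((List.range 192).filter fun q => com8 q j).length < 32))) 192 = true := by
    decide +kernel
  have := impB_spec (allBelow_spec hd j hj) (by simp [hv, beq_false_spec, hju])
  simp only [Bool.or_eq_true, beq_spec, decide_eq_true_eq] at this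
  rcases this with ((e | e) | e) | e
  · exact .inl e
  · exact .inr (.inl e)
  · exact .inr (.inr e)
  exfalso
  have hback : ∀ k < 32, ∃ q < 192, com8 q j = true ∧ f q = c⁻¹ * f (pel8 k) * c := by
    intro k hk
    obtain ⟨r1, r2, -⟩ := pel8_spec hk
    have h1 := (h.com_iff r1 hb).1 ((inPb8_iff r1).1 r2)
    rw [← hc] at h1
    obtain ⟨q, hq, e'⟩ := h.surj (c⁻¹ * f (pel8 k) * c) (by
      calc c⁻¹ * f (pel8 k) * c * s = c⁻¹ * (f (pel8 k) * (c * s * c⁻¹)) * c := by group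
        _ = c⁻¹ * (c * s * c⁻¹ * f (pel8 k)) * c := by rw [h1]
        _ = _ := by group)
    refine ⟨q, hq, (h.com_iff hq hj).2 ?_, e'⟩
    rw [e', hje]
    have := h.comm_s r1
    calc c⁻¹ * f (pel8 k) * c * (c⁻¹ * s * c) = c⁻¹ * (f (pel8 k) * s) * c := by group
      _ = c⁻¹ * (s * f (pel8 k)) * c := by rw [this]
      _ = _ := by group
  choose φ hφ1 hφ2 hφ3 using hback
  have hle : (Finset.univ : Finset (Fin 32)).card ≤
      ((List.range 192).filter fun q => com8 q j).toFinset.card := by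
    refine Finset.card_le_card_of_injOn (fun k => φ k k.2) (fun k _ => ?_) fun a _ b _ e' => ?_
    · simp only [List.coe_toFinset, Set.mem_setOf_eq, List.mem_filter, List.mem_range]
      exact ⟨hφ1 k k.2, hφ2 k k.2⟩
    · have e3 := congrArg f e'
      rw [hφ3, hφ3] at e3
      have e4 : f (pel8 a) = f (pel8 b) := by simpa using e3
      have e5 := h.inj _ (pel8_spec a.2).1 _ (pel8_spec b.2).1 e4
      have hnd : allBelow (fun a => allBelow (fun b => impB (Nat.beq (pel8 a) (pel8 b))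
          (Nat.beq a b)) 32) 32 = true := by decide +kernel
      exact Fin.ext (beq_spec.1 (impB_spec (allBelow_spec (allBelow_spec hnd a a.2) b b.2)
        (beq_spec.2 e5)))
  have hle' := hle.trans (List.toFinset_card_le _)
  rw [Finset.card_univ, Fintype.card_fin] at hle'
  omega

/-- Fusion of `bI8` to the centre gives an exchanging element, acting by a listed map. -/
theorem Emb8.exists_swap (h : Emb8 f s) (hb' : IsConj s (f bI8)) :
    ∃ g F, F ∈ maps1 ++ maps2 ∧ ∀ i < 192, inPb8 i = true → g * f i * g⁻¹ = f (look8 F i) := by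
  obtain ⟨hu, ha, hb, hc, -⟩ := const8_lt
  obtain ⟨-, -, -, -, -, hP1, hP2, hP3, p1, p2, p3, hPu, hPb⟩ := gens8_order
  obtain ⟨t0, tc, ta⟩ := tgt8_facts
  -- the final step, from a symmetric conjugating element
  have main : ∀ c : G, c * s * c⁻¹ = f bI8 → (∀ j < 192, f j = c⁻¹ * s * c → cls8 j = 4) →
      ∃ g F, F ∈ maps1 ++ maps2 ∧
        ∀ i < 192, inPb8 i = true → g * f i * g⁻¹ = f (look8 F i) := by
    intro c hcb h4
    obtain ⟨j, hj, hje⟩ := h.surj (c⁻¹ * s * c) (by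
      have := h.comm_s hb
      rw [← hcb] at this
      calc c⁻¹ * s * c * s = c⁻¹ * (s * (c * s * c⁻¹)) * c := by group
        _ = c⁻¹ * (c * s * c⁻¹ * s) * c := by rw [← this]
        _ = _ := by group)
    obtain ⟨l, hl, hle⟩ := cls8_conj hj (.inr (.inl rfl)) (h4 j hj hje)
    have hlb : f l * f bI8 * (f l)⁻¹ = c⁻¹ * s * c := by rw [← h.map_cj hl hb, hle, hje]
    set g := c * f l with hg
    have hgs : g * s * g⁻¹ = f bI8 := by
      calc c * f l * s * (c * f l)⁻¹ = c * (f l * s * (f l)⁻¹) * c⁻¹ := by group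
        _ = f bI8 := by rw [h.comm_s hl, mul_inv_cancel_right, hcb]
    have hgb : g * f bI8 * g⁻¹ = s := by
      calc c * f l * f bI8 * (c * f l)⁻¹ = c * (f l * f bI8 * (f l)⁻¹) * c⁻¹ := by group
        _ = s := by rw [hlb]; group
    obtain ⟨i, hi, j', hj', k, hk, -, -, -, hr⟩ :=
      h.exists_map (.inl rfl) (M := 0) hgb (by rw [t0]; exact hgs)
    obtain ⟨hok, hrest⟩ := hr _ swap_check
    simp only [swapOK, Bool.and_eq_true] at hok
    obtain ⟨hrec, himp⟩ := hok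
    obtain ⟨hval, hconj⟩ := hrest hrec
    generalize ext8 (tel8 0 i) (tel8 0 j') (tel8 0 k) 31 = F at hrec himp hval hconj
    obtain ⟨d, hd, hde⟩ := h.mem_Pb (y := g * g) (mul_inv_eq_iff_eq_mul.1 (by
        calc g * g * s * (g * g)⁻¹ = g * (g * s * g⁻¹) * g⁻¹ := by group
          _ = s := by rw [hgs, hgb])) (mul_inv_eq_iff_eq_mul.1 (by
        calc g * g * f bI8 * (g * g)⁻¹ = g * (g * f bI8 * g⁻¹) * g⁻¹ := by group
          _ = f bI8 := by rw [hgb, hgs]))
    obtain ⟨hd1, hd2, -⟩ := pel8_spec hd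
    have hPF : ∀ p < 192, inPb8 p = true → inPb8 (look8 F p) = true := by
      intro p hp hP
      obtain ⟨hl1, e⟩ := hconj p hp hP
      refine (inPb8_iff hl1).2 ((h.com_iff hl1 hb).2 ?_)
      rw [← e, ← hgs]
      have := h.comm_s hp
      calc g * f p * g⁻¹ * (g * s * g⁻¹) = g * (f p * s) * g⁻¹ := by group
        _ = g * (s * f p) * g⁻¹ := by rw [this]
        _ = _ := by group
    have hsqP : ∀ p < 192, inPb8 p = true →
        look8 F (look8 F p) = cj8 (pel8 d) p := fun p hp hP => by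
      obtain ⟨l1, e1⟩ := hconj p hp hP
      obtain ⟨l2, e2⟩ := hconj _ l1 (hPF p hp hP)
      refine h.inj _ l2 _ (cj8_lt hd1 hp) ?_
      rw [← e2, ← e1, h.map_cj hd1 hp, hde]
      group
    have hsq : sq8 F = true := by
      have hany : ∀ {r : ℕ → Bool} {n m : ℕ}, m < n → r m = true → anyBelow r n = true := by
        intro r n m hm hr
        induction n with
        | zero => omega
        | succ n ihn =>
          rw [anyBelow, Bool.or_eq_true]
          rcases Nat.lt_succ_iff_lt_or_eq.1 hm with h' | h'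
          · exact .inr (ihn h')
          · exact .inl (h' ▸ hr)
      refine hany hd ?_
      simp only [Bool.and_eq_true, beq_spec]
      refine ⟨?_, ⟨hsqP _ p1 hP1, hsqP _ p2 hP2⟩, hsqP _ p3 hP3⟩
      obtain ⟨l1, e1⟩ := hconj _ hd1 hd2
      refine h.inj _ l1 _ hd1 ?_
      rw [← e1, hde]
      group
    have := impB_spec himp (by rw [hval, hsq]; rfl)
    rw [List.any_eq_true] at this
    obtain ⟨F', hF', e⟩ := this
    exact ⟨g, F', hF', fun p hp hP => beq_spec.1 e ▸ (hconj p hp hP).2⟩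
  obtain ⟨c, hcb⟩ := isConj_iff.1 hb'
  obtain ⟨j, hj, hje⟩ := h.surj (c⁻¹ * s * c) (by
    have := h.comm_s hb
    rw [← hcb] at this
    calc c⁻¹ * s * c * s = c⁻¹ * (s * (c * s * c⁻¹)) * c := by group
      _ = c⁻¹ * (c * s * c⁻¹ * s) * c := by rw [← this]
      _ = _ := by group)
  have hcls := h.cls_of_conj_b hcb hj hje
  by_cases h4 : cls8 j = 4
  · exact main c hcb fun j' hj' e => (h.inj j' hj' j hj (e.trans hje.symm)) ▸ h4
  obtain ⟨M, r, hM, hr, hrj, htr⟩ : ∃ M r, (M = 0 ∨ M = toC ∨ M = toA) ∧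
      IsRep8 (cls8 j) r ∧ tgt8 M = r ∧ triples8 M (otherOK M) = true := by
    rcases hcls with e | e | e
    · exact absurd e h4
    · exact ⟨toC, cI8, .inr (.inl rfl), e ▸ .inr (.inr (.inl rfl)), tc, otherC_check⟩
    · exact ⟨toA, aI8, .inr (.inr rfl), e ▸ .inl rfl, ta, otherA_check⟩
  obtain ⟨l, hl, hle⟩ := cls8_conj hj hr rfl
  have hr192 : r < 192 := by
    rcases hM with rfl | rfl | rfl
    · rw [← hrj, t0]; exact hb
    · rw [← hrj, tc]; exact hc
    · rw [← hrj, ta]; exact ha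
  set g := (f l)⁻¹ * c⁻¹ with hg
  have hgb : g * f bI8 * g⁻¹ = s := by
    rw [← hcb]
    calc (f l)⁻¹ * c⁻¹ * (c * s * c⁻¹) * ((f l)⁻¹ * c⁻¹)⁻¹ = (f l)⁻¹ * (s * f l) := by group
      _ = s := by rw [← h.comm_s hl, inv_mul_cancel_left]
  have hgs : g * s * g⁻¹ = f (tgt8 M) := by
    rw [hrj]
    calc (f l)⁻¹ * c⁻¹ * s * ((f l)⁻¹ * c⁻¹)⁻¹ = (f l)⁻¹ * (c⁻¹ * s * c) * f l := by group
      _ = f r := by rw [← hje, ← hle, h.map_cj hl hr192]; group
  obtain ⟨i, hi, j', hj', k, hk, -, -, -, hr'⟩ := h.exists_map hM hgb hgs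
  obtain ⟨hok, hrest⟩ := hr' _ htr
  simp only [otherOK, Bool.and_eq_true] at hok
  obtain ⟨hval, hconj⟩ := hrest hok.1
  have hder := impB_spec hok.2 hval
  generalize ext8 (tel8 M i) (tel8 M j') (tel8 M k) 31 = F at hconj hder
  obtain ⟨k1, hk1, h1⟩ := anyBelow_spec hder
  simp only [Bool.and_eq_true, beq_spec] at h1
  obtain ⟨l1, hl1, h2⟩ := anyBelow_spec h1.2
  simp only [Bool.and_eq_true, beq_spec] at h2
  obtain ⟨k2, hk2, h3⟩ := anyBelow_spec h2.2
  simp only [Bool.and_eq_true, beq_spec] at h3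
  have htgt : tgt8 M < 192 := hrj ▸ hr192
  set w := g⁻¹ * f l1 * g with hw
  have hws : w * s * w⁻¹ = f (pel8 k1) := by
    calc g⁻¹ * f l1 * g * s * (g⁻¹ * f l1 * g)⁻¹
        = g⁻¹ * (f l1 * (g * s * g⁻¹) * (f l1)⁻¹) * g := by group
      _ = g⁻¹ * f (cj8 l1 (tgt8 M)) * g := by rw [hgs, h.map_cj hl1 htgt]
      _ = f (pel8 k1) := by
          rw [h2.1, ← (hconj _ (pel8_spec hk1).1 (pel8_spec hk1).2.1).2]; group
  obtain ⟨m, hm, hme⟩ := cls8_conj (pel8_spec hk1).1 (.inr (.inl rfl)) h1.1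
  refine main ((f m)⁻¹ * w) ?_ fun q hq e => ?_
  · calc (f m)⁻¹ * w * s * ((f m)⁻¹ * w)⁻¹ = (f m)⁻¹ * (w * s * w⁻¹) * f m := by group
      _ = f bI8 := by rw [hws, ← hme, h.map_cj hm hb]; group
  · have e2 : f q = f (pel8 k2) := by
      rw [e]
      calc ((f m)⁻¹ * w)⁻¹ * s * ((f m)⁻¹ * w) = w⁻¹ * (f m * s * (f m)⁻¹) * w := by group
        _ = g⁻¹ * ((f l1)⁻¹ * (g * s * g⁻¹) * f l1) * g := by
            rw [h.comm_s hm, mul_inv_cancel_right, hw]; group
        _ = g⁻¹ * f (cj8 (inv8 l1) (tgt8 M)) * g := by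
            rw [hgs, h.map_cj (inv8_lt hl1) htgt, h.map_inv hl1, inv_inv]
        _ = f (pel8 k2) := by
            rw [h3.2, ← (hconj _ (pel8_spec hk2).1 (pel8_spec hk2).2.1).2]; group
    rw [h.inj q hq _ (pel8_spec hk2).1 e2]
    exact h3.1

end CfsgLib.M12Type.Eight
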