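import Cfsg.Agent.M12Type.Facts

/-!
The finite analysis of the gluing maps of the centraliser of `xI`.
-/

set_option autoImplicit false
set_option maxRecDepth 100000

namespace CfsgLib.M12Type

open CfsgLib.CosetEnum (allBelow)

/-- the standard gluing map, zero outside the centraliser of `xI` -/
def stdI (i : ℕ) : ℕ := (0xbb00ae004c0000990097000000b900000000000000000000000000009f0000000000b400b20000000000000000005048000000000086000000000015002e0000007a00000000000000000000000000000000000000000000000000000a00000000000000000000170000008d000000b70000008c0000000e000000400000003c000000000036000000000000007e00000000000000000000100000000000000000000000540080000000002300440000005f00000000000000000000 >>> (8 * i)) % 256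

/-- the `k`th element of the centraliser of `xI` -/
def pelem (k : ℕ) : ℕ := (0xb47a542eb9b7803c400e178caebb234c5015999f7eb24897868d5f4436100a00 >>> (8 * k)) % 256

/-- lookup in a packed map -/
def look (F i : ℕ) : ℕ := (F >>> (8 * i)) % 256

/-- membership in the centraliser of `xI` -/
noncomputable def inP (i : ℕ) : Bool := commI i xI

/-- one of three -/
def sel3 (a b c : ℕ) (m : ℕ) : ℕ := bif Nat.beq m 0 then a else bif Nat.beq m 1 then b else c

/-- the map with given images of the three generators, packed -/
noncomputable def ext3 (a b c : ℕ) : ℕ → ℕ
  | 0 => 0
  | k + 1 =>
    let F := ext3 a b c k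
    F + ((mulI (look F (pelem (ppar (k + 1)))) (sel3 a b c (plet (k + 1)))) <<< (8 * pelem (k + 1)))

end CfsgLib.M12Type
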