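import Cfsg.Agent.M12Type.GlueData8

/-!
The finite analysis of the maps induced on the centraliser of `bI8` by elements carrying it to the
central involution: either they are gluing maps of the list, or they produce one.
-/

set_option autoImplicit false
set_option maxRecDepth 100000

namespace CfsgLib.M12Type.Eight

open CfsgLib.CosetEnum (allBelow)

/-- one of the three generators -/
noncomputable def sel8 (a b c : ℕ) (m : ℕ) : ℕ :=
  bif Nat.beq m 0 then a else bif Nat.beq m 1 then b else c

/-- the map with given images of the generators, packed -/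
noncomputable def ext8 (a b c : ℕ) : ℕ → ℕ
  | 0 => 0
  | k + 1 =>
    let F := ext8 a b c k
    F + ((mul8 (look8 F (pel8 (ppar8 (k + 1)))) (sel8 a b c (plet8 (k + 1))))
      <<< (8 * pel8 (k + 1)))

/-- the centraliser of the target, in the order of `pel8` -/
noncomputable def tel8 (M k : ℕ) : ℕ := bif Nat.beq M 0 then pel8 k else look8 M (pel8 k)

/-- the target -/
noncomputable def tgt8 (M : ℕ) : ℕ := bif Nat.beq M 0 then bI8 else look8 M bI8

/-- a homomorphism, injective, carrying `bI8` to the centre and the centre to the target -/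
noncomputable def valid8 (F a b c M : ℕ) : Bool :=
  Nat.beq (look8 F uI8) (tgt8 M) && Nat.beq (look8 F bI8) uI8 &&
    allBelow (fun k => (Nat.beq k 0 || !(Nat.beq (look8 F (pel8 k)) 0)) &&
      Nat.beq (look8 F (mul8 (pel8 k) pb1)) (mul8 (look8 F (pel8 k)) a) &&
      Nat.beq (look8 F (mul8 (pel8 k) pb2)) (mul8 (look8 F (pel8 k)) b) &&
      Nat.beq (look8 F (mul8 (pel8 k) pb3)) (mul8 (look8 F (pel8 k)) c)) 32

/-- the square is conjugation by a fixed element -/
noncomputable def sq8 (F : ℕ) : Bool :=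
  anyBelow (fun h => Nat.beq (look8 F (pel8 h)) (pel8 h) &&
    (Nat.beq (look8 F (look8 F pb1)) (cj8 (pel8 h) pb1) &&
      Nat.beq (look8 F (look8 F pb2)) (cj8 (pel8 h) pb2) &&
      Nat.beq (look8 F (look8 F pb3)) (cj8 (pel8 h) pb3))) 32

/-- an element carries the centre to the class of `bI8` in both directions -/
noncomputable def derange8 (F M : ℕ) : Bool :=
  anyBelow (fun k => Nat.beq (cls8 (pel8 k)) 4 && anyBelow (fun l =>
    Nat.beq (cj8 l (tgt8 M)) (look8 F (pel8 k)) && anyBelow (fun k' => Nat.beq (cls8 (pel8 k')) 4 &&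
      Nat.beq (cj8 (inv8 l) (tgt8 M)) (look8 F (pel8 k'))) 32) 192) 32

/-- the recursion of the packed map -/
noncomputable def rec8 (F a b c : ℕ) : Bool :=
  Nat.beq (look8 F (pel8 0)) 0 &&
    allBelow (fun m => impB (!(Nat.beq m 0)) (Nat.beq (look8 F (pel8 m))
      (mul8 (look8 F (pel8 (ppar8 m))) (sel8 a b c (plet8 m))))) 32

/-- the verdict for the images `a`, `b`, `c` -/
noncomputable def swapOK (a b c : ℕ) : Bool :=
  rec8 (ext8 a b c 31) a b c &&
    impB (valid8 (ext8 a b c 31) a b c 0 && sq8 (ext8 a b c 31))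
      ((maps1 ++ maps2).any fun G => Nat.beq G (ext8 a b c 31))

/-- the verdict for the images `a`, `b`, `c` in another centraliser -/
noncomputable def otherOK (M a b c : ℕ) : Bool :=
  rec8 (ext8 a b c 31) a b c &&
    impB (valid8 (ext8 a b c 31) a b c M) (derange8 (ext8 a b c 31) M)

/-- the square of the product -/
noncomputable def sqm8 (i j : ℕ) : ℕ := mul8 (mul8 i j) (mul8 i j)

/-- all triples of images satisfying the relations of the generators -/
noncomputable def triples8 (M : ℕ) (r : ℕ → ℕ → ℕ → Bool) : Bool :=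
  allBelow (fun i => impB (Nat.beq (mul8 (tel8 M i) (tel8 M i)) uI8)
    (allBelow (fun j => impB (isInv8 (tel8 M j) && Nat.beq (sqm8 (tel8 M i) (tel8 M j)) 0)
      (allBelow (fun k => impB (isInv8 (tel8 M k) &&
        Nat.beq (sqm8 (tel8 M j) (tel8 M k)) (tgt8 M))
          (r (tel8 M i) (tel8 M j) (tel8 M k))) 32)) 32)) 32

theorem swap_check : triples8 0 swapOK = true := by decide +kernel

theorem otherC_check : triples8 toC (otherOK toC) = true := by decide +kernel

theorem otherA_check : triples8 toA (otherOK toA) = true := by decide +kernel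

theorem gens8_order : mul8 pb1 pb1 = bI8 ∧ sqm8 pb1 pb2 = 0 ∧ sqm8 pb2 pb3 = uI8 ∧ isInv8 pb2 = true ∧ isInv8 pb3 = true ∧
    inPb8 pb1 = true ∧ inPb8 pb2 = true ∧ inPb8 pb3 = true ∧ pb1 < 192 ∧ pb2 < 192 ∧ pb3 < 192 ∧
    inPb8 uI8 = true ∧ inPb8 bI8 = true := by
  decide +kernel

theorem tgt8_facts : tgt8 0 = bI8 ∧ tgt8 toC = cI8 ∧ tgt8 toA = aI8 := by decide +kernel

theorem pel8_facts : allBelow (fun k => Nat.blt (pel8 k) 192 && inPb8 (pel8 k) &&
      impB (!(Nat.beq k 0)) (Nat.blt (ppar8 k) k && Nat.blt (plet8 k) 3 &&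
        Nat.beq (mul8 (pel8 (ppar8 k)) (sel8 pb1 pb2 pb3 (plet8 k))) (pel8 k))) 32 = true ∧
    pel8 0 = 0 ∧
    allBelow (fun i => Nat.beq (if inPb8 i then 1 else 0) (if com8 i bI8 then 1 else 0) &&
      impB (inPb8 i) (anyBelow (fun k => Nat.beq (pel8 k) i) 32) &&
      impB (com8 i cI8) (anyBelow (fun k => Nat.beq (tel8 toC k) i) 32) &&
      impB (com8 i aI8) (anyBelow (fun k => Nat.beq (tel8 toA k) i) 32)) 192 = true := by
  refine ⟨?_, ?_, ?_⟩ <;> decide +kernel

end CfsgLib.M12Type.Eight
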