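import Cfsg.Agent.M12Type.Facts8

/-!
The numbered centraliser inside a subgroup isomorphic to the alternating group of degree 8:
transport of conjugations from the model, and the two types of involutions.
-/

set_option autoImplicit false
set_option maxRecDepth 100000

namespace CfsgLib.M12Type.Eight

open CfsgLib.CosetEnum (allBelow)

/-- `(0 2)(1 3)` -/
def vI8 : ℕ := 58

/-- `(0 3)(1 2)` -/
def vzI8 : ℕ := 162

/-- `(0 1)(4 5)` -/
def oddI8 : ℕ := 156

/-- `(0 1)(4 6 5 7)` -/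
def fourI8 : ℕ := 84

/-- `(0 3)(1 2)(4 7)(5 6)` -/
def sbI8 : ℕ := 100

/-- the classes fused to the centre -/
noncomputable def sTy8 (i : ℕ) : Bool :=
  Nat.beq (cls8 i) 12 || Nat.beq (cls8 i) 4 || Nat.beq (cls8 i) 7 || Nat.beq (cls8 i) 10

/-- the classes fused to `aI8` -/
noncomputable def zTy8 (i : ℕ) : Bool := Nat.beq (cls8 i) 8 || Nat.beq (cls8 i) 9

/-- `f` numbers the centraliser inside the subgroup `L`, which is the alternating group of
degree 8 compatibly with the model. -/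
structure InA8 {G : Type*} [Group G] (f : ℕ → G) (L : Subgroup G) : Prop where
  mem : ∀ i < 192, f i ∈ L
  iso : ∃ e : L ≃* alternatingGroup (Fin 8), ∀ i < 192, ∀ hi, e ⟨f i, hi⟩ = el8 i

/-- a permutation of degree 8 conjugating the element numbered `i` to the one numbered `j` -/
noncomputable def movB (p : List ℕ) (i j : ℕ) : Bool :=
  decide (comp8 p (cd8 i) = comp8 (cd8 j) p)

variable {G : Type*} [Group G] {f : ℕ → G} {s : G} {L : Subgroup G}

theorem InA8.conj (hL : InA8 f L) (p : Equiv.Perm (Fin 8)) (hp : Equiv.Perm.sign p = 1) :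
    ∃ l ∈ L, (p ^ 3 = 1 → l ^ 3 = 1) ∧ (p ≠ 1 → l ≠ 1) ∧
      ∀ i < 192, ∀ j < 192, movB (imgs p) i j = true → l * f i * l⁻¹ = f j := by
  obtain ⟨e, he⟩ := hL.iso
  obtain ⟨l, hl⟩ := e.surjective ⟨p, hp⟩
  refine ⟨l, l.2, fun h3 => ?_, fun hp1 hl1 => hp1 ?_, fun i hi j hj hm => ?_⟩
  · have : l ^ 3 = 1 := e.injective (by rw [map_pow, hl, map_one]; exact Subtype.ext h3)
    exact congrArg Subtype.val this
  · have : l = 1 := Subtype.ext hl1
    rw [this, map_one] at hl
    exact (congrArg Subtype.val hl).symm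
  · have hcomp : p * (el8 i).1 = (el8 j).1 * p := imgs_injective (by
      rw [imgs_mul, imgs_mul, imgs_el8 hi, imgs_el8 hj]
      simpa [movB] using hm)
    have : l * ⟨f i, hL.mem i hi⟩ = ⟨f j, hL.mem j hj⟩ * l := e.injective (by
      rw [map_mul, map_mul, hl, he i hi, he j hj]; exact Subtype.ext hcomp)
    have h := congrArg Subtype.val this
    simp only [Subgroup.coe_mul] at h
    rw [h, mul_inv_cancel_right]

theorem InA8.isConj (hL : InA8 f L) (p : Equiv.Perm (Fin 8)) (hp : Equiv.Perm.sign p = 1) {i j : ℕ}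
    (hi : i < 192) (hj : j < 192) (hm : movB (imgs p) i j = true) : IsConj (f i) (f j) := by
  obtain ⟨l, -, -, -, hl⟩ := hL.conj p hp
  exact isConj_iff.mpr ⟨l, hl i hi j hj hm⟩

theorem const8_lt' : vI8 < 192 ∧ vzI8 < 192 ∧ oddI8 < 192 ∧ fourI8 < 192 ∧ sbI8 < 192 := by decide

/-- Classes 4, 7, 10 are fused to the centre, inside the subgroup. -/
theorem InA8.exists_s (h : Emb8 f s) (hL : InA8 f L) {i : ℕ} (hi : i < 192)
    (ht : sTy8 i = true) : ∃ l ∈ L, l * s * l⁻¹ = f i := by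
  obtain ⟨hu, -, hb, hc, -, ho3, -⟩ := const8_lt
  simp only [sTy8, Bool.or_eq_true, beq_spec] at ht
  have key : ∀ {r c : ℕ} (p : Equiv.Perm (Fin 8)), IsRep8 c r → cls8 i = c → r < 192 →
      Equiv.Perm.sign p = 1 → movB (imgs p) uI8 r = true → ∃ l ∈ L, l * s * l⁻¹ = f i := by
    intro r c p hr hcl hr' hp hm
    obtain ⟨l, hl, rfl⟩ := cls8_conj hi hr hcl
    obtain ⟨m, hmL, -, -, hmc⟩ := hL.conj p hp
    refine ⟨f l * m, mul_mem (hL.mem l hl) hmL, ?_⟩
    rw [h.map_cj hl hr', ← hmc _ hu _ hr' hm, h.map_u]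
    group
  rcases ht with ((e | e) | e) | e
  · have hd : allBelow (fun i => impB (Nat.beq (cls8 i) 12) (Nat.beq i uI8)) 192 = true := by
      decide +kernel
    refine ⟨1, one_mem L, ?_⟩
    rw [beq_spec.1 (impB_spec (allBelow_spec hd i hi) (beq_spec.2 e)), h.map_u, one_mul, inv_one,
      mul_one]
  · exact key (Equiv.swap 1 2 * Equiv.swap 5 6) (.inr (.inl rfl)) e hb (by decide)
      (by decide +kernel)
  · exact key (Equiv.swap 1 3 * Equiv.swap 3 2 * (Equiv.swap 5 6 * Equiv.swap 6 7))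
      (.inr (.inr (.inl rfl))) e hc (by decide) (by decide +kernel)
  · exact key (Equiv.swap 2 3 * Equiv.swap 5 6) (.inr (.inr (.inr (.inr rfl)))) e ho3 (by decide)
      (by decide +kernel)

/-- Classes 4, 7, 10 are fused to the centre. -/
theorem InA8.isConj_s (h : Emb8 f s) (hL : InA8 f L) {i : ℕ} (hi : i < 192)
    (ht : sTy8 i = true) : IsConj s (f i) :=
  let ⟨l, _, hl⟩ := hL.exists_s h hi ht
  isConj_iff.mpr ⟨l, hl⟩

/-- Classes 8, 9 are fused to `aI8`, inside the subgroup. -/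
theorem InA8.exists_a (h : Emb8 f s) (hL : InA8 f L) {i : ℕ} (hi : i < 192)
    (ht : zTy8 i = true) : ∃ l ∈ L, l * f aI8 * l⁻¹ = f i := by
  obtain ⟨-, ha, -, -, ho2, -⟩ := const8_lt
  simp only [zTy8, Bool.or_eq_true, beq_spec] at ht
  rcases ht with e | e
  · obtain ⟨l, hl, rfl⟩ := cls8_conj hi (.inl rfl) e
    exact ⟨f l, hL.mem l hl, (h.map_cj hl ha).symm⟩
  · obtain ⟨l, hl, rfl⟩ := cls8_conj hi (.inr (.inr (.inr (.inl rfl)))) e
    obtain ⟨m, hmL, -, -, hmc⟩ := hL.conj (Equiv.swap 0 4 * (Equiv.swap 1 6 * Equiv.swap 6 3 *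
      Equiv.swap 3 7 * Equiv.swap 7 2 * Equiv.swap 2 5)) (by decide)
    refine ⟨f l * m, mul_mem (hL.mem l hl) hmL, ?_⟩
    rw [h.map_cj hl ho2, ← hmc _ ha _ ho2 (by decide +kernel)]
    group

/-- Classes 8, 9 are fused to `aI8`. -/
theorem InA8.isConj_a (h : Emb8 f s) (hL : InA8 f L) {i : ℕ} (hi : i < 192)
    (ht : zTy8 i = true) : IsConj (f aI8) (f i) :=
  let ⟨l, _, hl⟩ := hL.exists_a h hi ht
  isConj_iff.mpr ⟨l, hl⟩

theorem InA8.not_conj_s (h : Emb8 f s) (hL : InA8 f L) (hna : ¬ IsConj s (f aI8)) {i : ℕ}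
    (hi : i < 192) (ht : zTy8 i = true) : ¬ IsConj s (f i) :=
  fun hc => hna (hc.trans (hL.isConj_a h hi ht).symm)

/-- Every involution is of one of the two types. -/
theorem type_cases {i : ℕ} (hi : i < 192) (hv : isInv8 i = true) :
    sTy8 i = true ∨ zTy8 i = true := by
  have hd : allBelow (fun i => impB (isInv8 i) (sTy8 i || zTy8 i)) 192 = true := by decide +kernel
  simpa [Bool.or_eq_true] using impB_spec (allBelow_spec hd i hi) hv

end CfsgLib.M12Type.Eight
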