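import Cfsg.Agent.M12Type.CentZ
import Cfsg.Agent.ZStar.Theorem

/-!
An overgroup containing both centralisers is the whole group; a gluing preserving the elementary
abelian subgroup of order eight makes it normal in the whole group.
-/

set_option autoImplicit false

namespace CfsgLib.M12Type

open CfsgLib.StronglyEmbedded (orderOf_two_iff orderOf_conj)

variable {G : Type*} [Group G] {f : ℕ → G} {s : G}

theorem Emb.zI_invol (h : Emb f s) : orderOf (f zI) = 2 :=
  h.orderOf_invol const_facts.2.2.2.1 const_facts.2.2.2.2.2.2.2.2.2.2.2.2.2.2.1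

/-- A subgroup containing both centralisers and fusing all involutions of the Sylow 2-subgroup to
the two representatives is the whole group. -/
theorem Emb.eq_top [Finite G] (h : Emb f s) (H : Subgroup G)
    (hcls : ∀ i < 192, isInv i = true → inS i = true →
      ∃ n ∈ H, n * s * n⁻¹ = f i ∨ n * f zI * n⁻¹ = f i)
    (hCs : Subgroup.centralizer ({s} : Set G) ≤ H)
    (hCz : Subgroup.centralizer ({f zI} : Set G) ≤ H) : H = ⊤ := by
  haveI : Fact (Nat.Prime 2) := ⟨Nat.prime_two⟩
  by_contra hne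
  obtain ⟨T, hT⟩ := h.exists_sylow_eq
  have hTH : (T : Subgroup G) ≤ H := by
    rw [hT]
    rintro y ⟨i, hi, -, rfl⟩
    exact hCs (Subgroup.mem_centralizer_singleton_iff.mpr (h.comm_s hi))
  have hs2 := h.orderOf_s
  have hz2 := h.zI_invol
  have hsH : s ∈ H := hCs (Subgroup.mem_centralizer_singleton_iff.mpr rfl)
  have hzH : f zI ∈ H := hCz (Subgroup.mem_centralizer_singleton_iff.mpr rfl)
  have hrep : ∀ y ∈ H, orderOf y = 2 → ∃ n ∈ H, n * s * n⁻¹ = y ∨ n * f zI * n⁻¹ = y := by
    intro y hy hy2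
    have hp : IsPGroup 2 (Subgroup.zpowers (⟨y, hy⟩ : H)) :=
      IsPGroup.of_card (n := 1) (by rw [Nat.card_zpowers, ← Subgroup.orderOf_coe, hy2, pow_one])
    obtain ⟨U, hU⟩ := hp.exists_le_sylow
    obtain ⟨c, hc⟩ := MulAction.exists_smul_eq H U (T.subtype hTH)
    have hm : c * ⟨y, hy⟩ * c⁻¹ ∈ ((T.subtype hTH : Sylow 2 H) : Subgroup H) := by
      rw [← hc]
      exact Subgroup.mem_map.mpr ⟨⟨y, hy⟩, hU (Subgroup.mem_zpowers _), rfl⟩
    rw [Sylow.coe_subtype, Subgroup.mem_subgroupOf, hT] at hm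
    obtain ⟨i, hi, hiS, hie⟩ := hm
    have hi2 : orderOf (f i) = 2 := by
      rw [hie]; simpa using (orderOf_conj (c : G) y).trans hy2
    obtain ⟨j, hj, hjv, hje⟩ := h.exists_invol hi2 (h.comm_s hi)
    rw [h.inj j hj i hi hje] at hjv
    obtain ⟨n, hn, hn'⟩ := hcls i hi hjv hiS
    refine ⟨(c : G)⁻¹ * n, mul_mem (inv_mem c.2) hn, ?_⟩
    have key : ∀ a : G, n * a * n⁻¹ = f i → (c : G)⁻¹ * n * a * ((c : G)⁻¹ * n)⁻¹ = y := by
      intro a ha
      calc (c : G)⁻¹ * n * a * ((c : G)⁻¹ * n)⁻¹ = (c : G)⁻¹ * (n * a * n⁻¹) * (c : G) := by group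
        _ = y := by
          rw [ha, hie]
          simp only [Subgroup.coe_mul, Subgroup.coe_inv]
          group
    exact hn'.imp (key s) (key (f zI))
  have heven : Even (Nat.card H) := even_iff_two_dvd.mpr (by
    have := orderOf_dvd_natCard (⟨s, hsH⟩ : H)
    rwa [← Subgroup.orderOf_coe, hs2] at this)
  have hse : Cfsg.IsStronglyEmbedded H := by
    refine CfsgLib.StronglyEmbedded.intro_of_centralizer_le hne heven (fun t ht ht2 => ?_)
      fun t ht t' ht' ht2 ht2' hcj => ?_
    · obtain ⟨n, hn, e⟩ := hrep t ht ht2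
      have key : ∀ a : G, Subgroup.centralizer ({a} : Set G) ≤ H → n * a * n⁻¹ = t →
          Subgroup.centralizer ({t} : Set G) ≤ H := by
        intro a ha e y hy
        have hy' := Subgroup.mem_centralizer_singleton_iff.mp hy
        have hm : n⁻¹ * y * n ∈ H := ha (Subgroup.mem_centralizer_singleton_iff.mpr (by
          rw [← e] at hy'
          calc n⁻¹ * y * n * a = n⁻¹ * (y * (n * a * n⁻¹)) * n := by group
            _ = n⁻¹ * (n * a * n⁻¹ * y) * n := by rw [hy']
            _ = _ := by group))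
        have := mul_mem (mul_mem hn hm) (inv_mem hn)
        rwa [show n * (n⁻¹ * y * n) * n⁻¹ = y by group] at this
      exact e.elim (key s hCs) (key (f zI) hCz)
    · obtain ⟨n, hn, e⟩ := hrep t ht ht2
      obtain ⟨n', hn', e'⟩ := hrep t' ht' ht2'
      have key : ∀ a : G, n * a * n⁻¹ = t → n' * a * n'⁻¹ = t' → ∃ k ∈ H, k * t * k⁻¹ = t' :=
        fun a e e' => ⟨n' * n⁻¹, mul_mem hn' (inv_mem hn), by rw [← e, ← e']; group⟩
      rcases e with e | e <;> rcases e' with e' | e'
      · exact key _ e e'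
      · exact absurd ((isConj_iff.mpr ⟨n, e⟩).trans (hcj.trans (isConj_iff.mpr ⟨n', e'⟩).symm))
          h.not_conj_s_z
      · exact absurd ((isConj_iff.mpr ⟨n', e'⟩).trans (hcj.symm.trans (isConj_iff.mpr ⟨n, e⟩).symm))
          h.not_conj_s_z
      · exact key _ e e'
  exact h.not_conj_s_z (CfsgLib.StronglyEmbedded.isConj_involutions hse hs2 hz2)

/-- the subgroup of order eight, as indices -/
noncomputable def inE (i : ℕ) : Bool := Nat.beq i 0 || Nat.beq i uI || Nat.beq (clsI i) 12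

theorem eight_facts :
    CfsgLib.CosetEnum.allBelow (fun i => impB (inE i) (inP i &&
      CfsgLib.CosetEnum.allBelow (fun j => impB (inE j) (inE (mulI i j))) 192 &&
      inE (invI i) &&
      CfsgLib.CosetEnum.allBelow (fun l => inE (cjI l i)) 192)) 192 = true ∧
    CfsgLib.CosetEnum.allBelow (fun l => Nat.beq (clsI (cjI l zI)) 10) 192 = true ∧
    inE 0 = true ∧ inE uI = true ∧ inE xI = true ∧ inE zI = false ∧ stdI 0 = 0 ∧
    inP uI = true ∧ cjI aI xuI = xI ∧ cjI aI uI = uI ∧ cjI aI zI = zI := by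
  decide +kernel

/-- The subgroup of order eight. -/
def Emb.eight (h : Emb f s) : Subgroup G where
  carrier := {y | ∃ i < 192, inE i = true ∧ f i = y}
  one_mem' := ⟨0, by norm_num, eight_facts.2.2.1, h.map_zero⟩
  mul_mem' := fun {a b} ⟨i, hi, h1, e1⟩ ⟨j, hj, h2, e2⟩ => by
    have := impB_spec (allBelow_spec eight_facts.1 i hi) h1
    simp only [Bool.and_eq_true] at this
    exact ⟨mulI i j, mul_lt hi hj, impB_spec (allBelow_spec this.1.1.2 j hj) h2,
      by rw [h.mul i hi j hj, e1, e2]⟩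
  inv_mem' := fun {a} ⟨i, hi, h1, e1⟩ => by
    have := impB_spec (allBelow_spec eight_facts.1 i hi) h1
    simp only [Bool.and_eq_true] at this
    exact ⟨invI i, inv_lt hi, this.1.2, by rw [h.map_inv hi, e1]⟩

variable [Finite G]

/-- A gluing map preserving the subgroup of order eight makes that subgroup normal. -/
theorem EightGlue.normal {g : G} {F : ℕ} (h : Emb f s) (hE : EightGlue f g F) :
    h.eight.Normal := by
  obtain ⟨hu, hx, hxu, hz, ha, ho, -⟩ := const_facts
  obtain ⟨hEf, hz10, hE0, hEu, hEx, hEz, -, hPu, haxu, hau, haz⟩ := eight_facts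
  have hk8 := hE.eight
  simp only [eightOK, Bool.and_eq_true] at hk8
  obtain ⟨hk8a, hk8b⟩ := hk8
  have hgs : g * s * g⁻¹ = f xI := by rw [← h.map_u]; exact hE.gs
  have hgx : g * f xI * g⁻¹ = s := by rw [hE.gx, h.map_u]
  set N := Subgroup.normalizer (h.eight : Set G) with hN
  have hnorm : ∀ n : G, (∀ y ∈ h.eight, n * y * n⁻¹ ∈ h.eight) → n ∈ N := by
    intro n hn
    rw [hN, Subgroup.mem_normalizer_iff]
    intro y
    refine ⟨hn y, fun hy => ?_⟩
    have hinj : Function.Injective (fun e : h.eight => (⟨n * e * n⁻¹, hn e e.2⟩ : h.eight)) :=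
      fun a b e => Subtype.ext (by simpa using congrArg Subtype.val e)
    obtain ⟨e, he⟩ := (Finite.injective_iff_surjective.1 hinj) ⟨_, hy⟩
    have := congrArg Subtype.val he
    simp only [mul_left_inj, mul_right_inj] at this
    exact this ▸ e.2
  have hLN : Subgroup.centralizer ({s} : Set G) ≤ N := by
    intro y hy
    obtain ⟨l, hl, rfl⟩ := h.surj y (Subgroup.mem_centralizer_singleton_iff.mp hy)
    refine hnorm _ ?_
    rintro _ ⟨i, hi, hiE, rfl⟩
    have := impB_spec (allBelow_spec hEf i hi) hiE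
    simp only [Bool.and_eq_true] at this
    exact ⟨cjI l i, cj_lt hl hi, allBelow_spec this.2 l hl, h.map_cj hl hi⟩
  have hfN : ∀ {i}, i < 192 → f i ∈ N := fun hi =>
    hLN (Subgroup.mem_centralizer_singleton_iff.mpr (h.comm_s hi))
  have hgN : g ∈ N := by
    refine hnorm _ ?_
    rintro _ ⟨i, hi, hiE, rfl⟩
    have hiE' := hiE
    simp only [inE, Bool.or_eq_true, beq_spec] at hiE'
    rcases hiE' with (rfl | rfl) | h12
    · exact ⟨0, by norm_num, hE0, by rw [h.map_zero, mul_one, mul_inv_cancel]⟩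
    · exact ⟨xI, hx, hEx, hE.gs.symm⟩
    · have := impB_spec (allBelow_spec hEf i hi) hiE
      simp only [Bool.and_eq_true] at this
      obtain ⟨k, hk, rfl⟩ := exists_pelem hi this.1.1.1
      have hf := allBelow_spec hk8a k hk
      rw [Bool.and_eq_true] at hf
      have hf' := impB_spec hf.1 (beq_spec.2 h12)
      refine ⟨look F (pelem k), hE.lt k hk, ?_, (hE.conj k hk).symm⟩
      simp only [inE, Bool.or_eq_true, beq_spec] at hf' ⊢
      exact hf'.elim .inr fun e => .inl (.inr e)
  -- conjugation inside the centraliser of `s` reaches every member of a class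
  have hcl : ∀ {i c r : ℕ}, i < 192 → r < 192 → clsI i = c →
      ((c, r) = (10, zI) ∨ (c, r) = (11, oI) ∨ (c, r) = (12, xI)) →
      ∃ n ∈ N, n * f r * n⁻¹ = f i := fun hi hr hc hcr => by
    obtain ⟨l, hl, rfl⟩ := cls_conj hi hc hcr
    exact ⟨f l, hfN hl, (h.map_cj hl hr).symm⟩
  have hcls : ∀ i < 192, isInv i = true → inS i = true →
      ∃ n ∈ N, n * s * n⁻¹ = f i ∨ n * f zI * n⁻¹ = f i := by
    intro i hi hv _
    rcases inv_classes hi hv with e | e | e | e
    · exact ⟨1, one_mem _, .inl (by rw [e, h.map_u, one_mul, inv_one, mul_one])⟩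
    · obtain ⟨n, hn, hne⟩ := hcl hi hz e (.inl rfl)
      exact ⟨n, hn, .inr hne⟩
    · obtain ⟨k, hk, hkk⟩ := anyBelow_spec hk8b
      rw [Bool.and_eq_true, beq_spec, beq_spec] at hkk
      obtain ⟨a, han, hae⟩ := hcl hi ho e (.inr (.inl rfl))
      obtain ⟨b, hbn, hbe⟩ := hcl (pelem_spec hk).1 ho hkk.1 (.inr (.inl rfl))
      obtain ⟨c, hcn, hce⟩ := hcl (hE.lt k hk) hz hkk.2 (.inl rfl)
      refine ⟨a * b⁻¹ * g⁻¹ * c,
        mul_mem (mul_mem (mul_mem han (inv_mem hbn)) (inv_mem hgN)) hcn, .inr ?_⟩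
      calc a * b⁻¹ * g⁻¹ * c * f zI * (a * b⁻¹ * g⁻¹ * c)⁻¹
          = a * (b⁻¹ * (g⁻¹ * (c * f zI * c⁻¹) * g) * b) * a⁻¹ := by group
        _ = a * f oI * a⁻¹ := by rw [hce, ← hE.conj k hk, ← hbe]; group
        _ = f i := hae
    · obtain ⟨n, hn, hne⟩ := hcl hi hx e (.inr (.inr rfl))
      refine ⟨n * g, mul_mem hn hgN, .inl ?_⟩
      calc n * g * s * (n * g)⁻¹ = n * (g * s * g⁻¹) * n⁻¹ := by group
        _ = f i := by rw [hgs, hne]
  -- the centraliser of `z`
  have hCz : Subgroup.centralizer ({f zI} : Set G) ≤ N := by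
    set C := Subgroup.centralizer ({f zI} : Set G) with hC
    have hzs := h.comm_s hz
    have huC : s ∈ C := Subgroup.mem_centralizer_singleton_iff.mpr hzs.symm
    have hxC : f xI ∈ C := Subgroup.mem_centralizer_singleton_iff.mpr
      ((h.commI_iff hx hz).1 const_facts.2.2.2.2.2.2.2.2.2.2.2.2.2.2.2.2.2.2.1)
    let sc : C := ⟨s, huC⟩
    let xc : C := ⟨f xI, hxC⟩
    have hsc : orderOf sc = 2 := by rw [← Subgroup.orderOf_coe]; exact h.orderOf_s
    have hnx : ∀ c ∈ C, c * s * c⁻¹ ≠ f xI := by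
      intro c hc e
      obtain ⟨l, hl, hle⟩ := h.surj (g⁻¹ * c) (mul_inv_eq_iff_eq_mul.1 (by
        calc g⁻¹ * c * s * (g⁻¹ * c)⁻¹ = g⁻¹ * (c * s * c⁻¹) * g := by group
          _ = g⁻¹ * (g * s * g⁻¹) * g := by rw [e, hgs]
          _ = s := by group))
      have hce : c = g * f l := by rw [hle]; group
      have hcz := Subgroup.mem_centralizer_singleton_iff.mp hc
      have hzz : g * f (cjI l zI) * g⁻¹ = f zI := by
        rw [h.map_cj hl hz]
        calc g * (f l * f zI * (f l)⁻¹) * g⁻¹ = c * f zI * c⁻¹ := by rw [hce]; group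
          _ = f zI := mul_inv_eq_iff_eq_mul.2 hcz
      have hjx : f (cjI l zI) * f xI = f xI * f (cjI l zI) := by
        have h1 : f (cjI l zI) = g⁻¹ * f zI * g := by
          calc f (cjI l zI) = g⁻¹ * (g * f (cjI l zI) * g⁻¹) * g := by group
            _ = _ := by rw [hzz]
        have h2 : f xI = g⁻¹ * s * g := by rw [← hgx]; group
        rw [h1, h2]
        calc g⁻¹ * f zI * g * (g⁻¹ * s * g) = g⁻¹ * (f zI * s) * g := by group
          _ = g⁻¹ * (s * f zI) * g := by rw [hzs]
          _ = _ := by group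
      obtain ⟨k, hk, hke⟩ := exists_pelem (cj_lt hl hz) ((h.commI_iff (cj_lt hl hz) hx).2 hjx)
      have hf := allBelow_spec hk8a k hk
      rw [Bool.and_eq_true] at hf
      have := impB_spec hf.2 (beq_spec.2 (hke ▸ beq_spec.1 (allBelow_spec hz10 l hl)))
      rw [Bool.not_eq_true', beq_false_spec] at this
      apply this
      refine h.inj _ (hE.lt k hk) _ hz ?_
      rw [← hE.conj k hk, hke, hzz]
    have hiso : Cfsg.IsIsolated sc := by
      intro c hcomm
      have hcG : Commute s ((c : G) * s * (c : G)⁻¹) := congrArg Subtype.val hcomm.eq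
      obtain ⟨i, hi, hiv, hie⟩ := h.exists_invol (y := (c : G) * s * (c : G)⁻¹)
        (by rw [orderOf_conj]; exact h.orderOf_s) hcG.eq.symm
      have hiz : commI i zI = true := (h.commI_iff hi hz).2 (by
        rw [hie]
        exact Subgroup.mem_centralizer_singleton_iff.mp
          (mul_mem (mul_mem c.2 huC) (inv_mem c.2)))
      have hns : clsI i ≠ 10 := fun e => h.not_conj_ten hi hiv e
        (isConj_iff.mpr ⟨(c : G), hie.symm⟩)
      rcases Emb.s_type_list h hi hiv hiz hns with e | e | e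
      · apply Subtype.ext
        show (c : G) * s * (c : G)⁻¹ = s
        rw [← hie, e, h.map_u]
      · exact absurd (by rw [← hie, e]) (hnx c c.2)
      · refine absurd ?_ (hnx (f aI * (c : G)) (mul_mem (Subgroup.mem_centralizer_singleton_iff.mpr
          ((h.commI_iff ha hz).1 cz_facts.2.2.2.2.2.2.2.2.2.2.2.2.2.2.2.2.2.2.2.2.2.2.2)) c.2))
        calc f aI * (c : G) * s * (f aI * (c : G))⁻¹
            = f aI * ((c : G) * s * (c : G)⁻¹) * (f aI)⁻¹ := by group
          _ = f xI := by rw [← hie, e, ← h.map_cj ha hxu, haxu]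
    have hZ := CfsgLib.ZStar.inZStar_of_isolated hsc hiso
    -- the odd core is trivial
    haveI : Fact (Nat.Prime 2) := ⟨Nat.prime_two⟩
    have hodd : ∀ c ∈ Cfsg.pPrimeCore 2 C, ∀ v : ℕ, v = uI ∨ v = xI ∨ v = xuI →
        (c : G) * f v = f v * (c : G) → c = 1 := by
      intro c hc v hv hcv
      have hv192 : v < 192 := by rcases hv with rfl | rfl | rfl <;> assumption
      obtain ⟨n, -, hne⟩ : ∃ n ∈ N, n * s * n⁻¹ = f v := by
        rcases hv with rfl | rfl | rfl
        · exact ⟨1, one_mem _, by rw [h.map_u, one_mul, inv_one, mul_one]⟩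
        · exact ⟨g, hgN, hgs⟩
        · refine ⟨f aI * g, mul_mem (hfN ha) hgN, ?_⟩
          calc f aI * g * s * (f aI * g)⁻¹ = f aI * (g * s * g⁻¹) * (f aI)⁻¹ := by group
            _ = f xuI := by rw [hgs, ← h.map_cj ha hx, show cjI aI xI = xuI by decide +kernel]
      have hzv : f zI * f v = f v * f zI := by
        refine (h.commI_iff hz hv192).1 ?_
        rcases hv with rfl | rfl | rfl <;> decide +kernel
      obtain ⟨a, ha', hae⟩ := h.surj (n⁻¹ * c * n) (by
        rw [← hne] at hcv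
        calc n⁻¹ * c * n * s = n⁻¹ * (c * (n * s * n⁻¹)) * n := by group
          _ = n⁻¹ * (n * s * n⁻¹ * c) * n := by rw [hcv]
          _ = _ := by group)
      obtain ⟨w, hw, hwv, hwe⟩ := h.exists_invol (y := n⁻¹ * f zI * n)
        (by simpa using (orderOf_conj n⁻¹ (f zI)).trans h.zI_invol) (by
          rw [← hne] at hzv
          calc n⁻¹ * f zI * n * s = n⁻¹ * (f zI * (n * s * n⁻¹)) * n := by group
            _ = n⁻¹ * (n * s * n⁻¹ * f zI) * n := by rw [hzv]
            _ = _ := by group)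
      have hwu : w ≠ uI := fun e => by
        refine h.not_conj_s_z (isConj_iff.mpr ⟨n, ?_⟩)
        rw [← h.map_u, ← e, hwe]; group
      have haw : commI a w = true := (h.commI_iff ha' hw).2 (by
        rw [hae, hwe]
        calc n⁻¹ * c * n * (n⁻¹ * f zI * n) = n⁻¹ * ((c : G) * f zI) * n := by group
          _ = n⁻¹ * (f zI * (c : G)) * n := by
            rw [Subgroup.mem_centralizer_singleton_iff.mp c.2]
          _ = _ := by group)
      have h8 := congrArg f (cent_two_group hw hwv hwu ha' haw)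
      rw [h.mul _ (mul_lt (mul_lt ha' ha') (mul_lt ha' ha')) _
          (mul_lt (mul_lt ha' ha') (mul_lt ha' ha')),
        h.mul _ (mul_lt ha' ha') _ (mul_lt ha' ha'), h.mul _ ha' _ ha', h.map_zero, hae] at h8
      have hc8 : c ^ 8 = 1 := Subtype.ext (by
        rw [Subgroup.coe_pow, Subgroup.coe_one]
        calc (c : G) ^ 8 = n * ((n⁻¹ * c * n * (n⁻¹ * c * n) * (n⁻¹ * c * n * (n⁻¹ * c * n))) *
              (n⁻¹ * c * n * (n⁻¹ * c * n) * (n⁻¹ * c * n * (n⁻¹ * c * n)))) * n⁻¹ := by
              simp only [pow_succ, pow_zero, one_mul]; group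
          _ = 1 := by rw [h8, mul_one, mul_inv_cancel])
      have hd : orderOf c ∣ 2 ^ 3 := orderOf_dvd_of_pow_eq_one hc8
      obtain ⟨k, -, hk⟩ := (Nat.dvd_prime_pow Nat.prime_two).1 hd
      rcases k.eq_zero_or_pos with rfl | hk0
      · exact orderOf_eq_one_iff.1 (by simpa using hk)
      · exfalso
        have h2 : 2 ∣ orderOf c := hk ▸ dvd_pow_self 2 hk0.ne'
        exact CfsgLib.Constrained.pPrimeCore_not_dvd (p := 2)
          (h2.trans (Subgroup.orderOf_dvd_natCard _ hc))
    set O := Cfsg.pPrimeCore 2 C with hO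
    have hinvol : ∀ (v : C), v * v = 1 → (∀ c ∈ O, c * v = v * c → c = 1) →
        ∀ c ∈ O, v * c * v⁻¹ = c⁻¹ := by
      intro v hv hfix c hc
      -- every element of the core is `d⁻¹ * v d v⁻¹`
      have hmemO : ∀ d ∈ O, d⁻¹ * (v * d * v⁻¹) ∈ O := fun d hd =>
        mul_mem (inv_mem hd) ((inferInstance : O.Normal).conj_mem d hd v)
      have hinj : Function.Injective (fun d : O => (⟨(d : C)⁻¹ * (v * d * v⁻¹), hmemO d d.2⟩ : O)) := by
        intro a b e
        have e' : (a : C)⁻¹ * (v * a * v⁻¹) = (b : C)⁻¹ * (v * b * v⁻¹) := congrArg Subtype.val e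
        refine Subtype.ext (mul_inv_eq_one.1 (hfix _ (mul_mem b.2 (inv_mem a.2)) ?_)).symm
        calc (b : C) * (a : C)⁻¹ * v = (b : C) * ((a : C)⁻¹ * (v * a * v⁻¹)) * v * (a : C)⁻¹ := by
              group
          _ = (b : C) * ((b : C)⁻¹ * (v * b * v⁻¹)) * v * (a : C)⁻¹ := by rw [e']
          _ = v * ((b : C) * (a : C)⁻¹) := by group
      obtain ⟨d, hd⟩ := (Finite.injective_iff_surjective.1 hinj) ⟨c, hc⟩
      have hdc : (d : C)⁻¹ * (v * d * v⁻¹) = c := congrArg Subtype.val hd
      have hvi : v⁻¹ = v := inv_eq_of_mul_eq_one_right hv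
      rw [← hdc, hvi]
      calc v * ((d : C)⁻¹ * (v * d * v)) * v = v * (d : C)⁻¹ * v * d * (v * v) := by group
        _ = ((d : C)⁻¹ * (v * d * v))⁻¹ := by
          rw [hv, mul_one, mul_inv_rev, mul_inv_rev, mul_inv_rev, inv_inv, hvi]; group
    let xuc : C := sc * xc
    have hxus : (xuc : G) = f xuI := by
      show s * f xI = f xuI
      rw [← h.map_u, ← h.mul _ hu _ hx, const_facts.2.2.2.2.2.2.2.2.2.2.2.2.2.2.2.2.2.2.2]
    have hsq : ∀ (v : C) (k : ℕ), k < 192 → isInv k = true → (v : G) = f k → v * v = 1 :=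
      fun v k hk hkv e => Subtype.ext (by
        show (v : G) * v = 1
        rw [e]; exact (orderOf_two_iff.1 (h.orderOf_invol hk hkv)).1)
    have i1 := hinvol sc
      (hsq sc uI hu const_facts.2.2.2.2.2.2.2.2.1 h.map_u.symm)
      fun c hc e => hodd c hc uI (.inl rfl) (by
        have := congrArg Subtype.val e
        rw [h.map_u]; exact this)
    have i2 := hinvol xc (hsq xc xI hx const_facts.2.2.2.2.2.2.2.2.2.2.2.2.2.1 rfl)
      fun c hc e => hodd c hc xI (.inr (.inl rfl)) (congrArg Subtype.val e)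
    have hO1 : ∀ c ∈ O, c = 1 := by
      intro c hc
      refine hodd c hc xuI (.inr (.inr rfl)) ?_
      have e1 : xuc * c * xuc⁻¹ = c := by
        calc xuc * c * xuc⁻¹ = sc * (xc * c * xc⁻¹) * sc⁻¹ := by
              show sc * xc * c * (sc * xc)⁻¹ = _
              group
          _ = (sc * c * sc⁻¹)⁻¹ := by rw [i2 c hc]; group
          _ = c := by rw [i1 c hc, inv_inv]
      have := congrArg Subtype.val (mul_inv_eq_iff_eq_mul.1 e1)
      rw [← hxus]
      exact this.symm
    intro y hy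
    refine hLN (Subgroup.mem_centralizer_singleton_iff.mpr ?_)
    have := congrArg Subtype.val (hO1 _ (hZ ⟨y, hy⟩))
    simp only [Subgroup.coe_mul, Subgroup.coe_inv, Subgroup.coe_one, sc] at this
    exact mul_inv_eq_iff_eq_mul.1 (mul_inv_eq_one.1 this)
  -- conclusion
  exact Subgroup.normalizer_eq_top_iff.1 (h.eq_top N hcls hLN hCz)

/-- The gluing map preserving the subgroup of order eight does not occur in a simple group. -/
theorem EightGlue.false [IsSimpleGroup G] {g : G} {F : ℕ} (h : Emb f s) (hE : EightGlue f g F) :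
    False := by
  obtain ⟨hu, -, -, hz, -⟩ := const_facts
  rcases (hE.normal h).eq_bot_or_eq_top with e | e
  · have hs : s ∈ h.eight := ⟨uI, hu, eight_facts.2.2.2.1, h.map_u⟩
    rw [e, Subgroup.mem_bot] at hs
    exact (orderOf_two_iff.1 h.orderOf_s).2 hs
  · have hzE : f zI ∈ h.eight := e ▸ Subgroup.mem_top _
    obtain ⟨i, hi, hiE, hie⟩ := hzE
    rw [h.inj i hi zI hz hie, eight_facts.2.2.2.2.2.1] at hiE
    exact absurd hiE (by simp)

end CfsgLib.M12Type
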