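import Cfsg.Agent.M12Type.Classes
import Cfsg.Agent.M12Type.NormalEight
import Cfsg.Agent.M12Type.Model

/-!
A simple group with this involution centraliser is the Mathieu group of degree 12, apart from the
small case handled separately.
-/

set_option autoImplicit false

namespace CfsgLib.M12Type

universe u

variable {G : Type u} [Group G] [Finite G] {f : ℕ → G} {s : G}

theorem Glue.closure_eq_top {g t : G} (h : Emb f s) (hg : Glue f g)
    (hCz : Subgroup.centralizer ({f zI} : Set G) ≤ Subgroup.closure {f 1, f 2, g, t}) :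
    Subgroup.closure ({f 1, f 2, g, t} : Set G) = ⊤ := by
  set H := Subgroup.closure ({f 1, f 2, g, t} : Set G)
  have hfH : ∀ {i}, i < 192 → f i ∈ H := fun hi => Emb.mem_closure h hg _ hi t
  have hgH : g ∈ H := Subgroup.subset_closure (by simp)
  obtain ⟨hu, hx, -, hz, -, ho, -⟩ := const_facts
  have hxs : g * s * g⁻¹ = f xI := by
    rw [inv_eq_of_mul_eq_one_right hg.gg, hg.gs h]
  refine h.eq_top H (fun i hi hv _ => ?_) (fun y hy => ?_) hCz
  · have hcl : ∀ {c r : ℕ}, r < 192 → clsI i = c →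
        ((c, r) = (10, zI) ∨ (c, r) = (11, oI) ∨ (c, r) = (12, xI)) →
        ∃ n ∈ H, n * f r * n⁻¹ = f i := fun hr hc hcr => by
      obtain ⟨l, hl, rfl⟩ := cls_conj hi hc hcr
      exact ⟨f l, hfH hl, (h.map_cj hl hr).symm⟩
    rcases inv_classes hi hv with e | e | e | e
    · exact ⟨1, one_mem _, .inl (by rw [e, h.map_u, one_mul, inv_one, mul_one])⟩
    · obtain ⟨n, hn, hne⟩ := hcl hz e (.inl rfl)
      exact ⟨n, hn, .inr hne⟩
    · obtain ⟨k, hk, hkk⟩ := anyBelow_spec eleven_facts.2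
      rw [Bool.and_eq_true, beq_spec, beq_spec] at hkk
      obtain ⟨a, han, hae⟩ := hcl ho e (.inr (.inl rfl))
      obtain ⟨hk1, hk2, -⟩ := pelem_spec hk
      obtain ⟨l, hl, hle⟩ := cls_conj hk1 hkk.1 (.inr (.inl rfl))
      obtain ⟨m, hm, hme⟩ := cls_conj (std_spec hk).1 hkk.2 (.inr (.inr rfl))
      refine ⟨a * (f l)⁻¹ * g⁻¹ * f m * g,
        mul_mem (mul_mem (mul_mem (mul_mem han (inv_mem (hfH hl))) (inv_mem hgH)) (hfH hm)) hgH,
        .inl ?_⟩
      have e1 : f m * f xI * (f m)⁻¹ = g * f (pelem k) * g⁻¹ := by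
        rw [← h.map_cj hm hx, hme, inv_eq_of_mul_eq_one_right hg.gg, hg.conj _ hk1 hk2]
      have e2 : f l * f oI * (f l)⁻¹ = f (pelem k) := by rw [← h.map_cj hl ho, hle]
      calc a * (f l)⁻¹ * g⁻¹ * f m * g * s * (a * (f l)⁻¹ * g⁻¹ * f m * g)⁻¹
          = a * ((f l)⁻¹ * (g⁻¹ * (f m * (g * s * g⁻¹) * (f m)⁻¹) * g) * f l) * a⁻¹ := by group
        _ = a * f oI * a⁻¹ := by rw [hxs, e1, ← e2]; group
        _ = f i := hae
    · obtain ⟨n, hn, hne⟩ := hcl hx e (.inr (.inr rfl))
      refine ⟨n * g, mul_mem hn hgH, .inl ?_⟩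
      calc n * g * s * (n * g)⁻¹ = n * (g * s * g⁻¹) * n⁻¹ := by group
        _ = f i := by rw [hxs, hne]
  · obtain ⟨i, hi, rfl⟩ := h.surj y (Subgroup.mem_centralizer_singleton_iff.mp hy)
    exact hfH hi

/-- The recognition, given the exclusion of the small case. -/
theorem Emb.isoM12_or_eightGlue (h : Emb f s) (hsx : IsConj s (f xI))
    (h48 : ∀ (f' : ℕ → G) (g : G), Emb f' s → Glue f' g →
      Nat.card (Subgroup.centralizer ({f' zI} : Set G)) = 48 →
      (∀ y : G, IsConj s y → y * f' zI = f' zI * y → y = s ∨ y = f' xI ∨ y = f' xuI) → False) :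
    Cfsg.Spor.IsoM12 G ∨ ∃ g F, EightGlue f g F := by
  haveI : Nontrivial G := ⟨⟨s, 1, fun e => by
    have := h.orderOf_s
    rw [e, orderOf_one] at this
    norm_num at this⟩⟩
  rcases h.exists_glue hsx with hE | ⟨f', g, hf, hg⟩
  · exact .inr hE
  refine .inl ?_
  rcases (hg.cz hf).alt with ⟨-, t, ht, hfus, hgen⟩ | ⟨hc, htr⟩
  · have htop := hg.closure_eq_top hf hgen
    rcases hfus with hfus | hfus
    · exact isoM12_of_sat hf (hf.sat hg ht (.inl rfl) hfus) htop
    · exfalso
      have hcomm := comm_of_badRel hf (hf.sat hg ht (.inr rfl) hfus)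
      have e : f' xI = s := by
        rw [← hg.gs hf, hcomm, mul_assoc, hg.gg, mul_one]
      have := hf.inj xI const_facts.2.1 uI const_facts.1 (e.trans hf.map_u.symm)
      revert this
      decide +kernel
  · exact (h48 f' g hf hg hc htr).elim

/-- The recognition for simple groups, given the exclusion of the small case. -/
theorem Emb.isoM12 [IsSimpleGroup G] (h : Emb f s)
    (h48 : ∀ (f' : ℕ → G) (g : G), Emb f' s → Glue f' g →
      Nat.card (Subgroup.centralizer ({f' zI} : Set G)) = 48 →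
      (∀ y : G, IsConj s y → y * f' zI = f' zI * y → y = s ∨ y = f' xI ∨ y = f' xuI) → False) :
    Cfsg.Spor.IsoM12 G :=
  (h.isoM12_or_eightGlue h.isConj_x h48).resolve_right fun ⟨_, _, hE⟩ => hE.false h

end CfsgLib.M12Type
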