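import Mathlib

/-!
Groups generated by two commuting quaternion groups, an element of order three and an involution
inverting it: at most 192 elements, and determined by the relations.
-/

set_option autoImplicit false

namespace CfsgLib.M12Type

/-- A central product of two quaternion groups with an element of order three moving both and an
involution inverting it, with prescribed images. -/
structure QuatRels {G : Type*} [Group G] (s a b c d r n e na nb nc nd : G) : Prop where
  s_sq : s * s = 1
  a_sq : a * a = s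
  b_sq : b * b = s
  c_sq : c * c = s
  d_sq : d * d = s
  ba : b * a * b⁻¹ = a * s
  dc : d * c * d⁻¹ = c * s
  ac : a * c = c * a
  ad : a * d = d * a
  bc : b * c = c * b
  bd : b * d = d * b
  r_cube : r * r * r = 1
  ra : r * a * r⁻¹ = b
  rb : r * b * r⁻¹ = a * b
  rc : r * c * r⁻¹ = d
  rd : r * d * r⁻¹ = e
  ns : n * s = s * n
  n_sq : n * n = 1
  nr : n * r * n⁻¹ = r⁻¹
  n_a : n * a * n⁻¹ = na
  n_b : n * b * n⁻¹ = nb
  n_c : n * c * n⁻¹ = nc
  n_d : n * d * n⁻¹ = nd
  e_mem : e ∈ Subgroup.closure ({c, d} : Set G)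
  na_mem : na ∈ Subgroup.closure ({a, b, c, d} : Set G)
  nb_mem : nb ∈ Subgroup.closure ({a, b, c, d} : Set G)
  nc_mem : nc ∈ Subgroup.closure ({a, b, c, d} : Set G)
  nd_mem : nd ∈ Subgroup.closure ({a, b, c, d} : Set G)

/-- The first type: the involution normalises both quaternion groups. -/
def RelsFix {G : Type*} [Group G] (s a b c d r n : G) : Prop :=
  QuatRels s a b c d r n (c * d) (a * s) (a * b * s) (c * s) (c * d * s)

/-- The second type: the involution exchanges the quaternion groups. -/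
def RelsSwap {G : Type*} [Group G] (s a b c d r n : G) : Prop :=
  QuatRels s a b c d r n (d * c) c (d * c) a (a * b)


/-- The value of a word in seven letters. -/
def weval {G : Type*} [Group G] (p : ℕ → G) (w : List ℕ) : G := (w.map p).prod

/-- Word equations. -/
def Eqs {G : Type*} [Group G] (p : ℕ → G) (L : List (List ℕ × List ℕ)) : Prop :=
  ∀ w ∈ L, weval p w.1 = weval p w.2

/-- The equations common to both types, on the letters `s a b c d r n`. -/
def quatEqs : List (List ℕ × List ℕ) :=
  [([0, 0], []), ([1, 1], [0]), ([2, 2], [0]), ([3, 3], [0]), ([4, 4], [0]), ([2, 1], [1, 0, 2]),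
    ([4, 3], [3, 0, 4]), ([1, 3], [3, 1]), ([1, 4], [4, 1]), ([2, 3], [3, 2]), ([2, 4], [4, 2]),
    ([5, 5, 5], []), ([5, 1], [2, 5]), ([5, 2], [1, 2, 5]), ([5, 3], [4, 5]), ([6, 0], [0, 6]),
    ([6, 6], []), ([6, 5], [5, 5, 6])]

/-- The equations of the first type. -/
def fixEqs : List (List ℕ × List ℕ) :=
  quatEqs ++ [([5, 4], [3, 4, 5]), ([6, 1], [1, 0, 6]), ([6, 2], [1, 2, 0, 6]), ([6, 3], [3, 0, 6]),
    ([6, 4], [3, 4, 0, 6])]

/-- The equations of the second type. -/
def swapEqs : List (List ℕ × List ℕ) :=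
  quatEqs ++ [([5, 4], [4, 3, 5]), ([6, 1], [3, 6]), ([6, 2], [4, 3, 6]), ([6, 3], [1, 6]),
    ([6, 4], [1, 2, 6])]

theorem Eqs.prod {G M : Type*} [Group G] [Group M] {p : ℕ → G} {q : ℕ → M}
    {L : List (List ℕ × List ℕ)} (hp : Eqs p L) (hq : Eqs q L) :
    Eqs (fun x => (p x, q x)) L := by
  have key : ∀ w : List ℕ, weval (fun x => (p x, q x)) w = (weval p w, weval q w) := by
    intro w
    induction w with
    | nil => rfl
    | cons x w ih => simp only [weval, List.map_cons, List.prod_cons] at ih ⊢; rw [ih]; rfl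
  intro w hw
  rw [key, key, hp w hw, hq w hw]

theorem conj_eq_of {G : Type*} [Group G] {x y z : G} (h : x * y = z * x) : x * y * x⁻¹ = z := by
  rw [h, mul_inv_cancel_right]

/-- The word equations give the relations, first type. -/
theorem Eqs.relsFix {G : Type*} [Group G] {p : ℕ → G} (h : Eqs p fixEqs) :
    RelsFix (p 0) (p 1) (p 2) (p 3) (p 4) (p 5) (p 6) := by
  simp only [fixEqs, quatEqs, List.cons_append, List.nil_append, List.forall_mem_cons,
    List.not_mem_nil, Eqs, weval, List.map_cons, List.map_nil, List.prod_cons,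
    List.prod_nil, mul_one, IsEmpty.forall_iff, forall_const, and_true, ← mul_assoc] at h
  obtain ⟨e0, e1, e2, e3, e4, e5, e6, e7, e8, e9, e10, e11, e12, e13, e14, e15, e16, e17, f1, f2, f3,
    f4, f5⟩ := h
  have hcl : ∀ {y : G}, y ∈ ({p 1, p 2, p 3, p 4} : Set G) →
      y ∈ Subgroup.closure ({p 1, p 2, p 3, p 4} : Set G) := fun hy => Subgroup.subset_closure hy
  have hs : p 0 ∈ Subgroup.closure ({p 1, p 2, p 3, p 4} : Set G) := by
    rw [← e1]; exact mul_mem (hcl (by simp)) (hcl (by simp))
  exact ⟨e0, e1, e2, e3, e4, conj_eq_of e5, conj_eq_of e6, e7, e8, e9, e10, e11, conj_eq_of e12,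
    conj_eq_of e13, conj_eq_of e14, conj_eq_of f1, e15, e16,
    (conj_eq_of e17).trans (eq_inv_of_mul_eq_one_left e11),
    conj_eq_of f2, conj_eq_of f3, conj_eq_of f4, conj_eq_of f5,
    mul_mem (Subgroup.subset_closure (by simp)) (Subgroup.subset_closure (by simp)),
    mul_mem (hcl (by simp)) hs, mul_mem (mul_mem (hcl (by simp)) (hcl (by simp))) hs,
    mul_mem (hcl (by simp)) hs, mul_mem (mul_mem (hcl (by simp)) (hcl (by simp))) hs⟩

/-- The word equations give the relations, second type. -/
theorem Eqs.relsSwap {G : Type*} [Group G] {p : ℕ → G} (h : Eqs p swapEqs) :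
    RelsSwap (p 0) (p 1) (p 2) (p 3) (p 4) (p 5) (p 6) := by
  simp only [swapEqs, quatEqs, List.cons_append, List.nil_append, List.forall_mem_cons,
    List.not_mem_nil, Eqs, weval, List.map_cons, List.map_nil, List.prod_cons,
    List.prod_nil, mul_one, IsEmpty.forall_iff, forall_const, and_true, ← mul_assoc] at h
  obtain ⟨e0, e1, e2, e3, e4, e5, e6, e7, e8, e9, e10, e11, e12, e13, e14, e15, e16, e17, f1, f2, f3,
    f4, f5⟩ := h
  have hcl : ∀ {y : G}, y ∈ ({p 1, p 2, p 3, p 4} : Set G) →
      y ∈ Subgroup.closure ({p 1, p 2, p 3, p 4} : Set G) := fun hy => Subgroup.subset_closure hy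
  exact ⟨e0, e1, e2, e3, e4, conj_eq_of e5, conj_eq_of e6, e7, e8, e9, e10, e11, conj_eq_of e12,
    conj_eq_of e13, conj_eq_of e14, conj_eq_of f1, e15, e16,
    (conj_eq_of e17).trans (eq_inv_of_mul_eq_one_left e11),
    conj_eq_of f2, conj_eq_of f3, conj_eq_of f4, conj_eq_of f5,
    mul_mem (Subgroup.subset_closure (by simp)) (Subgroup.subset_closure (by simp)),
    hcl (by simp), mul_mem (hcl (by simp)) (hcl (by simp)),
    hcl (by simp), mul_mem (hcl (by simp)) (hcl (by simp))⟩

namespace Pair192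

/-- Adjoining a normalising element with a power inside. -/
theorem card_insert_le {G : Type*} [Group G] (S : Set G) (x : G) (m k : ℕ) (hm : 0 < m)
    (hk : Nat.card (Subgroup.closure S) ≤ k) (hfin : Finite (Subgroup.closure S))
    (hx : x ^ m ∈ Subgroup.closure S) (hconj : ∀ y ∈ S, x * y * x⁻¹ ∈ Subgroup.closure S) :
    Nat.card (Subgroup.closure (insert x S)) ≤ k * m ∧
      Finite (Subgroup.closure (insert x S)) := by
  set K := Subgroup.closure S with hK
  have hall : ∀ y ∈ K, x * y * x⁻¹ ∈ K := by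
    intro y hy
    induction hy using Subgroup.closure_induction with
    | mem y hy => exact hconj y hy
    | one => rw [mul_one, mul_inv_cancel]; exact one_mem _
    | mul y z _ _ h1 h2 =>
      rw [show x * (y * z) * x⁻¹ = x * y * x⁻¹ * (x * z * x⁻¹) by group]
      exact mul_mem h1 h2
    | inv y _ h =>
      rw [show x * y⁻¹ * x⁻¹ = (x * y * x⁻¹)⁻¹ by group]
      exact inv_mem h
  let P : Set G := Set.range fun p : K × Fin m => (p.1 : G) * x ^ (p.2 : ℕ)
  haveI : Finite (K × Fin m) := inferInstance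
  have hP : P.Finite := Set.finite_range _
  have hleft : ∀ g ∈ insert x S, Set.MapsTo (g * ·) P P := by
    rintro g hg _ ⟨⟨y, i⟩, rfl⟩
    rcases hg with rfl | hg
    · by_cases hi : (i : ℕ) + 1 < m
      · refine ⟨(⟨_, hall y y.2⟩, ⟨(i : ℕ) + 1, hi⟩), ?_⟩
        show g * (y : G) * g⁻¹ * g ^ ((i : ℕ) + 1) = g * ((y : G) * g ^ (i : ℕ))
        rw [pow_succ']; group
      · have hi' : (i : ℕ) + 1 = m := by omega
        refine ⟨(⟨g * (y : G) * g⁻¹ * g ^ m, mul_mem (hall y y.2) hx⟩, ⟨0, hm⟩), ?_⟩
        show g * (y : G) * g⁻¹ * g ^ m * g ^ 0 = g * ((y : G) * g ^ (i : ℕ))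
        rw [show g ^ m = g ^ ((i : ℕ) + 1) by rw [hi'], pow_succ', pow_zero, mul_one]; group
    · exact ⟨(⟨g, Subgroup.subset_closure hg⟩ * y, i), by simp [mul_assoc]⟩
  have hone : (1 : G) ∈ P := ⟨(1, ⟨0, hm⟩), by simp⟩
  have hsub : (Subgroup.closure (insert x S) : Set G) ⊆ P := by
    intro g hg
    induction hg using Subgroup.closure_induction_left with
    | one => exact hone
    | mul_left g hg y _ hy => exact hleft g hg hy
    | inv_mul_cancel g hg y _ hy =>
      obtain ⟨y', hy', e⟩ := ((hP.injOn_iff_bijOn_of_mapsTo (hleft g hg)).1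
        (mul_right_injective g).injOn).surjOn hy
      rw [← e]
      simpa using hy'
  have hfin' : Finite (Subgroup.closure (insert x S)) := (hP.subset hsub).to_subtype
  refine ⟨?_, hfin'⟩
  calc Nat.card (Subgroup.closure (insert x S)) ≤ P.ncard :=
        (Nat.card_coe_set_eq _).le.trans (Set.ncard_le_ncard hsub hP)
    _ ≤ Nat.card (K × Fin m) := by
        rw [← Nat.card_coe_set_eq]
        exact Finite.card_range_le _
    _ ≤ k * m := by rw [Nat.card_prod, Nat.card_fin]; exact Nat.mul_le_mul_right _ hk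

variable {G : Type*} [Group G] {s a b c d r n e na nb nc nd : G}
variable (h : QuatRels s a b c d r n e na nb nc nd)
include h

theorem comm_r : r * s * r⁻¹ = s := by
  rw [← h.a_sq, show r * (a * a) * r⁻¹ = r * a * r⁻¹ * (r * a * r⁻¹) by group, h.ra, h.b_sq, h.a_sq]

theorem card_le :
    Nat.card (Subgroup.closure ({n, r, d, c, b, a, s} : Set G)) ≤ 192 ∧
      Finite (Subgroup.closure ({n, r, d, c, b, a, s} : Set G)) := by
  have hsa : a * s * a⁻¹ = s := by rw [← h.a_sq]; group
  have hsb : b * s * b⁻¹ = s := by rw [← h.b_sq]; group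
  have hsc : c * s * c⁻¹ = s := by rw [← h.c_sq]; group
  have hsd : d * s * d⁻¹ = s := by rw [← h.d_sq]; group
  have mem : ∀ {S : Set G} {y : G}, y ∈ S → y ∈ Subgroup.closure S := fun hy =>
    Subgroup.subset_closure hy
  have h0 : Nat.card (Subgroup.closure ({s} : Set G)) ≤ 2 ∧
      Finite (Subgroup.closure ({s} : Set G)) := by
    rw [← Subgroup.zpowers_eq_closure, Nat.card_zpowers]
    have hs : s ^ 2 = 1 := by rw [pow_two, h.s_sq]
    exact ⟨orderOf_le_of_pow_eq_one (by norm_num) hs,
      (finite_zpowers.2 (isOfFinOrder_iff_pow_eq_one.2 ⟨2, by norm_num, hs⟩)).to_subtype⟩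
  have h1 := card_insert_le {s} a 2 2 (by norm_num) h0.1 h0.2
    (by rw [pow_two, h.a_sq]; exact mem rfl)
    (by rintro y rfl; rw [hsa]; exact mem rfl)
  have h2 := card_insert_le {a, s} b 2 _ (by norm_num) h1.1 h1.2
    (by rw [pow_two, h.b_sq]; exact mem (by simp))
    (by
      rintro y (rfl | rfl)
      · rw [h.ba]; exact mul_mem (mem (by simp)) (mem (by simp))
      · rw [hsb]; exact mem (by simp))
  have h3 := card_insert_le {b, a, s} c 2 _ (by norm_num) h2.1 h2.2
    (by rw [pow_two, h.c_sq]; exact mem (by simp))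
    (by
      rintro y (rfl | rfl | rfl)
      · rw [← h.bc, mul_inv_cancel_right]; exact mem (by simp)
      · rw [← h.ac, mul_inv_cancel_right]; exact mem (by simp)
      · rw [hsc]; exact mem (by simp))
  have h4 := card_insert_le {c, b, a, s} d 2 _ (by norm_num) h3.1 h3.2
    (by rw [pow_two, h.d_sq]; exact mem (by simp))
    (by
      rintro y (rfl | rfl | rfl | rfl)
      · rw [h.dc]; exact mul_mem (mem (by simp)) (mem (by simp))
      · rw [← h.bd, mul_inv_cancel_right]; exact mem (by simp)
      · rw [← h.ad, mul_inv_cancel_right]; exact mem (by simp)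
      · rw [hsd]; exact mem (by simp))
  have hcd : Subgroup.closure ({c, d} : Set G) ≤ Subgroup.closure ({d, c, b, a, s} : Set G) :=
    Subgroup.closure_mono (by rintro y (rfl | rfl) <;> simp)
  have habcd : Subgroup.closure ({a, b, c, d} : Set G) ≤
      Subgroup.closure ({r, d, c, b, a, s} : Set G) :=
    Subgroup.closure_mono (by rintro y (rfl | rfl | rfl | rfl) <;> simp)
  have h5 := card_insert_le {d, c, b, a, s} r 3 _ (by norm_num) h4.1 h4.2
    (by rw [pow_succ, pow_two, h.r_cube]; exact one_mem _)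
    (by
      rintro y (rfl | rfl | rfl | rfl | rfl)
      · rw [h.rd]; exact hcd h.e_mem
      · rw [h.rc]; exact mem (by simp)
      · rw [h.rb]; exact mul_mem (mem (by simp)) (mem (by simp))
      · rw [h.ra]; exact mem (by simp)
      · rw [comm_r h]; exact mem (by simp))
  have h6 := card_insert_le {r, d, c, b, a, s} n 2 _ (by norm_num) h5.1 h5.2
    (by rw [pow_two, h.n_sq]; exact one_mem _)
    (by
      rintro y (rfl | rfl | rfl | rfl | rfl | rfl)
      · rw [h.nr]; exact inv_mem (mem (by simp))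
      · rw [h.n_d]; exact habcd h.nd_mem
      · rw [h.n_c]; exact habcd h.nc_mem
      · rw [h.n_b]; exact habcd h.nb_mem
      · rw [h.n_a]; exact habcd h.na_mem
      · rw [h.ns, mul_inv_cancel_right]; exact mem (by simp))
  exact h6

omit h in
/-- A group with the relations receives the numbered group in which they hold. -/
theorem transfer {M : Type*} [Group M] (v : ℕ → M) (N : ℕ) (hN : N = 192) (mulT : ℕ → ℕ → ℕ)
    (hT : ∀ i < N, ∀ j < N, mulT i j < N)
    (hmul : ∀ i < N, ∀ j < N, v (mulT i j) = v i * v j)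
    (hinj : ∀ i < N, ∀ j < N, v i = v j → i = j) {u : ℕ} (hu : u < N)
    {a' b' c' d' r' n' e' na' nb' nc' nd' : M}
    (hg : QuatRels s a b c d r n e na nb nc nd)
    (hm : QuatRels (v u) a' b' c' d' r' n' e' na' nb' nc' nd')
    (hp : QuatRels (s, v u) (a, a') (b, b') (c, c') (d, d') (r, r') (n, n') (e, e') (na, na')
      (nb, nb') (nc, nc') (nd, nd'))
    (hcov : ∀ i < N, v i ∈ Subgroup.closure ({n', r', d', c', b', a', v u} : Set M)) :
    ∃ f : ℕ → G, f u = s ∧ (∀ i < N, ∀ j < N, f (mulT i j) = f i * f j) ∧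
      (∀ y ∈ Subgroup.closure ({n, r, d, c, b, a, s} : Set G), ∃ i < N, f i = y) ∧
      ∀ g i, i < N → (g, v i) ∈ ({(n, n'), (r, r'), (d, d'), (c, c'), (b, b'), (a, a'), (s, v u)} :
        Set (G × M)) → f i = g := by
  classical
  subst hN
  obtain ⟨hle, hfin⟩ := card_le hp
  set H := Subgroup.closure
    ({(n, n'), (r, r'), (d, d'), (c, c'), (b, b'), (a, a'), (s, v u)} : Set (G × M))
  have hmap : ∀ i, i < 192 → ∃ g : G, (g, v i) ∈ H := by
    intro i hi
    have : v i ∈ H.map (MonoidHom.snd G M) := by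
      rw [MonoidHom.map_closure]
      simp only [Set.image_insert_eq, Set.image_singleton]
      exact hcov i hi
    obtain ⟨⟨g, m⟩, hgm, rfl⟩ := this
    exact ⟨g, hgm⟩
  choose! f hf using hmap
  let φ : Fin 192 → H := fun i => ⟨(f i, v i), hf i i.2⟩
  have hφ : Function.Injective φ := fun i j e => Fin.ext
    (hinj i i.2 j j.2 (congrArg (fun q : H => q.1.2) e))
  haveI : Finite H := hfin
  have hb : Function.Bijective φ := (Nat.bijective_iff_injective_and_card φ).2
    ⟨hφ, le_antisymm (Nat.card_le_card_of_injective φ hφ)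
      (by rw [Nat.card_fin]; exact hle)⟩
  have huniq : ∀ g i, i < 192 → (g, v i) ∈ H → g = f i := by
    intro g i hi hgi
    obtain ⟨j, hj⟩ := hb.2 ⟨(g, v i), hgi⟩
    have e := congrArg Subtype.val hj
    have : (j : ℕ) = i := hinj j j.2 i hi (congrArg Prod.snd e)
    rw [← this]
    exact (congrArg Prod.fst e).symm
  refine ⟨f, (huniq s u hu (Subgroup.subset_closure (by simp))).symm, fun i hi j hj => ?_,
    fun y hy => ?_, fun g i hi hg => (huniq g i hi (Subgroup.subset_closure hg)).symm⟩
  · refine (huniq _ _ (hT i hi j hj) ?_).symm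
    rw [hmul i hi j hj]
    exact mul_mem (hf i hi) (hf j hj)
  · have : y ∈ H.map (MonoidHom.fst G M) := by
      rw [MonoidHom.map_closure]
      simp only [Set.image_insert_eq, Set.image_singleton]
      exact hy
    obtain ⟨w, hw, rfl⟩ := this
    obtain ⟨i, hi⟩ := hb.2 ⟨w, hw⟩
    exact ⟨i, i.2, congrArg (fun q : H => q.1.1) hi⟩

end Pair192

end CfsgLib.M12Type
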