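import Cfsg.Agent.M12Type.Glue

/-!
The relators hold for a gluing element and a fifth letter.
-/

set_option autoImplicit false

namespace CfsgLib.M12Type

open CfsgLib.CosetEnum (gword gword_cons gword_nil)

variable {G : Type*} [Group G] {f : ℕ → G} {s : G}

theorem gword_app {H : Type*} [Group H] (v : ℕ → H) (a b : List ℕ) :
    gword v (a ++ b) = gword v a * gword v b := by simp [gword]

/-- the index of a word in the first four letters -/
noncomputable def idxW : List ℕ → ℕ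
  | [] => 0
  | x :: w => mulI ([1, invI 1, 2, invI 2].getD x 0) (idxW w)

theorem idx_letter_lt (x : ℕ) : [1, invI 1, 2, invI 2].getD x 0 < 192 := by
  rcases x with _ | _ | _ | _ | x <;> simp [inv_lt]

theorem idxW_lt : ∀ w : List ℕ, idxW w < 192
  | [] => by norm_num [idxW]
  | x :: w => mul_lt (idx_letter_lt x) (idxW_lt w)

theorem Emb.gword_small (h : Emb f s) (g t : G) :
    ∀ w : List ℕ, (w.all fun x => Nat.blt x 4) = true → gword (lets f g t) w = f (idxW w)
  | [], _ => by rw [gword_nil, idxW, h.map_zero]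
  | x :: w, hw => by
    rw [List.all_cons, Bool.and_eq_true, blt_spec] at hw
    rw [gword_cons, h.gword_small g t w hw.2, idxW, h.mul _ (idx_letter_lt x) _ (idxW_lt w)]
    congr 1
    have h1 : (1 : ℕ) < 192 := by norm_num
    have h2 : (2 : ℕ) < 192 := by norm_num
    obtain ⟨hx, -⟩ := hw
    interval_cases x <;> simp [lets, h.map_inv h1, h.map_inv h2]

/-- the element of order three of `C(z)` outside the centraliser of `s` -/
noncomputable def rhoI : ℕ := mulI zI aI

/-- A fifth letter, up to the fusion choice. -/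
structure Fifth {G : Type*} [Group G] (f : ℕ → G) (g t : G) : Prop where
  tt : t * t = 1
  tz : t * f zI = f zI * t
  tq : t * f qI = f qI * t
  trho : t * (g * f rhoI) = g * f rhoI * t
  ttau : t * f tauI * t = f tauI * t * f tauI

/-- The fusion choice given by the element numbered `m`. -/
def FusAt {G : Type*} [Group G] (f : ℕ → G) (t : G) (m : ℕ) : Prop :=
  (f 2)⁻¹ * (f qI * t) * f 2 = f m * (f qI * t) * (f m)⁻¹

theorem word_facts :
    idxW [2, 2, 2] = 0 ∧ idxW [0, 2, 1, 2, 0, 2, 1, 2] = 0 ∧ idxW [0, 3, 0, 3, 0, 3, 0, 3] = 0 ∧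
    idxW [0, 0, 2, 0, 0, 2, 0, 0, 2] = 0 ∧
    inP (idxW [0, 3]) = true ∧ idxW [3, 0, 0, 2] = invI (stdI (idxW [0, 3])) ∧
    inP (idxW [0, 0, 2, 0]) = true ∧ idxW [0, 0, 2, 0] = invI (stdI (idxW [0, 0, 2, 0])) ∧
    inP (idxW [0, 0, 0, 2, 0, 2]) = true ∧
      idxW [3, 1, 3, 1, 1, 1] = invI (stdI (idxW [0, 0, 0, 2, 0, 2])) ∧
    idxW [0, 0] = aI ∧ idxW [0, 0, 3, 1, 3, 1, 1, 1] = mulI aI (invI zI) ∧
    idxW [0, 0, 0, 2, 0, 2] = zI ∧ idxW [3, 1, 3, 1, 1, 1] = invI zI ∧
    idxW [0, 0, 0, 3, 0, 3] = qI ∧ idxW [2, 1, 2, 1, 1, 1] = invI qI ∧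
    idxW [3, 1, 3, 1] = rhoI ∧ idxW [0, 2, 0, 2] = invI rhoI ∧
    idxW [1, 3, 0, 3] = tauI ∧
    idxW [3, 0, 0, 0, 3, 0, 3] = mulI (invI 2) qI ∧ idxW [2, 0, 0] = mulI 2 goodI ∧
    idxW [2, 1, 2, 1, 1, 1, 1, 1] = mulI (invI qI) (invI goodI) ∧
    idxW [2, 1, 1] = mulI 2 badI ∧ idxW [2, 1, 2, 1] = mulI (invI qI) (invI badI) ∧
    commI qI zI = true ∧ mulI qI qI = 0 ∧ mulI tauI tauI = 0 := by
  decide +kernel

theorem Emb.sat (h : Emb f s) {g t : G} (hg : Glue f g) (ht : Fifth f g t) {m : ℕ} {r : List ℕ}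
    (hm : (m, r) = (goodI, goodRel) ∨ (m, r) = (badI, badRel)) (hf : FusAt f t m) :
    Sat f g t r := by
  obtain ⟨w1, w2, w3, w4, a1, b1, a2, b2, a3, b3, c1, c2, d1, d2, e1, e2, r1, r2, k1, f1, f2, f3, f4,
    f5, -, qq, tautau⟩ := word_facts
  have hgg : g⁻¹ = g := inv_eq_of_mul_eq_one_right hg.gg
  have htt : t⁻¹ = t := inv_eq_of_mul_eq_one_right ht.tt
  have hq : qI < 192 := const_facts.2.2.2.2.2.2.1
  have hta : tauI < 192 := const_facts.2.2.2.2.2.2.2.1
  have hz := const_facts.2.2.2.1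
  have ha := const_facts.2.2.2.2.1
  have hr : rhoI < 192 := mul_lt hz ha
  have S := h.gword_small g t
  have L4 : lets f g t 4 = g := rfl
  have L5 : lets f g t 5 = g⁻¹ := rfl
  have L6 : lets f g t 6 = t := rfl
  have L7 : lets f g t 7 = t⁻¹ := rfl
  -- the conjugation relators
  have hP : ∀ w1 w2 : List ℕ, (w1.all fun x => Nat.blt x 4) = true →
      (w2.all fun x => Nat.blt x 4) = true → inP (idxW w1) = true →
      idxW w2 = invI (stdI (idxW w1)) → gword (lets f g t) ([4] ++ w1 ++ [4] ++ w2) = 1 := by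
    intro u v hu hv hp e
    obtain ⟨l, hl, hle⟩ := exists_pelem (idxW_lt u) hp
    have hs : stdI (idxW u) < 192 := hle ▸ (std_spec hl).1
    simp only [gword_app, gword_cons, gword_nil, mul_one, L4, S u hu, S v hv, e, h.map_inv hs]
    rw [← mul_inv_cancel (f (stdI (idxW u))), ← hg.conj _ (idxW_lt u) hp]
  have hT : ∀ w1 w2 : List ℕ, (w1.all fun x => Nat.blt x 4) = true →
      (w2.all fun x => Nat.blt x 4) = true → ∀ k < 192, idxW w1 = k → idxW w2 = invI k →
      t * f k = f k * t → gword (lets f g t) ([6] ++ w1 ++ [6] ++ w2) = 1 := by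
    intro u v hu hv k hk e e' hc
    simp only [gword_app, gword_cons, gword_nil, mul_one, L6, S u hu, S v hv, e, e', h.map_inv hk]
    rw [hc, mul_assoc (f k), ht.tt, mul_one, mul_inv_cancel]
  intro w hw
  simp only [baseRels, List.mem_cons, List.not_mem_nil, or_false] at hw
  rcases hw with rfl | rfl | rfl | rfl | rfl | rfl | rfl | rfl | rfl | rfl | rfl | rfl | rfl | rfl | rfl
  · -- the fusion relator
    have h2 : (2 : ℕ) < 192 := by norm_num
    have hgood : goodI < 192 := by decide +kernel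
    have hbad : badI < 192 := by decide +kernel
    have key : ∀ k, k < 192 → FusAt f t k →
        f (mulI (invI 2) qI) * t * f (mulI 2 k) * t⁻¹ * f (mulI (invI qI) (invI k)) = 1 := by
      intro k hk hfus
      rw [h.mul _ (inv_lt h2) _ hq, h.mul _ h2 _ hk, h.mul _ (inv_lt hq) _ (inv_lt hk),
        h.map_inv h2, h.map_inv hq, h.map_inv hk]
      unfold FusAt at hfus
      calc (f 2)⁻¹ * f qI * t * (f 2 * f k) * t⁻¹ * ((f qI)⁻¹ * (f k)⁻¹)
          = (f 2)⁻¹ * (f qI * t) * f 2 * (f k * (f qI * t)⁻¹ * (f k)⁻¹) := by group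
        _ = 1 := by rw [hfus]; group
    rcases hm with e | e <;> obtain ⟨rfl, rfl⟩ := Prod.mk.injEq .. ▸ e
    · show gword (lets f g t) ([3, 0, 0, 0, 3, 0, 3] ++ [6] ++ [2, 0, 0] ++ [7] ++
        [2, 1, 2, 1, 1, 1, 1, 1]) = 1
      simp only [gword_app, L6, L7,
        S [3, 0, 0, 0, 3, 0, 3] (by decide), S [2, 0, 0] (by decide),
        S [2, 1, 2, 1, 1, 1, 1, 1] (by decide), f1, f2, f3, gword_cons, gword_nil, mul_one]
      exact key goodI hgood hf
    · show gword (lets f g t) ([3, 0, 0, 0, 3, 0, 3] ++ [6] ++ [2, 1, 1] ++ [7] ++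
        [2, 1, 2, 1]) = 1
      simp only [gword_app, L6, L7,
        S [3, 0, 0, 0, 3, 0, 3] (by decide), S [2, 1, 1] (by decide),
        S [2, 1, 2, 1] (by decide), f1, f4, f5, gword_cons, gword_nil, mul_one]
      exact key badI hbad hf
  · rw [S _ (by decide), w1, h.map_zero]
  · rw [S _ (by decide), w2, h.map_zero]
  · rw [S _ (by decide), w3, h.map_zero]
  · rw [S _ (by decide), w4, h.map_zero]
  · simp only [gword_cons, gword_nil, mul_one, L4, hg.gg]
  · exact hP [0, 3] [3, 0, 0, 2] (by decide) (by decide) a1 b1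
  · exact hP [0, 0, 2, 0] [0, 0, 2, 0] (by decide) (by decide) a2 b2
  · exact hP [0, 0, 0, 2, 0, 2] [3, 1, 3, 1, 1, 1] (by decide) (by decide) a3 b3
  · show gword (lets f g t) ([4] ++ [0, 0] ++ [4] ++ [0, 0] ++ [4] ++ [0, 0, 3, 1, 3, 1, 1, 1]) = 1
    simp only [gword_app, L4, S [0, 0] (by decide), S [0, 0, 3, 1, 3, 1, 1, 1] (by decide), c1, c2,
      gword_cons, gword_nil, mul_one, h.mul _ ha _ (inv_lt hz), h.map_inv hz]
    rw [← hg.cube]
    group
  · simp only [gword_cons, gword_nil, mul_one, L6, ht.tt]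
  · exact hT [0, 0, 0, 2, 0, 2] [3, 1, 3, 1, 1, 1] (by decide) (by decide) zI hz d1 d2 ht.tz
  · exact hT [0, 0, 0, 3, 0, 3] [2, 1, 2, 1, 1, 1] (by decide) (by decide) qI hq e1 e2 ht.tq
  · show gword (lets f g t) ([6, 4] ++ [3, 1, 3, 1] ++ [6] ++ [0, 2, 0, 2] ++ [5]) = 1
    simp only [gword_app, L4, L5, L6, S [3, 1, 3, 1] (by decide), S [0, 2, 0, 2] (by decide), r1, r2,
      gword_cons, gword_nil, mul_one, h.map_inv hr]
    calc t * g * f rhoI * t * (f rhoI)⁻¹ * g⁻¹
        = t * (g * f rhoI) * t * (g * f rhoI)⁻¹ := by group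
      _ = 1 := by rw [ht.trho, mul_assoc (g * f rhoI), ht.tt]; group
  · show gword (lets f g t) ([6] ++ [1, 3, 0, 3] ++ [6] ++ [1, 3, 0, 3] ++ [6] ++ [1, 3, 0, 3]) = 1
    simp only [gword_app, L6, S [1, 3, 0, 3] (by decide), k1, gword_cons, gword_nil, mul_one]
    have htau : f tauI * f tauI = 1 := by rw [← h.mul _ hta _ hta, tautau, h.map_zero]
    calc t * f tauI * t * f tauI * t * f tauI
        = (t * f tauI * t) * (f tauI * t * f tauI) := by group
      _ = f tauI * (t * (f tauI * f tauI) * t) * f tauI := by rw [ht.ttau]; group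
      _ = 1 := by rw [htau, mul_one, ht.tt, mul_one, htau]

end CfsgLib.M12Type
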